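import Cfsg.Agent.Lib.SymEightLocal.Global

/-!
The twisted case: membership and involutions in `(A₅ × A₅).4`.
-/

set_option autoImplicit false
set_option linter.style.haveILetI false

namespace CfsgLib.SymEightLocal

universe u

variable {G : Type u} [Group G] [Finite G]

theorem u5_sign_mul (a : Equiv.Perm (Fin 5)) (h : Equiv.Perm.sign a = -1) :
    Equiv.Perm.sign (a * u5) = 1 := by rw [map_mul, h, q_embed.2.2.2.2.2.2.2.2.2.2.2.2]; rfl

namespace Frame

variable (F : Frame G)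

/-- The four coset representatives. -/
def wd (i j : Bool) : G := (if i then F.φ qu else 1) * (if j then F.g else 1)

theorem wd_mul (i j k l : Bool) : F.wd i j * F.wd k l = F.wd (xor i k) (xor j l) := by
  have hgu : F.g * F.φ qu = F.φ qu * F.g := F.g_comm_u
  have hgg := F.g_sq
  have huu := F.u_sq
  have c : Commute (if j then F.g else 1) (if k then F.φ qu else 1) := by
    cases j <;> cases k <;> simp [Commute, SemiconjBy, hgu]
  unfold Frame.wd
  rw [show (if i then F.φ qu else 1) * (if j then F.g else 1) * ((if k then F.φ qu else 1) * (if l then F.g else 1)) =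
    (if i then F.φ qu else 1) * ((if j then F.g else 1) * (if k then F.φ qu else 1)) * (if l then F.g else 1) by group,
    c.eq]
  have huu' : ∀ y, F.φ qu * (F.φ qu * y) = y := fun y => by rw [← mul_assoc, huu, one_mul]
  cases i <;> cases j <;> cases k <;> cases l <;> simp [hgg, huu, huu', mul_assoc]

theorem wd_inv (i j : Bool) : (F.wd i j)⁻¹ = F.wd i j := by
  refine inv_eq_of_mul_eq_one_right ?_
  rw [F.wd_mul]
  cases i <;> cases j <;> simp [Frame.wd]

end Frame

namespace Twisted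

variable {F : Frame G} (T : Twisted F)

/-- Conjugation by a coset representative, on pairs. -/
noncomputable def act (i j : Bool) (p : A5 × A5) : A5 × A5 :=
  let p' := if j then (p.2, p.1) else p
  if i then (Twisted.cU p'.1, Twisted.cU p'.2) else p'

include T

theorem wd_iota (i j : Bool) (p : A5 × A5) :
    F.wd i j * T.iota p = T.iota (Twisted.act i j p) * F.wd i j := by
  rw [← mul_inv_eq_iff_eq_mul]
  have h1 : (if j then F.g else 1) * T.iota p * (if j then F.g else 1)⁻¹ = T.iota (if j then (p.2, p.1) else p) := by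
    cases j
    · simp
    · simpa using T.g_iota p.1 p.2
  unfold Frame.wd
  rw [show (if i then F.φ qu else 1) * (if j then F.g else 1) * T.iota p *
      ((if i then F.φ qu else 1) * (if j then F.g else 1))⁻¹ = (if i then F.φ qu else 1) *
      ((if j then F.g else 1) * T.iota p * (if j then F.g else 1)⁻¹) * (if i then F.φ qu else 1)⁻¹ by group, h1]
  cases i
  · simp [Twisted.act]
  · simpa [Twisted.act] using T.u_iota (if j then (p.2, p.1) else p).1 (if j then (p.2, p.1) else p).2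

/-- The subgroup `(A₅ × A₅).4`. -/
def amb : Subgroup G where
  carrier := {x | ∃ p i j, x = T.iota p * F.wd i j}
  one_mem' := ⟨1, false, false, by simp [Frame.wd]⟩
  mul_mem' := by
    rintro x y ⟨p, i, j, rfl⟩ ⟨q, k, l, rfl⟩
    refine ⟨p * Twisted.act i j q, xor i k, xor j l, ?_⟩
    rw [map_mul, ← F.wd_mul,
      show T.iota p * F.wd i j * (T.iota q * F.wd k l) = T.iota p * (F.wd i j * T.iota q) * F.wd k l by group,
      T.wd_iota]
    group
  inv_mem' := by
    rintro x ⟨p, i, j, rfl⟩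
    refine ⟨Twisted.act i j p⁻¹, i, j, ?_⟩
    rw [mul_inv_rev, F.wd_inv, ← map_inv, T.wd_iota]

theorem mem_amb {x : G} : x ∈ T.amb ↔ ∃ p i j, x = T.iota p * F.wd i j := Iff.rfl

theorem iota_mem (p : A5 × A5) : T.iota p ∈ T.amb := ⟨p, false, false, by simp [Frame.wd]⟩

theorem wd_mem (i j : Bool) : F.wd i j ∈ T.amb := ⟨1, i, j, by simp⟩

theorem g_mem : F.g ∈ T.amb := by simpa [Frame.wd] using T.wd_mem false true

theorem u_mem : F.φ qu ∈ T.amb := by simpa [Frame.wd] using T.wd_mem true false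

theorem iota_values : T.iota (1, eA) = F.φ qr ∧ T.iota (eA, 1) = F.φ qe ∧ T.iota (eA, eA) = F.φ qc ∧
    T.iota (1, cA) = F.φ qz ∧ T.iota (cA, 1) = F.φ qz' ∧ T.iota (1, sA) = F.psi qs := by
  have h1 : T.iota (1, eA) = F.φ qr := by
    rw [T.iota_apply, map_one, one_mul]; exact T.psi_qe
  have h2 : T.iota (eA, 1) = F.φ qe := by rw [T.iota_apply, map_one, mul_one]; rfl
  refine ⟨h1, h2, ?_, ?_, ?_, ?_⟩
  · rw [show ((eA, eA) : A5 × A5) = (1, eA) * (eA, 1) by simp, map_mul, h1, h2, ← map_mul]; rfl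
  · rw [T.iota_apply, map_one, one_mul]; exact T.psi_qz'
  · rw [T.iota_apply, map_one, mul_one]; rfl
  · rw [T.iota_apply, map_one, one_mul]; rfl

theorem phi_mem (q : Q35) : F.φ q ∈ T.amb := by
  obtain ⟨hr, -, -, hz, -, -⟩ := T.iota_values
  have h2 : F.φ ((1, q.2) : Q35) ∈ T.amb := by
    rcases Int.units_eq_one_or (Equiv.Perm.sign q.2) with h | h
    · have e : F.φ ((1, q.2) : Q35) = T.iota (⟨q.2, Equiv.Perm.mem_alternatingGroup.mpr h⟩, 1) := by
        rw [T.iota_apply, map_one, mul_one]; rfl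
      rw [e]; exact T.iota_mem _
    · have e : F.φ ((1, q.2) : Q35) =
          T.iota (⟨q.2 * u5, Equiv.Perm.mem_alternatingGroup.mpr (u5_sign_mul q.2 h)⟩, 1) * F.φ qu := by
        rw [T.iota_apply, map_one, mul_one]
        show _ = F.φ (iR _) * F.φ qu
        rw [← map_mul]
        congr 1
        exact Prod.ext (by simp [iR, qu]) (by simp [iR, qu, mul_assoc, q_embed.2.2.2.2.2.2.2.2.2.2.1])
      rw [e]; exact mul_mem (T.iota_mem _) T.u_mem
  have h1 : F.φ ((q.1, 1) : Q35) ∈ T.amb := by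
    have hzm : F.φ qz ∈ T.amb := hz ▸ T.iota_mem _
    have hrm : F.φ qr ∈ T.amb := hr ▸ T.iota_mem _
    obtain ⟨i, e | e⟩ := first_cases q.1 <;> rw [e]
    · rw [show ((c3 ^ (i : ℕ), 1) : Q35) = qz ^ (i : ℕ) from Prod.ext rfl (one_pow _).symm, map_pow]
      exact pow_mem hzm _
    · rw [show ((c3 ^ (i : ℕ) * t3, 1) : Q35) = qz ^ (i : ℕ) * qr from Prod.ext rfl (by
        show (1 : Equiv.Perm (Fin 5)) = 1 ^ (i : ℕ) * 1
        simp), map_mul, map_pow]
      exact mul_mem (pow_mem hzm _) hrm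
  rw [show q = (q.1, 1) * (1, q.2) by simp, map_mul]
  exact mul_mem h1 h2

theorem psi_mem_amb (q : Q35) : F.psi q ∈ T.amb :=
  mul_mem (mul_mem T.g_mem (T.phi_mem q)) (inv_mem T.g_mem)

theorem cent_u_le {x : G} (hx : x * F.φ qu = F.φ qu * x) : x ∈ T.amb := by
  obtain ⟨q, -, rfl | rfl⟩ := F.mem_normalizer_D.mp (T.cu x hx)
  · exact T.phi_mem q
  · exact mul_mem T.g_mem (T.phi_mem q)

/-- `C(r)` lies in the index two subgroup. -/
theorem cent_r_le {x : G} (hx : x * F.φ qr = F.φ qr * x) :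
    ∃ p i, x = T.iota p * F.wd i false := by
  set C := Subgroup.centralizer ({F.φ qr} : Set G)
  set B := (Subgroup.centralizer ({qr} : Set Q35)).map F.φ with hB
  have key : ∀ q : Q35, q.1 = 1 ∨ q.1 = t3 → ∃ p i, F.φ q = T.iota p * F.wd i false := by
    intro q hq
    have hfst : ∃ p : A5 × A5, F.φ ((q.1, 1) : Q35) = T.iota p := by
      rcases hq with e | e <;> rw [e]
      · exact ⟨1, by rw [map_one, show ((1, 1) : Q35) = 1 from rfl, map_one]⟩
      · exact ⟨(1, eA), T.iota_values.1.symm⟩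
    obtain ⟨p, hp⟩ := hfst
    rcases Int.units_eq_one_or (Equiv.Perm.sign q.2) with h | h
    · refine ⟨p * (⟨q.2, Equiv.Perm.mem_alternatingGroup.mpr h⟩, 1), false, ?_⟩
      rw [map_mul, ← hp, T.iota_apply, map_one, mul_one]
      show _ = F.φ _ * F.φ (iR _) * _
      rw [← map_mul]
      simp [Frame.wd, iR]
    · refine ⟨p * (⟨q.2 * u5, Equiv.Perm.mem_alternatingGroup.mpr (u5_sign_mul q.2 h)⟩, 1), true, ?_⟩
      rw [map_mul, ← hp, T.iota_apply, map_one, mul_one]
      show _ = F.φ _ * F.φ (iR _) * _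
      simp only [Frame.wd, if_true, Bool.false_eq_true, if_false, mul_one]
      rw [← map_mul, ← map_mul]
      congr 1
      exact Prod.ext (by simp [iR, qu]) (by simp [iR, qu, mul_assoc, q_embed.2.2.2.2.2.2.2.2.2.2.1])
  have keyB : ∀ b ∈ B, ∃ p i, b = T.iota p * F.wd i false := by
    rintro _ ⟨q, hq, rfl⟩
    refine key q ?_
    have h1 : q.1 * t3 = t3 * q.1 := congrArg Prod.fst (Subgroup.mem_centralizer_singleton_iff.mp hq)
    revert h1
    generalize q.1 = a
    revert a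
    decide +kernel
  have hs : F.psi qs ∈ C := T.psi_mem q_embed.2.2.2.2.2.2.2.2.1
  by_cases hxB : x ∈ B
  · exact keyB x hxB
  · have hsB : F.psi qs ∉ B := by
      rintro ⟨q, hq, e⟩
      have hz : F.psi qs * F.φ qz * (F.psi qs)⁻¹ = F.φ qz ∨ F.psi qs * F.φ qz * (F.psi qs)⁻¹ = (F.φ qz)⁻¹ := by
        have hq'' : ∀ q : Q35, q * qz * q⁻¹ = qz ∨ q * qz * q⁻¹ = qz⁻¹ := by decide +kernel
        have hq' := hq'' q
        rw [← e, ← map_inv, ← map_mul, ← map_mul, ← map_inv]
        rcases hq' with h | h <;> rw [h]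
        · exact Or.inl rfl
        · exact Or.inr rfl
      rw [← T.psi_qz', ← map_inv, ← map_mul, ← map_mul, ← map_inv] at hz
      rcases hz with h | h
      · exact absurd (F.psi_inj h) (by decide +kernel)
      · exact absurd (F.psi_inj h) (by decide +kernel)
    have hm := (Subgroup.mul_mem_iff_of_index_two (T.rel_index_two : (B.subgroupOf C).index = 2)
      (a := ⟨_, hs⟩) (b := ⟨x, Subgroup.mem_centralizer_singleton_iff.mpr hx⟩)).mpr
      (iff_of_false (fun h => hsB h) (fun h => hxB h))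
    obtain ⟨p, i, e⟩ := keyB _ (show F.psi qs * x ∈ B from hm)
    have hss : F.psi qs * F.psi qs = 1 := by rw [← map_mul, cent_r_facts.2.2.2.2.2.2.2.2.2.2.2.1, map_one]
    refine ⟨(1, sA) * p, i, ?_⟩
    rw [map_mul, T.iota_values.2.2.2.2.2, mul_assoc, ← e, ← mul_assoc, hss, one_mul]

theorem cent_r_le' {x : G} (hx : x * F.φ qr = F.φ qr * x) : x ∈ T.amb := by
  obtain ⟨p, i, e⟩ := T.cent_r_le hx
  exact ⟨p, i, false, e⟩

theorem g_not_amb0 (p : A5 × A5) (i : Bool) : F.g ≠ T.iota p * F.wd i false := by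
  intro h
  have hc : ∀ a : A5, ∃ b : A5, F.g * T.iota (a, 1) * F.g⁻¹ = T.iota (b, 1) := by
    intro a
    rw [h]
    rw [show T.iota p * F.wd i false * T.iota (a, 1) * (T.iota p * F.wd i false)⁻¹ =
      T.iota p * (F.wd i false * T.iota (a, 1)) * (F.wd i false)⁻¹ * (T.iota p)⁻¹ by group, T.wd_iota,
      show T.iota p * (T.iota (Twisted.act i false (a, 1)) * F.wd i false) * (F.wd i false)⁻¹ * (T.iota p)⁻¹ =
      T.iota p * T.iota (Twisted.act i false (a, 1)) * (T.iota p)⁻¹ by group, ← map_inv, ← map_mul, ← map_mul]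
    refine ⟨(p * Twisted.act i false (a, 1) * p⁻¹).1, congrArg T.iota (Prod.ext rfl ?_)⟩
    cases i <;> simp [Twisted.act]
  obtain ⟨b, hb⟩ := hc eA
  rw [T.g_iota] at hb
  exact a5_facts.1 (congrArg Prod.snd (T.iota_inj hb))

theorem u_not_iota (p : A5 × A5) : F.φ qu ≠ T.iota p := by
  intro h
  have hA : ∀ a : A5, u5 * (a : Equiv.Perm (Fin 5)) * u5⁻¹ = (p.1 : Equiv.Perm (Fin 5)) * a * (p.1 : Equiv.Perm (Fin 5))⁻¹ := by
    intro a
    have h1 := T.u_iota a 1
    rw [h, ← map_inv, ← map_mul, ← map_mul] at h1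
    have h2 := congrArg (fun x : A5 × A5 => (x.1 : Equiv.Perm (Fin 5))) (T.iota_inj h1)
    simp only [Twisted.cU_val] at h2
    rw [← h2]; rfl
  have h1 : Equiv.Perm.sign (p.1 : Equiv.Perm (Fin 5)) = 1 := Equiv.Perm.mem_alternatingGroup.mp p.1.2
  refine u5_not_inner p.1 h1 ?_ ?_ (hA sA).symm
  · exact (hA cA).symm.trans (by decide +kernel)
  · exact (hA eA).symm.trans q_embed.2.2.2.2.2.2.2.2.2.2.2.1

theorem rep_unique {p q : A5 × A5} {i j k l : Bool} (h : T.iota p * F.wd i j = T.iota q * F.wd k l) :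
    p = q ∧ i = k ∧ j = l := by
  have e : T.iota (q⁻¹ * p) = F.wd (xor k i) (xor l j) := by
    rw [← F.wd_mul, map_mul, map_inv]
    calc (T.iota q)⁻¹ * T.iota p = (T.iota q)⁻¹ * (T.iota p * F.wd i j) * (F.wd i j)⁻¹ := by group
      _ = _ := by rw [h, F.wd_inv]; group
  cases hl : xor l j
  · cases hk : xor k i
    · rw [hl, hk] at e
      have hp : q⁻¹ * p = 1 := T.iota_inj (by rw [e, map_one]; simp [Frame.wd])
      refine ⟨(inv_mul_eq_one.mp hp).symm, ?_, ?_⟩
      · cases i <;> cases k <;> simp_all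
      · cases j <;> cases l <;> simp_all
    · rw [hl, hk] at e
      exact absurd e.symm (by simpa [Frame.wd] using T.u_not_iota (q⁻¹ * p))
  · exfalso
    rw [hl] at e
    refine T.g_not_amb0 (Twisted.act (xor k i) false (q⁻¹ * p)) (xor k i) ?_
    rw [← T.wd_iota, e, F.wd_mul]
    simp [Frame.wd]

theorem card_amb : Nat.card T.amb = 14400 := by
  have e : Nat.card ((A5 × A5) × Bool × Bool) = 14400 := by
    rw [Nat.card_prod, Nat.card_prod, Nat.card_prod, show Nat.card A5 = 60 by rw [nat_card_alternatingGroup, Nat.card_fin]; decide,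
      show Nat.card Bool = 2 by simp]
  rw [← e]
  refine (Nat.card_congr (Equiv.ofBijective (fun x : (A5 × A5) × Bool × Bool =>
    (⟨T.iota x.1 * F.wd x.2.1 x.2.2, x.1, x.2.1, x.2.2, rfl⟩ : T.amb)) ⟨?_, ?_⟩)).symm
  · rintro ⟨p, i, j⟩ ⟨q, k, l⟩ h
    obtain ⟨h1, h2, h3⟩ := T.rep_unique (congrArg Subtype.val h)
    subst h1 h2 h3
    rfl
  · rintro ⟨x, p, i, j, rfl⟩
    exact ⟨(p, i, j), rfl⟩

theorem card_amb_cent_c : Nat.card ↥(T.amb ⊓ Subgroup.centralizer ({F.φ qc} : Set G)) = 64 := by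
  have e : Nat.card (({a : A5 // a * eA = eA * a} × {a : A5 // a * eA = eA * a}) × Bool × Bool) = 64 := by
    rw [Nat.card_prod, Nat.card_prod, Nat.card_prod, show Nat.card {a : A5 // a * eA = eA * a} = 4 from
      Nat.card_eq_fintype_card.trans a5_cent_e, show Nat.card Bool = 2 by simp]
  rw [← e]
  have hc := T.iota_values.2.2.1
  have hw : ∀ i j, F.wd i j * F.φ qc = F.φ qc * F.wd i j := by
    intro i j
    rw [← hc, T.wd_iota]
    have hcu : Twisted.cU eA = eA := Subtype.ext ((Twisted.cU_val eA).trans q_embed.2.2.2.2.2.2.2.2.2.2.2.1)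
    have : Twisted.act i j (eA, eA) = (eA, eA) := by cases i <;> cases j <;> simp [Twisted.act, hcu]
    rw [this]
  refine (Nat.card_congr (Equiv.ofBijective
    (fun x : ({a : A5 // a * eA = eA * a} × {a : A5 // a * eA = eA * a}) × Bool × Bool =>
    (⟨T.iota (x.1.1, x.1.2) * F.wd x.2.1 x.2.2, ⟨_, x.2.1, x.2.2, rfl⟩, Subgroup.mem_centralizer_singleton_iff.mpr (by
      rw [mul_assoc, hw, ← mul_assoc, ← hc, ← map_mul, ← mul_assoc (T.iota (eA, eA)), ← map_mul]
      congr 2
      exact Prod.ext x.1.1.2 x.1.2.2)⟩ :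
      ↥(T.amb ⊓ Subgroup.centralizer ({F.φ qc} : Set G)))) ⟨?_, ?_⟩)).symm
  · rintro ⟨⟨⟨a, ha⟩, ⟨b, hb⟩⟩, i, j⟩ ⟨⟨⟨a', ha'⟩, ⟨b', hb'⟩⟩, k, l⟩ h
    obtain ⟨h1, h2, h3⟩ := T.rep_unique (congrArg Subtype.val h)
    simp only [Prod.mk.injEq] at h1
    obtain ⟨rfl, rfl⟩ := h1
    subst h2 h3
    rfl
  · rintro ⟨x, ⟨p, i, j, rfl⟩, hx⟩
    have h := Subgroup.mem_centralizer_singleton_iff.mp hx
    rw [mul_assoc, hw, ← mul_assoc, ← mul_assoc, mul_right_cancel_iff, ← hc, ← map_mul, ← map_mul] at h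
    have h' := T.iota_inj h
    exact ⟨((⟨p.1, congrArg Prod.fst h'⟩, ⟨p.2, congrArg Prod.snd h'⟩), i, j), rfl⟩

theorem involution_cases {x : G} (hx : x ∈ T.amb) (h2 : x * x = 1) (h1 : x ≠ 1) :
    ∃ m ∈ T.amb, m * F.φ qu * m⁻¹ = x ∨ m * F.φ qr * m⁻¹ = x ∨ m * F.φ qc * m⁻¹ = x ∨
      m * F.g * m⁻¹ = x ∨ m * (F.g * F.φ qu) * m⁻¹ = x := by
  obtain ⟨⟨a, b⟩, i, j, rfl⟩ := hx
  have hsq : T.iota ((a, b) * Twisted.act i j (a, b)) = 1 := by
    rw [map_mul, ← h2]
    calc T.iota (a, b) * T.iota (Twisted.act i j (a, b)) =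
        T.iota (a, b) * (T.iota (Twisted.act i j (a, b)) * F.wd i j) * (F.wd i j)⁻¹ := by group
      _ = T.iota (a, b) * F.wd i j * (T.iota (a, b) * F.wd i j) := by rw [← T.wd_iota, F.wd_inv]; group
  rw [← map_one T.iota, T.iota_inj.eq_iff] at hsq
  have hA := congrArg Prod.fst hsq
  have hB := congrArg Prod.snd hsq
  cases j
  · cases i
    · simp only [Twisted.act, Bool.false_eq_true, if_false, Prod.fst_mul, Prod.snd_mul, Prod.fst_one, Prod.snd_one] at hA hB
      have hw : F.wd false false = 1 := by simp [Frame.wd]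
      rw [hw, mul_one] at h1 ⊢
      obtain ⟨hr, he, hc, -, -, -⟩ := T.iota_values
      by_cases ha : a = 1
      · subst ha
        obtain ⟨k, hk⟩ := a5_involution b hB (fun hb => h1 (by rw [hb, ← Prod.one_eq_mk, map_one]))
        refine ⟨T.iota (1, k), T.iota_mem _, Or.inr (Or.inl ?_)⟩
        rw [← hr, ← map_inv, ← map_mul, ← map_mul, ← hk]; simp
      · obtain ⟨k, hk⟩ := a5_involution a hA ha
        by_cases hb : b = 1
        · subst hb
          refine ⟨T.iota (k, 1) * F.g, mul_mem (T.iota_mem _) T.g_mem, Or.inr (Or.inl ?_)⟩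
          rw [show T.iota (k, 1) * F.g * F.φ qr * (T.iota (k, 1) * F.g)⁻¹ =
            T.iota (k, 1) * (F.g * F.φ qr * F.g⁻¹) * (T.iota (k, 1))⁻¹ by group, T.tw, ← he, ← map_inv, ← map_mul,
            ← map_mul, ← hk]
          simp
        · obtain ⟨l, hl⟩ := a5_involution b hB hb
          refine ⟨T.iota (k, l), T.iota_mem _, Or.inr (Or.inr (Or.inl ?_))⟩
          rw [← hc, ← map_inv, ← map_mul, ← map_mul, ← hk, ← hl]; simp
    · simp only [Twisted.act, Bool.false_eq_true, if_false, if_true, Prod.fst_mul, Prod.snd_mul, Prod.fst_one, Prod.snd_one] at hA hB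
      have hw : F.wd true false = F.φ qu := by simp [Frame.wd]
      rw [hw]
      have lift : ∀ a : A5, a * Twisted.cU a = 1 → ∃ h : A5, a = h * (Twisted.cU h)⁻¹ := by
        intro a ha
        have ha' := congrArg Subtype.val ha
        simp only [Subgroup.coe_mul, Twisted.cU_val, Subgroup.coe_one] at ha'
        have hu5 : u5⁻¹ = u5 := inv_eq_of_mul_eq_one_right q_embed.2.2.2.2.2.2.2.2.2.2.1
        rw [hu5] at ha'
        obtain ⟨h, hh, he⟩ := a5_odd a (Equiv.Perm.mem_alternatingGroup.mp a.2) (by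
          calc (a : Equiv.Perm (Fin 5)) * u5 * (a * u5) = a * (u5 * a * u5) := by group
            _ = 1 := ha')
        refine ⟨⟨h, Equiv.Perm.mem_alternatingGroup.mpr hh⟩, Subtype.ext ?_⟩
        simp only [Subgroup.coe_mul, Subgroup.coe_inv, Twisted.cU_val]
        calc (a : Equiv.Perm (Fin 5)) = a * u5 * u5⁻¹ := by group
          _ = h * u5 * h⁻¹ * u5⁻¹ := by rw [← he]
          _ = _ := by group
      obtain ⟨k, hk⟩ := lift a hA
      obtain ⟨l, hl⟩ := lift b hB
      refine ⟨T.iota (k, l), T.iota_mem _, Or.inl ?_⟩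
      have hui := T.u_iota k⁻¹ l⁻¹
      calc T.iota (k, l) * F.φ qu * (T.iota (k, l))⁻¹ =
          T.iota (k, l) * (F.φ qu * T.iota (k⁻¹, l⁻¹) * (F.φ qu)⁻¹) * F.φ qu := by
            rw [show ((k⁻¹, l⁻¹) : A5 × A5) = (k, l)⁻¹ from rfl, map_inv]; group
        _ = T.iota (a, b) * F.φ qu := by rw [hui, ← map_mul, hk, hl, map_inv, map_inv]; rfl
  · refine ⟨T.iota (a, 1), T.iota_mem _, ?_⟩
    have key : T.iota (a, 1) * F.wd i true * (T.iota (a, 1))⁻¹ = T.iota (a, b) * F.wd i true := by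
      have h' : T.iota (a, 1) * F.wd i true * (T.iota (a, 1))⁻¹ =
          T.iota ((a, 1) * Twisted.act i true (a, 1)⁻¹) * F.wd i true := by
        rw [map_mul, mul_assoc (T.iota (a, 1)) (T.iota _) (F.wd i true), ← T.wd_iota, map_inv]; group
      rw [h']
      congr 2
      cases i
      · simp only [Twisted.act, if_true, Bool.false_eq_true, if_false, Prod.fst_mul, Prod.snd_mul, Prod.fst_one, Prod.snd_one] at hA hB ⊢
        exact Prod.ext (by simp) (by simp [inv_eq_of_mul_eq_one_right hA])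
      · simp only [Twisted.act, if_true, Prod.fst_mul, Prod.snd_mul, Prod.fst_one, Prod.snd_one] at hA hB ⊢
        refine Prod.ext (by simp) ?_
        show (1 : A5) * Twisted.cU a⁻¹ = b
        rw [one_mul, map_inv]
        exact inv_eq_of_mul_eq_one_left hB
    cases i
    · exact Or.inr (Or.inr (Or.inr (Or.inl (by simpa [Frame.wd] using key))))
    · refine Or.inr (Or.inr (Or.inr (Or.inr ?_)))
      rw [F.g_comm_u]
      simpa [Frame.wd] using key

end Twisted

end CfsgLib.SymEightLocal
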