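import Cfsg.Agent.Lib.SymEightLocal.Setup

/-!
Elementary consequences of the coordinates: Sylow subgroup, centralizers of elements of order three.
-/

set_option autoImplicit false
set_option linter.style.haveILetI false

namespace CfsgLib.SymEightLocal

variable {G : Type*} [Group G]

namespace Frame

variable (F : Frame G)

theorem g_inv : F.g⁻¹ = F.g := inv_eq_of_mul_eq_one_right F.g_sq

theorem g_conj (x : G) : F.g * (F.g * x * F.g⁻¹) * F.g⁻¹ = x := by
  rw [F.g_inv]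
  calc F.g * (F.g * x * F.g) * F.g = (F.g * F.g) * x * (F.g * F.g) := by group
    _ = x := by rw [F.g_sq]; group

theorem g_z' : F.g * F.φ qz' * F.g⁻¹ = F.φ qz := by rw [← F.g_z, F.g_conj]

theorem g_comm_u : F.g * F.φ qu = F.φ qu * F.g := mul_inv_eq_iff_eq_mul.mp F.g_u

theorem g_comm_d : F.g * F.φ qd = F.φ qd * F.g := by
  rw [← mul_inv_eq_iff_eq_mul]
  calc F.g * F.φ qd * F.g⁻¹ = (F.g * F.φ qz * F.g⁻¹) * (F.g * F.φ qz' * F.g⁻¹) := by
        rw [← qr_facts.2.2.2.2.1, map_mul]; group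
    _ = _ := by rw [F.g_z, F.g_z', ← map_mul, qr_facts.2.2.2.2.2.1]

theorem g_not_range (q : Q35) : F.φ q ≠ F.g := by
  intro h
  have h1 := F.g_z
  rw [← h, ← map_inv, ← map_mul, ← map_mul] at h1
  have h2 := congrArg Prod.snd (F.inj h1)
  simp [qz, qz'] at h2
  exact absurd h2 (by decide +kernel)

theorem g_not_comm_z : F.g * F.φ qz ≠ F.φ qz * F.g := by
  intro h
  have h1 := F.g_z
  rw [h, mul_inv_cancel_right] at h1
  exact absurd (F.inj h1) (by decide +kernel)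

/-- The Sylow subgroup. -/
def D : Subgroup G := D0.map F.φ

theorem mem_D {x : G} : x ∈ F.D ↔ ∃ q, InD q ∧ F.φ q = x := Iff.rfl

theorem phi_mem_D {q : Q35} : F.φ q ∈ F.D ↔ InD q :=
  ⟨fun ⟨q', hq', e⟩ => F.inj e ▸ hq', fun hq => ⟨q, hq, rfl⟩⟩

theorem card_D : Nat.card F.D = 9 := by
  rw [D, Subgroup.card_map_of_injective F.inj]
  exact (Nat.card_congr (Equiv.subtypeEquivRight fun q => mem_D0)).trans
    (Nat.card_eq_fintype_card.trans inD_count)

theorem D_cube {x : G} (hx : x ∈ F.D) : x ^ 3 = 1 := by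
  obtain ⟨q, hq, rfl⟩ := hx
  rw [← map_pow, inD_cube q hq, map_one]

theorem comm_z {x : G} : x * F.φ qz = F.φ qz * x ↔ ∃ q, q * qz = qz * q ∧ F.φ q = x := by
  refine ⟨fun h => ?_, ?_⟩
  · obtain ⟨q, hq⟩ := F.range_of_conj x (Or.inl (by rw [h, mul_inv_cancel_right]))
    exact ⟨q, F.inj (by rw [map_mul, map_mul, hq, h]), hq⟩
  · rintro ⟨q, hq, rfl⟩
    rw [← map_mul, hq, map_mul]

theorem card_cent_z : Nat.card ↥(Subgroup.centralizer ({F.φ qz} : Set G)) = 360 := by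
  rw [← cent_qz_count, ← Nat.card_eq_fintype_card]
  refine (Nat.card_congr (Equiv.ofBijective (fun q : {q : Q35 // q * qz = qz * q} =>
    (⟨F.φ q, Subgroup.mem_centralizer_singleton_iff.mpr (F.comm_z.mpr ⟨q, q.2, rfl⟩)⟩ :
      Subgroup.centralizer ({F.φ qz} : Set G))) ⟨?_, ?_⟩)).symm
  · exact fun a b e => Subtype.ext (F.inj (congrArg Subtype.val e))
  · rintro ⟨x, hx⟩
    obtain ⟨q, hq, e⟩ := F.comm_z.mp (Subgroup.mem_centralizer_singleton_iff.mp hx)
    exact ⟨⟨q, hq⟩, Subtype.ext e⟩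

theorem cent_d_iff {x : G} : x * F.φ qd = F.φ qd * x ↔ ∃ q, InC q ∧ (x = F.φ q ∨ x = F.g * F.φ q) := by
  refine ⟨F.cent_d x, ?_⟩
  have hq : ∀ q, InC q → F.φ q * F.φ qd = F.φ qd * F.φ q := by
    intro q hq
    rw [← map_mul, ← map_mul, ← qr_facts.2.2.2.2.1, ← mul_assoc, hq.1, mul_assoc, hq.2, ← mul_assoc]
  rintro ⟨q, hqC, rfl | rfl⟩
  · exact hq q hqC
  · rw [mul_assoc, hq q hqC, ← mul_assoc, F.g_comm_d, mul_assoc]

theorem card_cent_d : Nat.card ↥(Subgroup.centralizer ({F.φ qd} : Set G)) = 36 := by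
  have e : Nat.card ({q : Q35 // InC q} × Bool) = 36 := by
    rw [Nat.card_prod, Nat.card_eq_fintype_card, inC_count, Nat.card_eq_fintype_card, Fintype.card_bool]
  rw [← e]
  refine (Nat.card_congr (Equiv.ofBijective (fun p : {q : Q35 // InC q} × Bool =>
    (⟨if p.2 then F.g * F.φ p.1 else F.φ p.1, Subgroup.mem_centralizer_singleton_iff.mpr (F.cent_d_iff.mpr
      ⟨p.1, p.1.2, by cases p.2 <;> simp⟩)⟩ :
      Subgroup.centralizer ({F.φ qd} : Set G))) ⟨?_, ?_⟩)).symm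
  · rintro ⟨q, i⟩ ⟨q', i'⟩ h
    have h' : (if i then F.g * F.φ q else F.φ q) = if i' then F.g * F.φ q' else F.φ q' :=
      congrArg Subtype.val h
    have hno : ∀ a b : Q35, F.g * F.φ a ≠ F.φ b := fun a b h =>
      F.g_not_range (b * a⁻¹) (by rw [map_mul, map_inv, ← h, mul_inv_cancel_right])
    cases i <;> cases i' <;> simp only [Bool.false_eq_true, if_false, if_true, mul_right_inj] at h'
    · rw [Subtype.ext (F.inj h')]
    · exact absurd h'.symm (hno _ _)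
    · exact absurd h' (hno _ _)
    · rw [Subtype.ext (F.inj h')]
  · rintro ⟨x, hx⟩
    obtain ⟨q, hq, e | e⟩ := F.cent_d x (Subgroup.mem_centralizer_singleton_iff.mp hx)
    · exact ⟨(⟨q, hq⟩, false), Subtype.ext (by simp [e])⟩
    · exact ⟨(⟨q, hq⟩, true), Subtype.ext (by simp [e])⟩

/-- Every element of the Sylow subgroup is conjugate to one of two representatives. -/
theorem inD_conj {q : Q35} (hq : InD q) (h1 : q ≠ 1) :
    ∃ h : G, (h * F.φ qu * h⁻¹ = F.φ qu ∧ ∃ k, InN k ∧ (h = F.φ k ∨ h = F.g * F.φ k)) ∧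
      (h * F.φ q * h⁻¹ = F.φ qz ∨ h * F.φ q * h⁻¹ = F.φ qd) := by
  have hk : ∀ k a b : Q35, k * qu = qu * k → b = k * a * k⁻¹ →
      F.φ k⁻¹ * F.φ qu * (F.φ k⁻¹)⁻¹ = F.φ qu ∧ F.φ k⁻¹ * F.φ b * (F.φ k⁻¹)⁻¹ = F.φ a := by
    intro k a b hc hb
    simp only [← map_inv, ← map_mul]
    refine ⟨congrArg F.φ ?_, congrArg F.φ ?_⟩
    · rw [inv_inv, mul_assoc, ← hc, inv_mul_cancel_left]
    · rw [hb]; group
  have hu1 := qr_facts.2.2.2.2.2.2.1
  have hu2 := qr_facts.2.2.2.2.2.2.2.1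
  have hu3 : qr * qr' * qu = qu * (qr * qr') := by rw [mul_assoc, hu2, ← mul_assoc, hu1, mul_assoc]
  have hg : ∀ a b : Q35, F.g * F.φ b * F.g⁻¹ = F.φ a → ∀ k, k * qu = qu * k → InN k⁻¹ → ∀ c, c = k * b * k⁻¹ →
      ∃ h : G, (h * F.φ qu * h⁻¹ = F.φ qu ∧ ∃ k, InN k ∧ (h = F.φ k ∨ h = F.g * F.φ k)) ∧
        h * F.φ c * h⁻¹ = F.φ a := by
    intro a b hab k hc hkN c hcb
    obtain ⟨e1, e2⟩ := hk k b c hc hcb
    refine ⟨F.g * F.φ k⁻¹, ⟨?_, k⁻¹, hkN, Or.inr rfl⟩, ?_⟩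
    · rw [show F.g * F.φ k⁻¹ * F.φ qu * (F.g * F.φ k⁻¹)⁻¹ =
        F.g * (F.φ k⁻¹ * F.φ qu * (F.φ k⁻¹)⁻¹) * F.g⁻¹ by group, e1, F.g_u]
    · rw [show F.g * F.φ k⁻¹ * F.φ c * (F.g * F.φ k⁻¹)⁻¹ =
        F.g * (F.φ k⁻¹ * F.φ c * (F.φ k⁻¹)⁻¹) * F.g⁻¹ by group, e2, hab]
  rcases inD_cases q hq with e | e | e | e | e | e | e | e | e
  · exact absurd e h1
  · exact ⟨1, ⟨by group, 1, gens_inv_InN.1, Or.inl (map_one F.φ).symm⟩, Or.inl (by rw [e]; group)⟩
  · obtain ⟨a, b⟩ := hk qr qz q hu1 (by rw [qr_facts.1, e])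
    exact ⟨_, ⟨a, _, gens_inv_InN.2.1, Or.inl rfl⟩, Or.inl b⟩
  · obtain ⟨h, a, b⟩ := hg qz qz' F.g_z' 1 (by group) gens_inv_InN.2.2.2.2 q (by rw [e]; group)
    exact ⟨h, a, Or.inl b⟩
  · obtain ⟨h, a, b⟩ := hg qz qz' F.g_z' qr' hu2 gens_inv_InN.2.2.1 q (by rw [e, qr_facts.2.2.1])
    exact ⟨h, a, Or.inl b⟩
  · exact ⟨1, ⟨by group, 1, gens_inv_InN.1, Or.inl (map_one F.φ).symm⟩, Or.inr (by rw [e]; group)⟩
  · obtain ⟨a, b⟩ := hk qr qd q hu1 e
    exact ⟨_, ⟨a, _, gens_inv_InN.2.1, Or.inl rfl⟩, Or.inr b⟩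
  · obtain ⟨a, b⟩ := hk qr' qd q hu2 e
    exact ⟨_, ⟨a, _, gens_inv_InN.2.2.1, Or.inl rfl⟩, Or.inr b⟩
  · obtain ⟨a, b⟩ := hk (qr * qr') qd q hu3 e
    exact ⟨_, ⟨a, _, gens_inv_InN.2.2.2.1, Or.inl rfl⟩, Or.inr b⟩

variable [Finite G]

/-- The normalizer of the Sylow subgroup. -/
theorem mem_normalizer_D {x : G} : x ∈ Subgroup.normalizer (F.D : Set G) ↔
    ∃ q, InN q ∧ (x = F.φ q ∨ x = F.g * F.φ q) := by
  have hgN : F.g ∈ Subgroup.normalizer (F.D : Set G) := by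
    have hle : F.D.map (MulAut.conj F.g).toMonoidHom ≤ F.D := by
      rintro _ ⟨_, ⟨q, hq, rfl⟩, rfl⟩
      show F.g * F.φ q * F.g⁻¹ ∈ F.D
      have hdec : q = (q.1, 1) * (1, q.2) := by simp
      rw [hdec, map_mul, show F.g * (F.φ (q.1, 1) * F.φ (1, q.2)) * F.g⁻¹ =
        (F.g * F.φ (q.1, 1) * F.g⁻¹) * (F.g * F.φ (1, q.2) * F.g⁻¹) by group]
      have h1 : F.φ qz ∈ F.D := F.phi_mem_D.mpr qd_facts.1
      have h2 : F.φ qz' ∈ F.D := F.phi_mem_D.mpr qd_facts.2.1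
      refine mul_mem ?_ ?_
      · rcases hq.1 with e | e | e <;> rw [e]
        · rw [show ((1, 1) : Q35) = 1 from rfl, map_one, mul_one, mul_inv_cancel]; exact one_mem _
        · rw [show ((c3, 1) : Q35) = qz from rfl, F.g_z]; exact h2
        · rw [show ((c3⁻¹, 1) : Q35) = qz⁻¹ by simp [qz], map_inv, ← conj_inv, F.g_z]
          exact inv_mem h2
      · rcases hq.2 with e | e | e <;> rw [e]
        · rw [show ((1, 1) : Q35) = 1 from rfl, map_one, mul_one, mul_inv_cancel]; exact one_mem _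
        · rw [show ((1, c5) : Q35) = qz' from rfl, F.g_z']; exact h1
        · rw [show ((1, c5⁻¹) : Q35) = qz'⁻¹ by simp [qz'], map_inv, ← conj_inv, F.g_z']
          exact inv_mem h1
    refine Subgroup.mem_normalizer_iff.mpr fun a => ⟨fun ha => hle ⟨a, ha, rfl⟩, fun ha => ?_⟩
    have := hle ⟨_, ha, rfl⟩
    have e : F.g * (F.g * a * F.g⁻¹) * F.g⁻¹ = a := F.g_conj a
    rwa [show (MulAut.conj F.g).toMonoidHom (F.g * a * F.g⁻¹) = a from e] at this
  have hq : ∀ q, F.φ q ∈ Subgroup.normalizer (F.D : Set G) ↔ InN q := by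
    intro q
    constructor
    · intro h
      refine inN_of_conj q (F.phi_mem_D.mp ?_)
      rw [map_mul, map_mul, map_inv]
      exact (Subgroup.mem_normalizer_iff.mp h _).mp (F.phi_mem_D.mpr qd_facts.2.1)
    · intro h
      have hle : F.D.map (MulAut.conj (F.φ q)).toMonoidHom ≤ F.D := by
        rintro _ ⟨_, ⟨p, hp, rfl⟩, rfl⟩
        show F.φ q * F.φ p * (F.φ q)⁻¹ ∈ F.D
        obtain ⟨hA, hB⟩ := inN_conj_inD q h
        rw [← map_inv, ← map_mul, ← map_mul, F.phi_mem_D]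
        have hdec : p = (p.1, 1) * (1, p.2) := by simp
        rw [hdec, show q * ((p.1, 1) * (1, p.2)) * q⁻¹ = (q * (p.1, 1) * q⁻¹) * (q * (1, p.2) * q⁻¹) by group]
        refine inD_mul _ _ ?_ ?_
        · rcases hp.1 with e | e | e <;> rw [e]
          · rw [show ((1, 1) : Q35) = 1 from rfl, mul_one, mul_inv_cancel]
            exact mem_D0.mp D0.one_mem
          · exact hA
          · rw [show ((c3⁻¹, 1) : Q35) = qz⁻¹ by simp [qz], ← conj_inv]
            exact mem_D0.mp (D0.inv_mem hA)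
        · rcases hp.2 with e | e | e <;> rw [e]
          · rw [show ((1, 1) : Q35) = 1 from rfl, mul_one, mul_inv_cancel]
            exact mem_D0.mp D0.one_mem
          · exact hB
          · rw [show ((1, c5⁻¹) : Q35) = qz'⁻¹ by simp [qz'], ← conj_inv]
            exact mem_D0.mp (D0.inv_mem hB)
      refine Subgroup.mem_normalizer_iff.mpr fun a => ⟨fun ha => hle ⟨a, ha, rfl⟩, fun ha => ?_⟩
      rw [← Subgroup.eq_of_le_of_card_ge hle
        (le_of_eq (Subgroup.card_map_of_injective (MulAut.conj (F.φ q)).injective).symm)] at ha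
      obtain ⟨b, hb, hba⟩ := ha
      rwa [show a = b from (MulAut.conj (F.φ q)).injective hba.symm]
  constructor
  · intro hx
    obtain ⟨p, hp, he⟩ := (Subgroup.mem_normalizer_iff.mp hx _).mp (F.phi_mem_D.mpr qd_facts.1)
    have hp1 : p ≠ 1 := by
      intro h
      rw [h, map_one] at he
      exact d0_ne.2.1 (F.inj ((conj_eq_one_iff.mp he.symm).trans (map_one F.φ).symm))
    have hdiag : ∀ k, p ≠ k * qd * k⁻¹ := by
      intro k e
      have hc : Nat.card ↥(Subgroup.centralizer ({F.φ qz} : Set G)) ≤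
          Nat.card ↥(Subgroup.centralizer ({F.φ qd} : Set G)) := by
        refine Nat.card_le_card_of_injective (fun a => (⟨(F.φ k)⁻¹ * x * a * ((F.φ k)⁻¹ * x)⁻¹,
          Subgroup.mem_centralizer_singleton_iff.mpr ?_⟩ : Subgroup.centralizer ({F.φ qd} : Set G)))
          (fun a b h => Subtype.ext (mul_left_cancel (mul_right_cancel (congrArg Subtype.val h))))
        have e2 : F.φ qd = (F.φ k)⁻¹ * x * F.φ qz * ((F.φ k)⁻¹ * x)⁻¹ := by
          rw [show (F.φ k)⁻¹ * x * F.φ qz * ((F.φ k)⁻¹ * x)⁻¹ =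
            (F.φ k)⁻¹ * (x * F.φ qz * x⁻¹) * F.φ k by group, ← he, e, map_mul, map_mul, map_inv]
          group
        have ha := Subgroup.mem_centralizer_singleton_iff.mp a.2
        rw [e2]
        calc (F.φ k)⁻¹ * x * a * ((F.φ k)⁻¹ * x)⁻¹ * ((F.φ k)⁻¹ * x * F.φ qz * ((F.φ k)⁻¹ * x)⁻¹) =
            (F.φ k)⁻¹ * x * (a * F.φ qz) * ((F.φ k)⁻¹ * x)⁻¹ := by group
          _ = _ := by rw [ha]; group
      rw [F.card_cent_z, F.card_cent_d] at hc
      omega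
    have key : ∀ b : G, (b * F.φ qz * b⁻¹ = F.φ qz ∨ b * F.φ qz * b⁻¹ = (F.φ qz)⁻¹) →
        b ∈ Subgroup.normalizer (F.D : Set G) → ∃ q, InN q ∧ F.φ q = b := by
      intro b hb hbN
      obtain ⟨q, e⟩ := F.range_of_conj b hb
      exact ⟨q, (hq q).mp (e ▸ hbN), e⟩
    have hgx : ∀ q, F.φ q = F.g * x → x = F.g * F.φ q := fun q e => by
      rw [e, ← mul_assoc, F.g_sq, one_mul]
    rcases inD_cases p hp with e | e | e | e | e | e | e | e | e
    · exact absurd e hp1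
    · obtain ⟨q, h1, h2⟩ := key x (Or.inl (by rw [← he, e])) hx
      exact ⟨q, h1, Or.inl h2.symm⟩
    · obtain ⟨q, h1, h2⟩ := key x (Or.inr (by rw [← he, e, map_inv])) hx
      exact ⟨q, h1, Or.inl h2.symm⟩
    · obtain ⟨q, h1, h2⟩ := key (F.g * x) (Or.inl (by
        rw [show F.g * x * F.φ qz * (F.g * x)⁻¹ = F.g * (x * F.φ qz * x⁻¹) * F.g⁻¹ by group, ← he, e, F.g_z']))
        (mul_mem hgN hx)
      exact ⟨q, h1, Or.inr (hgx q h2)⟩
    · obtain ⟨q, h1, h2⟩ := key (F.g * x) (Or.inr (by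
        rw [show F.g * x * F.φ qz * (F.g * x)⁻¹ = F.g * (x * F.φ qz * x⁻¹) * F.g⁻¹ by group, ← he, e,
          map_inv, ← conj_inv, F.g_z']))
        (mul_mem hgN hx)
      exact ⟨q, h1, Or.inr (hgx q h2)⟩
    · exact absurd (e.trans (by group : qd = 1 * qd * 1⁻¹)) (hdiag 1)
    · exact absurd e (hdiag _)
    · exact absurd e (hdiag _)
    · exact absurd e (hdiag _)
  · rintro ⟨q, hqN, rfl | rfl⟩
    · exact (hq q).mpr hqN
    · exact mul_mem hgN ((hq q).mpr hqN)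

theorem normalizer_comm_u {x : G} (hx : x ∈ Subgroup.normalizer (F.D : Set G)) :
    x * F.φ qu = F.φ qu * x := by
  obtain ⟨q, hq, rfl | rfl⟩ := F.mem_normalizer_D.mp hx
  · rw [← map_mul, inN_comm_qu q hq, map_mul]
  · rw [mul_assoc, ← map_mul, inN_comm_qu q hq, map_mul, ← mul_assoc, F.g_comm_u, mul_assoc]

/-- The common centralizer of two elements. -/
def cent2 (a b : G) : Subgroup G := Subgroup.centralizer ({a} : Set G) ⊓ Subgroup.centralizer ({b} : Set G)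

omit [Finite G] in
theorem mem_cent2 {a b x : G} : x ∈ cent2 a b ↔ x * a = a * x ∧ x * b = b * x := by
  simp only [cent2, Subgroup.mem_inf, Subgroup.mem_centralizer_singleton_iff]

theorem card_cent2_conj (h a b : G) :
    Nat.card ↥(cent2 (h * a * h⁻¹) (h * b * h⁻¹)) = Nat.card ↥(cent2 a b) := by
  have : cent2 (h * a * h⁻¹) (h * b * h⁻¹) = (cent2 a b).map (MulAut.conj h).toMonoidHom := by
    ext w
    rw [Subgroup.mem_map_equiv, MulAut.conj_symm_apply, mem_cent2, mem_cent2]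
    have aux : ∀ c : G, w * (h * c * h⁻¹) = h * c * h⁻¹ * w ↔ h⁻¹ * w * h * c = c * (h⁻¹ * w * h) := by
      intro c
      constructor <;> intro e
      · calc h⁻¹ * w * h * c = h⁻¹ * (w * (h * c * h⁻¹)) * h := by group
          _ = _ := by rw [e]; group
      · calc w * (h * c * h⁻¹) = h * (h⁻¹ * w * h * c) * h⁻¹ := by group
          _ = _ := by rw [e]; group
    rw [aux, aux]
  rw [this, Subgroup.card_map_of_injective (MulAut.conj h).injective]

theorem card_cent2_u {q : Q35} (hq : InD q) (h1 : q ≠ 1) : Nat.card ↥(cent2 (F.φ qu) (F.φ q)) = 36 := by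
  obtain ⟨h, ⟨hu, -⟩, hc⟩ := F.inD_conj hq h1
  rw [← card_cent2_conj h, hu]
  rcases hc with e | e <;> rw [e]
  · rw [← cent_qu_qz, ← Nat.card_eq_fintype_card]
    refine (Nat.card_congr (Equiv.ofBijective (fun q : {q : Q35 // q * qz = qz * q ∧ q * qu = qu * q} =>
      (⟨F.φ q, mem_cent2.mpr ⟨by rw [← map_mul, q.2.2, map_mul], by rw [← map_mul, q.2.1, map_mul]⟩⟩ :
        cent2 (F.φ qu) (F.φ qz))) ⟨?_, ?_⟩)).symm
    · exact fun a b e => Subtype.ext (F.inj (congrArg Subtype.val e))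
    · rintro ⟨x, hx⟩
      obtain ⟨hxu, hxz⟩ := mem_cent2.mp hx
      obtain ⟨q, hq, rfl⟩ := F.comm_z.mp hxz
      exact ⟨⟨q, hq, F.inj (by rw [map_mul, map_mul, hxu])⟩, rfl⟩
  · have : cent2 (F.φ qu) (F.φ qd) = Subgroup.centralizer ({F.φ qd} : Set G) := by
      refine le_antisymm inf_le_right fun x hx => ?_
      refine ⟨Subgroup.mem_centralizer_singleton_iff.mpr ?_, hx⟩
      obtain ⟨q, hq, rfl | rfl⟩ := F.cent_d x (Subgroup.mem_centralizer_singleton_iff.mp hx)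
      · rw [← map_mul, qu_cent q hq.1 hq.2, map_mul]
      · rw [mul_assoc, ← map_mul, qu_cent q hq.1 hq.2, map_mul, ← mul_assoc, F.g_comm_u, mul_assoc]
    rw [this, F.card_cent_d]

include F in
theorem card_sylow_three (P : Sylow 3 G) : Nat.card (P : Subgroup G) = 9 := by
  haveI : Fact (Nat.Prime 3) := ⟨Nat.prime_three⟩
  have h1 : (9 : ℕ) ∣ Nat.card G := F.card_D ▸ Subgroup.card_subgroup_dvd_card F.D
  have h0 : Nat.card G ≠ 0 := Nat.card_pos.ne'
  rw [P.card_eq_multiplicity]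
  have h2 : 2 ≤ (Nat.card G).factorization 3 :=
    (Nat.prime_three.pow_dvd_iff_le_factorization h0).mp h1
  have h3 : ¬ 3 ≤ (Nat.card G).factorization 3 := fun h =>
    F.three ((Nat.prime_three.pow_dvd_iff_le_factorization h0).mpr h)
  rw [show (Nat.card G).factorization 3 = 2 by omega]
  norm_num

/-- A three-element centralizing `u` is conjugate into `D` inside the centralizer of `u`. -/
theorem exists_conj_D {d : G} (hd : d ^ 3 = 1) (hdu : d * F.φ qu = F.φ qu * d) :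
    ∃ h : G, h * F.φ qu * h⁻¹ = F.φ qu ∧ h * d * h⁻¹ ∈ F.D := by
  haveI : Fact (Nat.Prime 3) := ⟨Nat.prime_three⟩
  set H := Subgroup.centralizer ({F.φ qu} : Set G) with hH
  have hDH : F.D ≤ H := by
    rintro _ ⟨q, hq, rfl⟩
    rw [hH, Subgroup.mem_centralizer_singleton_iff, ← map_mul]
    rcases eq_or_ne q 1 with rfl | h1
    · simp
    · rw [inN_of_conj' q hq h1, map_mul]
  have hcD : Nat.card ↥(F.D.subgroupOf H) = 9 := by
    rw [Nat.card_congr (Subgroup.subgroupOfEquivOfLe hDH).toEquiv, F.card_D]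
  have hDp : IsPGroup 3 ↥(F.D.subgroupOf H) := IsPGroup.of_card (n := 2) (by rw [hcD]; norm_num)
  have hidx : ¬ 3 ∣ (F.D.subgroupOf H).index := by
    intro h3
    apply F.three
    have h1 := Subgroup.card_mul_index (F.D.subgroupOf H)
    rw [hcD] at h1
    have h27 : 27 ∣ Nat.card H := by
      rw [← h1, show (27 : ℕ) = 9 * 3 by norm_num]
      exact Nat.mul_dvd_mul_left 9 h3
    exact h27.trans (Subgroup.card_subgroup_dvd_card H)
  let S : Sylow 3 H := hDp.toSylow hidx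
  let d' : H := ⟨d, Subgroup.mem_centralizer_singleton_iff.mpr hdu⟩
  have hz : IsPGroup 3 (Subgroup.zpowers d') := by
    obtain ⟨k, -, hk⟩ := (Nat.dvd_prime_pow Nat.prime_three).mp
      (show orderOf d' ∣ 3 ^ 1 from orderOf_dvd_of_pow_eq_one (Subtype.ext hd))
    exact IsPGroup.of_card (n := k) (by rw [Nat.card_zpowers, hk])
  obtain ⟨T, hT⟩ := hz.exists_le_sylow
  obtain ⟨h, hh⟩ := MulAction.exists_smul_eq H T S
  refine ⟨h, mul_inv_eq_iff_eq_mul.mpr (Subgroup.mem_centralizer_singleton_iff.mp h.2), ?_⟩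
  have hm : h * d' * h⁻¹ ∈ (S : Subgroup H) := by
    rw [← hh]
    exact ⟨d', hT (Subgroup.mem_zpowers d'), rfl⟩
  exact hm

/-- A conjugate of `u` has a centralizer of order 36 on each of its elements of order three. -/
theorem card_cent2_of_isConj {k d : G} (hk : IsConj (F.φ qu) k) (hd : d ^ 3 = 1) (hd1 : d ≠ 1)
    (hkd : d * k = k * d) : Nat.card ↥(cent2 k d) = 36 := by
  obtain ⟨c, rfl⟩ := isConj_iff.mp hk
  have hd' : (c⁻¹ * d * c) ^ 3 = 1 := by
    have := conj_pow (i := 3) (a := c⁻¹) (b := d)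
    rw [inv_inv] at this
    rw [this, hd]; group
  have hdu : c⁻¹ * d * c * F.φ qu = F.φ qu * (c⁻¹ * d * c) := by
    calc c⁻¹ * d * c * F.φ qu = c⁻¹ * (d * (c * F.φ qu * c⁻¹)) * c := by group
      _ = _ := by rw [hkd]; group
  obtain ⟨h, hu, hm⟩ := F.exists_conj_D hd' hdu
  obtain ⟨q, hq, hqe⟩ := F.mem_D.mp hm
  have hq1 : q ≠ 1 := by
    intro e
    rw [e, map_one] at hqe
    have := conj_eq_one_iff.mp hqe.symm
    have e' := conj_eq_one_iff (a := c⁻¹) (b := d)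
    rw [inv_inv] at e'
    exact hd1 (e'.mp this)
  rw [← card_cent2_conj (h * c⁻¹),
    show h * c⁻¹ * (c * F.φ qu * c⁻¹) * (h * c⁻¹)⁻¹ = h * F.φ qu * h⁻¹ by group, hu,
    show h * c⁻¹ * d * (h * c⁻¹)⁻¹ = h * (c⁻¹ * d * c) * h⁻¹ by group, ← hqe]
  exact F.card_cent2_u hq hq1

/-- Conjugates of `u` centralizing the diagonal element commute with `z`. -/
theorem comm_z_of_isConj {k : G} (hk : IsConj (F.φ qu) k) (hkd : k * F.φ qd = F.φ qd * k) :
    k * F.φ qz = F.φ qz * k := by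
  have h36 := F.card_cent2_of_isConj hk (by rw [← map_pow, d0_ne.2.2.2.1, map_one])
    (fun h => d0_ne.1 (F.inj (h.trans (map_one F.φ).symm))) hkd.symm
  have heq : cent2 k (F.φ qd) = Subgroup.centralizer ({F.φ qd} : Set G) :=
    Subgroup.eq_of_le_of_card_ge inf_le_right (by rw [h36, F.card_cent_d])
  have hz : F.φ qz ∈ cent2 k (F.φ qd) := by
    rw [heq, Subgroup.mem_centralizer_singleton_iff, ← map_mul, ← map_mul, ← qr_facts.2.2.2.2.1,
      mul_assoc, show qz' * qz = qz * qz' by rw [qr_facts.2.2.2.2.1, qr_facts.2.2.2.2.2.1]]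
  exact ((mem_cent2.mp hz).1).symm

theorem not_isConj_g : ¬ IsConj (F.φ qu) F.g := fun h => F.g_not_comm_z (F.comm_z_of_isConj h F.g_comm_d)

theorem not_isConj_gu : ¬ IsConj (F.φ qu) (F.g * F.φ qu) := by
  intro h
  have hc : F.φ qu * F.φ qd = F.φ qd * F.φ qu := by
    rw [← map_mul, ← map_mul, inN_of_conj' qd qd_facts.2.2.1 d0_ne.1]
  have h2 := F.comm_z_of_isConj h (by rw [mul_assoc, hc, ← mul_assoc, F.g_comm_d, mul_assoc])
  apply F.g_not_comm_z
  have hz : F.φ qu * F.φ qz = F.φ qz * F.φ qu := by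
    rw [← map_mul, ← map_mul, qr_facts.2.2.2.2.2.2.2.2.1]
  rw [mul_assoc, hz, ← mul_assoc, ← mul_assoc] at h2
  exact mul_right_cancel h2

/-- The double transposition is not conjugate to `u`. -/
theorem not_isConj_e : ¬ IsConj (F.φ qu) (F.φ (qr' * qu)) := by
  intro h
  have hc : F.φ qz * F.φ (qr' * qu) = F.φ (qr' * qu) * F.φ qz := by
    rw [← map_mul, ← map_mul]
    exact congrArg F.φ (show qz * (qr' * qu) = qr' * qu * qz by decide +kernel)
  have h36 := F.card_cent2_of_isConj h (by rw [← map_pow, d0_ne.2.2.2.2.1, map_one])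
    (fun e => d0_ne.2.1 (F.inj (e.trans (map_one F.φ).symm))) hc
  have h24 : Nat.card ↥(cent2 (F.φ (qr' * qu)) (F.φ qz)) = 24 := by
    rw [← cent_qe_qz, ← Nat.card_eq_fintype_card]
    refine (Nat.card_congr (Equiv.ofBijective
      (fun q : {q : Q35 // q * qz = qz * q ∧ q * (qr' * qu) = (qr' * qu) * q} =>
      (⟨F.φ q, mem_cent2.mpr ⟨by rw [← map_mul, q.2.2, map_mul], by rw [← map_mul, q.2.1, map_mul]⟩⟩ :
        cent2 (F.φ (qr' * qu)) (F.φ qz))) ⟨?_, ?_⟩)).symm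
    · exact fun a b e => Subtype.ext (F.inj (congrArg Subtype.val e))
    · rintro ⟨x, hx⟩
      obtain ⟨hxu, hxz⟩ := mem_cent2.mp hx
      obtain ⟨q, hq, rfl⟩ := F.comm_z.mp hxz
      exact ⟨⟨q, hq, F.inj (by rw [map_mul F.φ q, map_mul F.φ (qr' * qu) q, hxu])⟩, rfl⟩
  omega

end Frame

end CfsgLib.SymEightLocal
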