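import Cfsg.Agent.Lib.SymEightLocal.Refute

/-!
The untwisted case: a subgroup of index two satisfying the three-local conditions of `A₈`.
-/

set_option autoImplicit false
set_option linter.style.haveILetI false

namespace CfsgLib.SymEightLocal

universe u

variable {G : Type u} [Group G] [Finite G]

namespace Frame

variable (F : Frame G)

theorem g_r'_of_swap (hI : F.g * F.φ qr * F.g⁻¹ = F.φ qr') : F.g * F.φ qr' * F.g⁻¹ = F.φ qr := by
  rw [← hI, F.g_conj]

theorem g_comm_rr' (hI : F.g * F.φ qr * F.g⁻¹ = F.φ qr') :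
    F.g * F.φ (qr * qr') = F.φ (qr * qr') * F.g := by
  rw [← mul_inv_eq_iff_eq_mul, map_mul,
    show F.g * (F.φ qr * F.φ qr') * F.g⁻¹ = (F.g * F.φ qr * F.g⁻¹) * (F.g * F.φ qr' * F.g⁻¹) by group,
    hI, F.g_r'_of_swap hI, ← map_mul, ← map_mul, qt_facts.2.2.2.1]

theorem g_not_InC (q : Q35) : F.g * F.φ qu ≠ F.φ q := fun h =>
  F.g_not_range (q * qu) (by rw [map_mul, ← h, mul_assoc, F.u_sq, mul_one])

theorem card_normalizer_D : Nat.card ↥(Subgroup.normalizer (F.D : Set G)) = 144 := by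
  have e : Nat.card ({q : Q35 // InN q} × Bool) = 144 := by
    rw [Nat.card_prod, Nat.card_eq_fintype_card, inN_count, Nat.card_eq_fintype_card, Fintype.card_bool]
  rw [← e]
  refine (Nat.card_congr (Equiv.ofBijective (fun p : {q : Q35 // InN q} × Bool =>
    (⟨if p.2 then F.g * F.φ p.1 else F.φ p.1, F.mem_normalizer_D.mpr
      ⟨p.1, p.1.2, by cases p.2 <;> simp⟩⟩ : Subgroup.normalizer (F.D : Set G))) ⟨?_, ?_⟩)).symm
  · rintro ⟨q, i⟩ ⟨q', i'⟩ h
    have h' : (if i then F.g * F.φ q else F.φ q) = if i' then F.g * F.φ q' else F.φ q' :=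
      congrArg Subtype.val h
    have hno : ∀ a b : Q35, F.g * F.φ a ≠ F.φ b := fun a b h =>
      F.g_not_range (b * a⁻¹) (by rw [map_mul, map_inv, ← h, mul_inv_cancel_right])
    cases i <;> cases i' <;> simp only [Bool.false_eq_true, if_false, if_true, mul_right_inj] at h'
    · rw [Subtype.ext (F.inj h')]
    · exact absurd h'.symm (hno _ _)
    · exact absurd h' (hno _ _)
    · rw [Subtype.ext (F.inj h')]
  · rintro ⟨x, hx⟩
    obtain ⟨q, hq, e | e⟩ := F.mem_normalizer_D.mp hx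
    · exact ⟨(⟨q, hq⟩, false), Subtype.ext (by simp [e])⟩
    · exact ⟨(⟨q, hq⟩, true), Subtype.ext (by simp [e])⟩

/-- Here the centralizer of `u` has an element of order five. -/
theorem not_le_normalizer (hI : F.g * F.φ qr * F.g⁻¹ = F.φ qr')
    (h : ∀ x : G, x * F.φ qu = F.φ qu * x → x ∈ Subgroup.normalizer (F.D : Set G)) : False := by
  set c := (F.φ qs)⁻¹ * F.g with hc
  have hcr : c * F.φ qr * c⁻¹ = F.φ qu := by
    rw [hc, show (F.φ qs)⁻¹ * F.g * F.φ qr * ((F.φ qs)⁻¹ * F.g)⁻¹ =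
      (F.φ qs)⁻¹ * (F.g * F.φ qr * F.g⁻¹) * F.φ qs by group, hI, ← qs_facts.1, map_mul, map_mul, map_inv]
    group
  have hm : c * F.φ qt * c⁻¹ ∈ Subgroup.normalizer (F.D : Set G) := h _ (by
    rw [← hcr, show c * F.φ qt * c⁻¹ * (c * F.φ qr * c⁻¹) = c * (F.φ qt * F.φ qr) * c⁻¹ by group,
      ← map_mul, qt_facts.1, map_mul]
    group)
  haveI : Fact (Nat.Prime 5) := ⟨by norm_num⟩
  have h5 : orderOf (c * F.φ qt * c⁻¹) = 5 := by
    rw [show c * F.φ qt * c⁻¹ = MulAut.conj c (F.φ qt) from rfl, MulEquiv.orderOf_eq, orderOf_injective F.φ F.inj]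
    exact orderOf_eq_prime qt_facts.2.1 qt_facts.2.2.1
  have := Subgroup.orderOf_dvd_natCard _ hm
  rw [h5, F.card_normalizer_D] at this
  omega

theorem u_isConj_r (hI : F.g * F.φ qr * F.g⁻¹ = F.φ qr') : IsConj (F.φ qu) (F.φ qr) :=
  F.u_isConj_r'.trans (isConj_iff.mpr ⟨F.g, F.g_r'_of_swap hI⟩)

/-- The sign homomorphism. -/
theorem exists_sign (hI : F.g * F.φ qr * F.g⁻¹ = F.φ qr') (P : Proj F) :
    ∃ f : G →* ℤˣ, f (F.φ qu) = -1 ∧ (∀ q : Q35, f (F.φ q) = Equiv.Perm.sign q.1 * Equiv.Perm.sign q.2) := by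
  have hX : IsConj (F.φ qu) (F.φ qr) := F.u_isConj_r hI
  have hnot : ¬ IsConj (F.φ qu) (F.φ qr * F.φ qu) := by
    intro h
    refine F.not_isConj_e (h.trans (isConj_iff.mpr ⟨F.g, ?_⟩))
    rw [map_mul, show F.g * (F.φ qr * F.φ qu) * F.g⁻¹ = (F.g * F.φ qr * F.g⁻¹) * (F.g * F.φ qu * F.g⁻¹) by group,
      hI, F.g_u]
  have hru : F.φ qr * F.φ qu = F.φ qu * F.φ qr := by rw [← map_mul, qr_facts.2.2.2.2.2.2.1, map_mul]
  obtain ⟨f, hf⟩ := P.exists_hom (a := ⟨F.φ qr, Subgroup.mem_centralizer_singleton_iff.mpr hru⟩) hX hnot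
    (P.sign_of_comm (d := ⟨F.φ qz', F.D_le_cent_u (F.phi_mem_D.mpr qd_facts.2.1)⟩)
      (by rw [← map_mul, qr_facts.2.2.2.2.2.2.2.2.2.2.1, map_one])
      (fun e => qs_facts.2.2.2.2.2.2.2.2.2.2.2.2.2.2.2.1 (F.inj (e.trans (map_one F.φ).symm)))
      (fun e => qs_facts.2.2.2.2.2.2.2.2.2.2.1 (F.inj e))
      (by rw [← map_pow, d0_ne.2.2.2.2.2.1, map_one])
      (fun e => d0_ne.2.2.1 (F.inj (e.trans (map_one F.φ).symm)))
      (by rw [← map_mul, qs_facts.2.2.2.2.2.2.2.2.2.1, map_mul]))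
  have hfX : ∀ x, IsConj (F.φ qu) x → f x = -1 := fun x hx => by
    obtain ⟨c, rfl⟩ := isConj_iff.mp hx
    rw [map_mul, map_mul, map_inv, hf, mul_comm (f c), mul_assoc, mul_inv_cancel, mul_one]
  refine ⟨f, hf, fun q => ?_⟩
  have h1 : (f.comp F.φ).comp (MonoidHom.inl _ _) = Equiv.Perm.sign := by
    refine Equiv.Perm.eq_sign_of_surjective_hom fun y => ?_
    rcases Int.units_eq_one_or y with rfl | rfl
    · exact ⟨1, map_one _⟩
    · exact ⟨t3, hfX _ hX⟩
  have h2 : (f.comp F.φ).comp (MonoidHom.inr _ _) = Equiv.Perm.sign := by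
    refine Equiv.Perm.eq_sign_of_surjective_hom fun y => ?_
    rcases Int.units_eq_one_or y with rfl | rfl
    · exact ⟨1, map_one _⟩
    · exact ⟨t5, hfX _ F.u_isConj_r'⟩
  have hq : q = (q.1, 1) * (1, q.2) := by simp
  rw [← DFunLike.congr_fun h1 q.1, ← DFunLike.congr_fun h2 q.2]
  conv_lhs => rw [hq, map_mul, map_mul]
  rfl

variable (f : G →* ℤˣ)

theorem D_le_ker : F.D ≤ f.ker := fun x hx => by
  rw [MonoidHom.mem_ker]
  rcases Int.units_eq_one_or (f x) with e | e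
  · exact e
  · have := congrArg f (F.D_cube hx)
    rw [map_pow, e, map_one] at this
    exact absurd this (by decide)

theorem ker_adjust (hfu : f (F.φ qu) = -1) (x : G) : x ∈ f.ker ∨ x * F.φ qu ∈ f.ker := by
  simp only [MonoidHom.mem_ker, map_mul, hfu]
  rcases Int.units_eq_one_or (f x) with e | e <;> rw [e] <;> decide

theorem inC_ker (hfu : f (F.φ qu) = -1) {q : Q35} (hq : InC q) (hk : F.φ q ∈ f.ker) : InD q := by
  rcases (inC_iff q).mp hq with h | h
  · exact h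
  · exfalso
    have h1 : F.φ q * F.φ qu ∈ f.ker := by
      rw [← map_mul]; exact F.D_le_ker f (F.phi_mem_D.mpr h)
    have h2 := mul_mem (inv_mem hk) h1
    rw [inv_mul_cancel_left, MonoidHom.mem_ker, hfu] at h2
    exact absurd h2 (by decide)

/-- The Sylow subgroup inside the kernel. -/
def DK : Subgroup ↥f.ker := F.D.subgroupOf f.ker

theorem card_DK : Nat.card ↥(F.DK f) = 9 :=
  (Nat.card_congr (Subgroup.subgroupOfEquivOfLe (F.D_le_ker f)).toEquiv).trans F.card_D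

theorem exists_sylow_DK : ∃ P : Sylow 3 ↥f.ker, F.DK f = P := by
  haveI : Fact (Nat.Prime 3) := ⟨Nat.prime_three⟩
  have hp : IsPGroup 3 ↥(F.DK f) := IsPGroup.of_card (n := 2) (by rw [F.card_DK]; norm_num)
  have hidx : ¬ 3 ∣ (F.DK f).index := by
    intro h3
    apply F.three
    have h1 := Subgroup.card_mul_index (F.DK f)
    rw [F.card_DK] at h1
    have h27 : 27 ∣ Nat.card f.ker := by
      rw [← h1, show (27 : ℕ) = 9 * 3 by norm_num]
      exact Nat.mul_dvd_mul_left 9 h3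
    exact h27.trans (Subgroup.card_subgroup_dvd_card _)
  exact ⟨hp.toSylow hidx, rfl⟩

theorem closure_dz :
    Subgroup.closure {(⟨F.φ qd, F.D_le_ker f (F.phi_mem_D.mpr qd_facts.2.2.1)⟩ : ↥f.ker),
      ⟨F.φ qz, F.D_le_ker f (F.phi_mem_D.mpr qd_facts.1)⟩} = F.DK f := by
  apply le_antisymm
  · rw [Subgroup.closure_le]
    rintro x (rfl | rfl)
    · exact F.phi_mem_D.mpr qd_facts.2.2.1
    · exact F.phi_mem_D.mpr qd_facts.1
  · rintro ⟨x, hxK⟩ ⟨q, hq, rfl⟩
    set C := Subgroup.closure {(⟨F.φ qd, F.D_le_ker f (F.phi_mem_D.mpr qd_facts.2.2.1)⟩ : ↥f.ker),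
      ⟨F.φ qz, F.D_le_ker f (F.phi_mem_D.mpr qd_facts.1)⟩} with hC
    have h1 : F.φ qd ∈ C.map f.ker.subtype := ⟨_, Subgroup.subset_closure (Or.inl rfl), rfl⟩
    have h2 : F.φ qz ∈ C.map f.ker.subtype := ⟨_, Subgroup.subset_closure (Or.inr rfl), rfl⟩
    have h3 : F.φ qz' ∈ C.map f.ker.subtype := by
      have := mul_mem (inv_mem h2) h1
      rwa [← map_inv, ← map_mul, ← qr_facts.2.2.2.2.1, inv_mul_cancel_left] at this
    have h4 : F.φ q ∈ C.map f.ker.subtype := by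
      have hdec : q = (q.1, 1) * (1, q.2) := by simp
      rw [hdec, map_mul]
      refine mul_mem ?_ ?_
      · rcases hq.1 with e | e | e <;> rw [e]
        · rw [show ((1, 1) : Q35) = 1 from rfl, map_one]; exact one_mem _
        · exact h2
        · rw [show ((c3⁻¹, 1) : Q35) = qz⁻¹ by simp [qz], map_inv]; exact inv_mem h2
      · rcases hq.2 with e | e | e <;> rw [e]
        · rw [show ((1, 1) : Q35) = 1 from rfl, map_one]; exact one_mem _
        · exact h3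
        · rw [show ((1, c5⁻¹) : Q35) = qz'⁻¹ by simp [qz'], map_inv]; exact inv_mem h3
    obtain ⟨y, hy, hyx⟩ := h4
    rwa [show (⟨F.φ q, hxK⟩ : ↥f.ker) = y from Subtype.ext hyx.symm]

theorem DK_comm : IsMulCommutative ↥(F.DK f) := by
  refine ⟨⟨fun a b => Subtype.ext (Subtype.ext ?_)⟩⟩
  obtain ⟨q, hq, e⟩ := F.mem_D.mp a.2
  exact (Subgroup.mem_centralizer_iff.mp
    (F.mem_centralizer_D.mpr ⟨q, (inC_iff q).mpr (Or.inl hq), e⟩) _ b.2).symm

theorem DK_exp : ∀ a ∈ F.DK f, a ^ 3 = 1 := fun _ ha => Subtype.ext (F.D_cube ha)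

theorem centralizer_DK (hfu : f (F.φ qu) = -1) :
    Subgroup.centralizer (F.DK f : Set ↥f.ker) = F.DK f := by
  apply le_antisymm
  · intro x hx
    have hc : (x : G) ∈ Subgroup.centralizer (F.D : Set G) := Subgroup.mem_centralizer_iff.mpr fun d hd =>
      congrArg Subtype.val (Subgroup.mem_centralizer_iff.mp hx ⟨d, F.D_le_ker f hd⟩ hd)
    obtain ⟨q, hq, e⟩ := F.mem_centralizer_D.mp hc
    exact F.mem_D.mpr ⟨q, F.inC_ker f hfu hq (e.symm ▸ x.2), e⟩
  · intro x hx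
    refine Subgroup.mem_centralizer_iff.mpr fun d hd => ?_
    exact congrArg Subtype.val ((F.DK_comm f).is_comm.comm ⟨d, hd⟩ ⟨x, hx⟩)

theorem mem_normalizer_DK (x : ↥f.ker) :
    x ∈ Subgroup.normalizer (F.DK f : Set ↥f.ker) ↔ (x : G) ∈ Subgroup.normalizer (F.D : Set G) := by
  rw [Subgroup.mem_normalizer_iff, Subgroup.mem_normalizer_iff]
  refine ⟨fun h d => ?_, fun h d => h d⟩
  by_cases hd : d ∈ f.ker
  · exact h ⟨d, hd⟩
  · refine iff_of_false (fun h' => hd (F.D_le_ker f h')) (fun h' => hd ?_)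
    have := mul_mem (mul_mem (inv_mem x.2) (F.D_le_ker f h')) x.2
    rwa [show (x : G)⁻¹ * (x * d * (x : G)⁻¹) * x = d by group] at this

theorem exists_eN (hfu : f (F.φ qu) = -1)
    [hcn : ((Subgroup.centralizer (F.D : Set G)).subgroupOf (Subgroup.normalizer (F.D : Set G))).Normal]
    (eNC : Subgroup.normalizer (F.D : Set G) ⧸ (Subgroup.centralizer (F.D : Set G)).subgroupOf (Subgroup.normalizer (F.D : Set G)) ≃* DihedralGroup 4) :
    Nonempty (Subgroup.normalizer (F.DK f : Set ↥f.ker) ⧸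
      (F.DK f).subgroupOf (Subgroup.normalizer (F.DK f : Set ↥f.ker)) ≃* DihedralGroup 4) := by
  haveI : ((F.DK f).subgroupOf (Subgroup.normalizer (F.DK f : Set ↥f.ker))).Normal :=
    Subgroup.normal_in_normalizer
  let ND := Subgroup.normalizer (F.D : Set G)
  let C := (Subgroup.centralizer (F.D : Set G)).subgroupOf ND
  let θ : Subgroup.normalizer (F.DK f : Set ↥f.ker) →* ND ⧸ C :=
    (QuotientGroup.mk' C).comp ((f.ker.subtype.comp (Subgroup.subtype _)).codRestrict ND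
      (fun x => (F.mem_normalizer_DK f x).mp x.2))
  have hs : Function.Surjective θ := by
    intro q
    induction q using QuotientGroup.induction_on with
    | _ y =>
      obtain ⟨y, hy⟩ := y
      rcases F.ker_adjust f hfu y with h | h
      · exact ⟨⟨⟨y, h⟩, (F.mem_normalizer_DK f ⟨y, h⟩).mpr hy⟩, rfl⟩
      · have huC : F.φ qu ∈ Subgroup.centralizer (F.D : Set G) :=
          F.mem_centralizer_D.mpr ⟨qu, qd_facts.2.2.2.1, rfl⟩
        refine ⟨⟨⟨y * F.φ qu, h⟩, (F.mem_normalizer_DK f ⟨_, h⟩).mpr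
          (mul_mem hy (Subgroup.centralizer_le_normalizer (F.D : Set G) huC))⟩, ?_⟩
        refine QuotientGroup.eq.mpr ?_
        show (y * F.φ qu)⁻¹ * y ∈ Subgroup.centralizer (F.D : Set G)
        rw [mul_inv_rev, inv_mul_cancel_right]
        exact inv_mem huC
  have hk : θ.ker = (F.DK f).subgroupOf (Subgroup.normalizer (F.DK f : Set ↥f.ker)) := by
    ext x
    rw [MonoidHom.mem_ker, MonoidHom.comp_apply, QuotientGroup.mk'_apply, QuotientGroup.eq_one_iff]
    show ((x : ↥f.ker) : G) ∈ Subgroup.centralizer (F.D : Set G) ↔ ((x : ↥f.ker) : G) ∈ F.D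
    refine ⟨fun h => ?_, fun h => ?_⟩
    · obtain ⟨q, hq, e⟩ := F.mem_centralizer_D.mp h
      exact F.mem_D.mpr ⟨q, F.inC_ker f hfu hq (e.symm ▸ (x : ↥f.ker).2), e⟩
    · obtain ⟨q, hq, e⟩ := F.mem_D.mp h
      exact F.mem_centralizer_D.mpr ⟨q, (inC_iff q).mpr (Or.inl hq), e⟩
  exact ⟨((QuotientGroup.quotientMulEquivOfEq hk.symm).trans
    (QuotientGroup.quotientKerEquivOfSurjective θ hs)).trans eNC⟩

/-- The involution of the kernel centralizing the diagonal element. -/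
theorem exists_gK (hfu : f (F.φ qu) = -1) : ∃ k ∈ f.ker, (k = F.g ∨ k = F.g * F.φ qu) ∧ k * k = 1 := by
  rcases F.ker_adjust f hfu F.g with h | h
  · exact ⟨_, h, Or.inl rfl, F.g_sq⟩
  · refine ⟨_, h, Or.inr rfl, ?_⟩
    rw [mul_assoc, ← mul_assoc (F.φ qu), ← F.g_comm_u, mul_assoc F.g, F.u_sq, mul_one, F.g_sq]

theorem cent_d_ker (hfu : f (F.φ qu) = -1) {k : G} (hk : k ∈ f.ker) (hk' : k = F.g ∨ k = F.g * F.φ qu) {x : G}
    (hx : x ∈ f.ker) : x * F.φ qd = F.φ qd * x ↔ ∃ q, InD q ∧ (x = F.φ q ∨ x = k * F.φ q) := by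
  rw [F.cent_d_iff]
  have hu2 : ∀ q, F.g * F.φ q = F.g * F.φ qu * F.φ (qu * q) := fun q => by
    rw [map_mul, mul_assoc F.g, ← mul_assoc (F.φ qu), F.u_sq, one_mul]
  constructor
  · rintro ⟨q, hq, rfl | rfl⟩
    · exact ⟨q, F.inC_ker f hfu hq hx, Or.inl rfl⟩
    · have h2 := mul_mem (inv_mem hk) hx
      rcases hk' with rfl | rfl
      · rw [inv_mul_cancel_left] at h2
        exact ⟨q, F.inC_ker f hfu hq h2, Or.inr rfl⟩
      · rw [hu2 q, inv_mul_cancel_left] at h2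
        have huC : InC (qu * q) := by
          have h1 := F.mem_centralizer_D.mpr ⟨q, hq, rfl⟩
          obtain ⟨p, hp, hpe⟩ := F.mem_centralizer_D.mp
            (mul_mem (F.mem_centralizer_D.mpr ⟨qu, qd_facts.2.2.2.1, rfl⟩) h1)
          rw [← map_mul, F.inj.eq_iff] at hpe
          exact hpe ▸ hp
        exact ⟨qu * q, F.inC_ker f hfu huC h2, Or.inr (hu2 q)⟩
  · rintro ⟨q, hq, rfl | rfl⟩
    · exact ⟨q, (inC_iff q).mpr (Or.inl hq), Or.inl rfl⟩
    · rcases hk' with rfl | rfl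
      · exact ⟨q, (inC_iff q).mpr (Or.inl hq), Or.inr rfl⟩
      · obtain ⟨p, hp, hpe⟩ := F.mem_centralizer_D.mp
          (mul_mem (F.mem_centralizer_D.mpr ⟨qu, qd_facts.2.2.2.1, rfl⟩)
            (F.mem_centralizer_D.mpr ⟨q, (inC_iff q).mpr (Or.inl hq), rfl⟩))
        exact ⟨p, hp, Or.inr (by rw [hpe, mul_assoc])⟩

theorem card_cent_d_ker (hfu : f (F.φ qu) = -1) :
    Nat.card ↥(Subgroup.centralizer ({(⟨F.φ qd, F.D_le_ker f (F.phi_mem_D.mpr qd_facts.2.2.1)⟩ : ↥f.ker)} : Set ↥f.ker)) = 18 := by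
  obtain ⟨k, hk, hk', -⟩ := F.exists_gK f hfu
  have e : Nat.card ({q : Q35 // InD q} × Bool) = 18 := by
    rw [Nat.card_prod, Nat.card_eq_fintype_card, inD_count, Nat.card_eq_fintype_card, Fintype.card_bool]
  rw [← e]
  have hmem : ∀ p : {q : Q35 // InD q} × Bool, (if p.2 then k * F.φ p.1 else F.φ p.1) ∈ f.ker := fun p => by
    have := F.D_le_ker f (F.phi_mem_D.mpr p.1.2)
    cases p.2 <;> simp [this, mul_mem hk this]
  refine (Nat.card_congr (Equiv.ofBijective (fun p : {q : Q35 // InD q} × Bool =>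
    (⟨⟨_, hmem p⟩, Subgroup.mem_centralizer_singleton_iff.mpr (Subtype.ext ((F.cent_d_ker f hfu hk hk' (hmem p)).mpr
      ⟨p.1, p.1.2, by cases p.2 <;> simp⟩))⟩ :
      Subgroup.centralizer ({(⟨F.φ qd, F.D_le_ker f (F.phi_mem_D.mpr qd_facts.2.2.1)⟩ : ↥f.ker)} : Set ↥f.ker)))
    ⟨?_, ?_⟩)).symm
  · rintro ⟨q, i⟩ ⟨q', i'⟩ h
    have h' : (if i then k * F.φ q else F.φ q) = if i' then k * F.φ q' else F.φ q' :=
      congrArg (fun z => ((z : ↥f.ker) : G)) (congrArg Subtype.val h)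
    have hno : ∀ a b : Q35, k * F.φ a ≠ F.φ b := fun a b h => by
      have h2 : k = F.φ (b * a⁻¹) := by rw [map_mul, map_inv, ← h, mul_inv_cancel_right]
      rcases hk' with rfl | rfl
      · exact F.g_not_range _ h2.symm
      · exact F.g_not_InC _ h2
    cases i <;> cases i' <;> simp only [Bool.false_eq_true, if_false, if_true, mul_right_inj] at h'
    · rw [Subtype.ext (F.inj h')]
    · exact absurd h'.symm (hno _ _)
    · exact absurd h' (hno _ _)
    · rw [Subtype.ext (F.inj h')]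
  · rintro ⟨⟨x, hxK⟩, hx⟩
    obtain ⟨q, hq, e | e⟩ := (F.cent_d_ker f hfu hk hk' hxK).mp
      (congrArg Subtype.val (Subgroup.mem_centralizer_singleton_iff.mp hx))
    · exact ⟨(⟨q, hq⟩, false), Subtype.ext (Subtype.ext (by simp [e]))⟩
    · exact ⟨(⟨q, hq⟩, true), Subtype.ext (Subtype.ext (by simp [e]))⟩

theorem cent_d_le_normalizer {x : G} (hx : x * F.φ qd = F.φ qd * x) :
    x ∈ Subgroup.normalizer (F.D : Set G) := by
  obtain ⟨q, hq, e⟩ := F.cent_d x hx
  exact F.mem_normalizer_D.mpr ⟨q, inN_inv_inC q hq, e⟩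

theorem normal_in_cent_d :
    ((F.DK f).subgroupOf (Subgroup.centralizer
      ({(⟨F.φ qd, F.D_le_ker f (F.phi_mem_D.mpr qd_facts.2.2.1)⟩ : ↥f.ker)} : Set ↥f.ker))).Normal :=
  ⟨fun n hn x => (Subgroup.mem_normalizer_iff.mp ((F.mem_normalizer_DK f x).mpr (F.cent_d_le_normalizer
    (congrArg Subtype.val (Subgroup.mem_centralizer_singleton_iff.mp x.2)))) _).mp hn⟩

end Frame

end CfsgLib.SymEightLocal
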