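import Cfsg.Agent.Lib.SymEightLocal.CaseI
import Cfsg.Agent.Lib.Known.AltAut

/-!
The untwisted case, continued: the normalizers of `⟨z⟩` and `⟨y⟩` in the kernel, and `S₈`.
-/

set_option autoImplicit false
set_option linter.style.haveILetI false

namespace CfsgLib.SymEightLocal

universe u

variable {G : Type u} [Group G] [Finite G]

/-- Elements of the normalizer of the cyclic group on an element of order three. -/
theorem mem_normalizer_three {H : Type*} [Group H] {a x : H} (ha : a ^ 3 = 1) (ha1 : a ≠ 1) :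
    x ∈ Subgroup.normalizer (Subgroup.zpowers a : Set H) ↔ (x * a * x⁻¹ = a ∨ x * a * x⁻¹ = a⁻¹) := by
  have hai : a⁻¹ = a * a := inv_eq_of_mul_eq_one_right (by rw [← pow_two, ← pow_succ', ha])
  have hmem : ∀ b, b ∈ Subgroup.zpowers a → b = 1 ∨ b = a ∨ b = a⁻¹ := by
    intro b hb
    have hfo : IsOfFinOrder a := isOfFinOrder_iff_pow_eq_one.mpr ⟨3, by norm_num, ha⟩
    obtain ⟨n, rfl⟩ := Submonoid.mem_powers_iff _ _ |>.mp (hfo.mem_powers_iff_mem_zpowers.mpr hb)
    rw [← Nat.mod_add_div n 3, pow_add, pow_mul, ha, one_pow, mul_one]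
    have := Nat.mod_lt n (show 3 > 0 by norm_num)
    interval_cases h : n % 3
    · exact Or.inl (pow_zero a)
    · exact Or.inr (Or.inl (pow_one a))
    · exact Or.inr (Or.inr (by rw [hai, pow_two]))
  constructor
  · intro hx
    rcases hmem _ ((Subgroup.mem_normalizer_iff.mp hx a).mp (Subgroup.mem_zpowers a)) with h | h | h
    · exact absurd (conj_eq_one_iff.mp h) ha1
    · exact Or.inl h
    · exact Or.inr h
  · intro hx
    have hfix : ∀ b, b ∈ Subgroup.zpowers a → x * b * x⁻¹ ∈ Subgroup.zpowers a := by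
      intro b hb
      obtain ⟨k, rfl⟩ := Subgroup.mem_zpowers_iff.mp hb
      rw [← conj_zpow]
      rcases hx with h | h <;> rw [h]
      · exact zpow_mem (Subgroup.mem_zpowers a) k
      · exact zpow_mem (inv_mem (Subgroup.mem_zpowers a)) k
    refine Subgroup.mem_normalizer_iff.mpr fun b => ⟨hfix b, fun hb => ?_⟩
    have hx' : x⁻¹ * a * x = a ∨ x⁻¹ * a * x = a⁻¹ := by
      rcases hx with h | h
      · left
        calc x⁻¹ * a * x = x⁻¹ * (x * a * x⁻¹) * x := by rw [h]
          _ = a := by group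
      · right
        calc x⁻¹ * a * x = x⁻¹ * (x * a * x⁻¹)⁻¹ * x := by rw [h, inv_inv]
          _ = a⁻¹ := by group
    obtain ⟨k, hk⟩ := Subgroup.mem_zpowers_iff.mp hb
    have e : b = (x⁻¹ * a * x) ^ k := by
      have := conj_zpow (i := k) (a := x⁻¹) (b := a)
      rw [inv_inv] at this
      rw [this, hk]; group
    rw [e]
    rcases hx' with h | h <;> rw [h]
    · exact zpow_mem (Subgroup.mem_zpowers a) k
    · exact zpow_mem (inv_mem (Subgroup.mem_zpowers a)) k

namespace Frame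

variable (F : Frame G) (f : G →* ℤˣ)

/-- The diagonal element in the kernel. -/
def dK : ↥f.ker := ⟨F.φ qd, F.D_le_ker f (F.phi_mem_D.mpr qd_facts.2.2.1)⟩

/-- The central element of order three in the kernel. -/
def zK : ↥f.ker := ⟨F.φ qz, F.D_le_ker f (F.phi_mem_D.mpr qd_facts.1)⟩

theorem dK_facts : F.dK f ^ 3 = 1 ∧ F.dK f ≠ 1 :=
  ⟨Subtype.ext (show F.φ qd ^ 3 = 1 by rw [← map_pow, d0_ne.2.2.2.1, map_one]),
    fun h => d0_ne.1 (F.inj ((congrArg Subtype.val h).trans (map_one F.φ).symm))⟩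

theorem zK_facts : F.zK f ^ 3 = 1 ∧ F.zK f ≠ 1 :=
  ⟨Subtype.ext (show F.φ qz ^ 3 = 1 by rw [← map_pow, d0_ne.2.2.2.2.1, map_one]),
    fun h => d0_ne.2.1 (F.inj ((congrArg Subtype.val h).trans (map_one F.φ).symm))⟩

variable (hI : F.g * F.φ qr * F.g⁻¹ = F.φ qr') (hfu : f (F.φ qu) = -1)
  (hfφ : ∀ q : Q35, f (F.φ q) = Equiv.Perm.sign q.1 * Equiv.Perm.sign q.2)

include hI hfu hfφ in
theorem normalizer_dK (x : ↥f.ker) (hx : x ∈ Subgroup.normalizer (Subgroup.zpowers (F.dK f) : Set ↥f.ker)) :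
    ∃ k, (k = F.g ∨ k = F.g * F.φ qu) ∧ k * k = 1 ∧ k ∈ f.ker ∧ ∃ (i j : Bool) (q : Q35), InD q ∧
      (x : G) = (if i then F.φ (qr * qr') else 1) * (if j then k else 1) * F.φ q := by
  obtain ⟨k, hk, hk', hkk⟩ := F.exists_gK f hfu
  refine ⟨k, hk', hkk, hk, ?_⟩
  have hrK : F.φ (qr * qr') ∈ f.ker := by rw [MonoidHom.mem_ker, hfφ, model_sign.2.1]
  have key : ∀ y ∈ f.ker, y * F.φ qd = F.φ qd * y → ∃ (j : Bool) (q : Q35), InD q ∧
      y = (if j then k else 1) * F.φ q := by
    intro y hy hyc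
    obtain ⟨q, hq, e | e⟩ := (F.cent_d_ker f hfu hk hk' hy).mp hyc
    · exact ⟨false, q, hq, by simp [e]⟩
    · exact ⟨true, q, hq, by simp [e]⟩
  rcases (mem_normalizer_three (F.dK_facts f).1 (F.dK_facts f).2).mp hx with h | h
  · obtain ⟨j, q, hq, e⟩ := key x x.2 (mul_inv_eq_iff_eq_mul.mp (congrArg Subtype.val h))
    exact ⟨false, j, q, hq, by simpa using e⟩
  · obtain ⟨j, q, hq, e⟩ := key (F.φ (qr * qr') * x) (mul_mem hrK x.2) (by
      have h' : (x : G) * F.φ qd * (x : G)⁻¹ = (F.φ qd)⁻¹ := congrArg Subtype.val h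
      rw [← mul_inv_eq_iff_eq_mul, show F.φ (qr * qr') * (x : G) * F.φ qd * (F.φ (qr * qr') * (x : G))⁻¹ =
        F.φ (qr * qr') * ((x : G) * F.φ qd * (x : G)⁻¹) * (F.φ (qr * qr'))⁻¹ by group, h', ← map_inv, ← map_inv,
        ← map_mul, ← map_mul, ← conj_inv, qt_facts.2.2.2.2.1, inv_inv])
    refine ⟨true, j, q, hq, ?_⟩
    have e' : (x : G) = F.φ (qr * qr') * (F.φ (qr * qr') * x) := by
      rw [← mul_assoc, ← map_mul, qt_facts.2.2.2.2.2.1, map_one, one_mul]
    rw [e', e, if_pos rfl, mul_assoc]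

include hI hfu hfφ in
theorem DK_le_normalizer_dK :
    F.DK f ≤ Subgroup.normalizer (Subgroup.zpowers (F.dK f) : Set ↥f.ker) ∧
      ∀ x ∈ Subgroup.normalizer (Subgroup.zpowers (F.dK f) : Set ↥f.ker),
        x ∈ Subgroup.normalizer (F.DK f : Set ↥f.ker) := by
  constructor
  · intro x hx
    refine (mem_normalizer_three (F.dK_facts f).1 (F.dK_facts f).2).mpr (Or.inl ?_)
    rw [mul_inv_eq_iff_eq_mul]
    exact congrArg Subtype.val ((F.DK_comm f).is_comm.comm ⟨x, hx⟩ ⟨F.dK f, F.phi_mem_D.mpr qd_facts.2.2.1⟩)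
  · intro x hx
    obtain ⟨k, hk', -, -, i, j, q, hq, e⟩ := F.normalizer_dK f hI hfu hfφ x hx
    rw [F.mem_normalizer_DK, e]
    refine mul_mem (mul_mem ?_ ?_) (Subgroup.le_normalizer (F.phi_mem_D.mpr hq))
    · cases i
      · simp
      · exact F.mem_normalizer_D.mpr ⟨_, qt_facts.2.2.2.2.2.2.2, Or.inl rfl⟩
    · cases j
      · simp
      · rcases hk' with rfl | rfl
        · exact F.mem_normalizer_D.mpr ⟨1, gens_inv_InN.1, Or.inr (by simp)⟩
        · exact F.mem_normalizer_D.mpr ⟨qu, gens_InN.2.2.1, Or.inr rfl⟩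

include hI hfu hfφ in
theorem normalizer_dK_quotient
    [((F.DK f).subgroupOf (Subgroup.normalizer (Subgroup.zpowers (F.dK f) : Set ↥f.ker))).Normal] :
    Nat.card (↥(Subgroup.normalizer (Subgroup.zpowers (F.dK f) : Set ↥f.ker)) ⧸
        (F.DK f).subgroupOf (Subgroup.normalizer (Subgroup.zpowers (F.dK f) : Set ↥f.ker))) = 4 ∧
      ∀ a : ↥(Subgroup.normalizer (Subgroup.zpowers (F.dK f) : Set ↥f.ker)) ⧸
        (F.DK f).subgroupOf (Subgroup.normalizer (Subgroup.zpowers (F.dK f) : Set ↥f.ker)), a ^ 2 = 1 := by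
  classical
  obtain ⟨k, hk, hk', hkk⟩ := F.exists_gK f hfu
  set N := Subgroup.normalizer (Subgroup.zpowers (F.dK f) : Set ↥f.ker) with hN
  set M := (F.DK f).subgroupOf N
  have hrK : F.φ (qr * qr') ∈ f.ker := by rw [MonoidHom.mem_ker, hfφ, model_sign.2.1]
  let r0 : ↥f.ker := ⟨_, hrK⟩
  let k0 : ↥f.ker := ⟨k, hk⟩
  have hkd : k * F.φ qd = F.φ qd * k := (F.cent_d_ker f hfu hk hk' hk).mpr ⟨1, mem_D0.mp D0.one_mem, Or.inr (by simp)⟩
  have hr0 : r0 ∈ N := (mem_normalizer_three (F.dK_facts f).1 (F.dK_facts f).2).mpr (Or.inr (Subtype.ext (by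
    show F.φ (qr * qr') * F.φ qd * (F.φ (qr * qr'))⁻¹ = (F.φ qd)⁻¹
    rw [← map_inv, ← map_mul, ← map_mul, qt_facts.2.2.2.2.1, map_inv])))
  have hk0 : k0 ∈ N := (mem_normalizer_three (F.dK_facts f).1 (F.dK_facts f).2).mpr (Or.inl (Subtype.ext (by
    show k * F.φ qd * k⁻¹ = F.φ qd
    rw [hkd, mul_inv_cancel_right])))
  let R : ↥N ⧸ M := ((⟨r0, hr0⟩ : N) : ↥N ⧸ M)
  let T : ↥N ⧸ M := ((⟨k0, hk0⟩ : N) : ↥N ⧸ M)
  have hRR : R * R = 1 := by
    rw [← QuotientGroup.mk_mul, show (⟨r0, hr0⟩ : N) * ⟨r0, hr0⟩ = 1 from Subtype.ext (Subtype.ext (by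
      show F.φ (qr * qr') * F.φ (qr * qr') = 1
      rw [← map_mul, qt_facts.2.2.2.2.2.1, map_one]))]
    rfl
  have hTT : T * T = 1 := by
    rw [← QuotientGroup.mk_mul, show (⟨k0, hk0⟩ : N) * ⟨k0, hk0⟩ = 1 from Subtype.ext (Subtype.ext hkk)]
    rfl
  have hRTc : F.φ (qr * qr') * k = k * F.φ (qr * qr') := by
    have hu : F.φ (qr * qr') * F.φ qu = F.φ qu * F.φ (qr * qr') := by
      rw [← map_mul, inN_comm_qu _ qt_facts.2.2.2.2.2.2.2, map_mul]
    rcases hk' with rfl | rfl
    · exact (F.g_comm_rr' hI).symm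
    · exact ((show Commute (F.φ (qr * qr')) F.g from (F.g_comm_rr' hI).symm).mul_right hu).eq
  have hRT : R * T = T * R := by
    rw [← QuotientGroup.mk_mul, ← QuotientGroup.mk_mul]
    exact congrArg _ (Subtype.ext (Subtype.ext hRTc))
  let F4 : Bool × Bool → ↥N ⧸ M := fun p => (if p.1 then R else 1) * (if p.2 then T else 1)
  have hsurj : Function.Surjective F4 := by
    intro a
    induction a using QuotientGroup.induction_on with
    | _ x =>
      obtain ⟨k1, hk1', -, hk1, i, j, q, hq, e⟩ := F.normalizer_dK f hI hfu hfφ x x.2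
      have hk1k : k1 = k := by
        have h3 := mul_mem (inv_mem hk1) hk
        rcases hk1' with rfl | rfl <;> rcases hk' with rfl | rfl
        · rfl
        · rw [inv_mul_cancel_left, MonoidHom.mem_ker, hfu] at h3
          exact absurd h3 (by decide)
        · rw [mul_inv_rev, mul_assoc, inv_mul_cancel, mul_one, inv_mem_iff, MonoidHom.mem_ker, hfu] at h3
          exact absurd h3 (by decide)
        · rfl
      rw [hk1k] at e
      have hd : (⟨F.φ q, F.D_le_ker f (F.phi_mem_D.mpr hq)⟩ : ↥f.ker) ∈ N :=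
        (F.DK_le_normalizer_dK f hI hfu hfφ).1 (F.phi_mem_D.mpr hq)
      refine ⟨(i, j), ?_⟩
      have hx : x = (if i then (⟨r0, hr0⟩ : N) else 1) * (if j then (⟨k0, hk0⟩ : N) else 1) * ⟨_, hd⟩ := by
        refine Subtype.ext (Subtype.ext (e.trans ?_))
        cases i <;> cases j <;> rfl
      have h1 : ((⟨_, hd⟩ : N) : ↥N ⧸ M) = 1 := (QuotientGroup.eq_one_iff _).mpr (F.phi_mem_D.mpr hq)
      rw [hx, QuotientGroup.mk_mul, h1, mul_one, QuotientGroup.mk_mul]
      cases i <;> cases j <;> rfl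
  have hne : ∀ x : ↥N, ((x : ↥f.ker) : G) ∉ F.D → ((x : ↥N) : ↥N ⧸ M) ≠ 1 := fun x hx h =>
    hx ((QuotientGroup.eq_one_iff x).mp h)
  have hT1 : T ≠ 1 := hne _ (by
    intro h
    obtain ⟨p, hp, hpe⟩ := F.mem_D.mp h
    rcases hk' with e | e
    · exact F.g_not_range p (hpe.trans e)
    · exact F.g_not_InC p (e.symm.trans hpe.symm))
  have hR1 : R ≠ 1 := hne _ (fun h => model_sign.2.2 ((inC_iff _).mpr (Or.inl (F.phi_mem_D.mp h))))
  have hRT1 : R ≠ T := by
    intro h
    have h2 : R * T = 1 := by rw [h, hTT]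
    rw [← QuotientGroup.mk_mul] at h2
    have hm := (QuotientGroup.eq_one_iff _).mp h2
    obtain ⟨p, hp, hpe⟩ := F.mem_D.mp (Subgroup.mem_subgroupOf.mp (Subgroup.mem_subgroupOf.mp hm))
    have hk2 : k = F.φ ((qr * qr')⁻¹ * p) := by
      rw [map_mul, map_inv, hpe]
      exact (inv_mul_cancel_left _ _).symm
    rcases hk' with e | e
    · exact F.g_not_range _ (hk2.symm.trans e)
    · exact F.g_not_InC _ (e.symm.trans hk2)
  refine ⟨?_, fun a => ?_⟩
  · rw [← Nat.card_congr (Equiv.ofBijective F4 ⟨?_, hsurj⟩)]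
    · simp
    · have hinvR : R⁻¹ = R := inv_eq_of_mul_eq_one_right hRR
      rintro ⟨i, j⟩ ⟨i', j'⟩ h
      simp only [F4] at h
      cases i <;> cases j <;> cases i' <;> cases j' <;>
        simp only [Bool.false_eq_true, if_false, if_true, one_mul, mul_one] at h <;>
        first
          | rfl
          | exact absurd h hR1 | exact absurd h.symm hR1
          | exact absurd h hT1 | exact absurd h.symm hT1
          | exact absurd h hRT1 | exact absurd h.symm hRT1
          | exact absurd (mul_left_cancel (h.trans (mul_one R).symm)) hT1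
          | exact absurd (mul_left_cancel (h.symm.trans (mul_one R).symm)) hT1
          | exact absurd (mul_right_cancel (h.trans (one_mul T).symm)) hR1
          | exact absurd (mul_right_cancel (h.symm.trans (one_mul T).symm)) hR1
          | exact absurd ((eq_inv_of_mul_eq_one_left h).trans (inv_eq_of_mul_eq_one_right hTT)) hRT1
          | exact absurd ((eq_inv_of_mul_eq_one_left h.symm).trans (inv_eq_of_mul_eq_one_right hTT)) hRT1
  · obtain ⟨⟨i, j⟩, rfl⟩ := hsurj a
    have hR2 : (if i then R else 1) * (if i then R else 1) = 1 := by cases i <;> simp [hRR]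
    have hT2 : (if j then T else 1) * (if j then T else 1) = 1 := by cases j <;> simp [hTT]
    have hc : Commute (if i then R else 1) (if j then T else 1) := by
      cases i <;> cases j <;> simp [Commute, SemiconjBy, hRT]
    rw [show F4 (i, j) = (if i then R else 1) * (if j then T else 1) from rfl, hc.mul_pow, pow_two, pow_two, hR2, hT2,
      one_mul]

theorem exists_c3_hom : ∃ ι : Multiplicative (ZMod 3) →* Equiv.Perm (Fin 3),
    Function.Injective ι ∧ ∀ a : Equiv.Perm (Fin 3), a * c3 = c3 * a ↔ ∃ m, ι m = a := by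
  haveI : Fact (Nat.Prime 3) := ⟨Nat.prime_three⟩
  have hc : orderOf c3 = 3 := orderOf_eq_prime (by decide) (by decide)
  have e : Multiplicative (ZMod 3) ≃* Subgroup.zpowers c3 :=
    (mulEquivOfPrimeCardEq (p := 3) (by rw [Nat.card_zpowers, hc]) (by simp)).symm
  refine ⟨(Subgroup.zpowers c3).subtype.comp e.toMonoidHom,
    (Subgroup.zpowers c3).subtype_injective.comp e.injective, fun a => ⟨fun ha => ?_, ?_⟩⟩
  · have hm : a ∈ Subgroup.zpowers c3 := by
      have h3 : a = 1 ∨ a = c3 ∨ a = c3 * c3 := by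
        revert ha; revert a
        decide +kernel
      rcases h3 with rfl | rfl | rfl
      · exact one_mem _
      · exact Subgroup.mem_zpowers _
      · exact mul_mem (Subgroup.mem_zpowers _) (Subgroup.mem_zpowers _)
    exact ⟨e.symm ⟨a, hm⟩, by simp⟩
  · rintro ⟨m, rfl⟩
    obtain ⟨k, hk⟩ := Subgroup.mem_zpowers_iff.mp (e m).2
    show ((e m : Subgroup.zpowers c3) : Equiv.Perm (Fin 3)) * c3 = c3 * ((e m : Subgroup.zpowers c3) : Equiv.Perm (Fin 3))
    rw [← hk]
    exact ((Commute.refl c3).zpow_left k).eq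

include hfφ in
theorem exists_eC : Nonempty (Subgroup.centralizer ({F.zK f} : Set ↥f.ker) ≃*
    Multiplicative (ZMod 3) × alternatingGroup (Fin 5)) := by
  obtain ⟨ι, hι, hιr⟩ := exists_c3_hom
  let j : Multiplicative (ZMod 3) × alternatingGroup (Fin 5) →* Q35 :=
    MonoidHom.prodMap ι (alternatingGroup (Fin 5)).subtype
  have hj : ∀ p, (j p) * qz = qz * (j p) ∧ F.φ (j p) ∈ f.ker := by
    intro p
    have h1 : ι p.1 * c3 = c3 * ι p.1 := (hιr _).mpr ⟨_, rfl⟩
    refine ⟨Prod.ext h1 (by simp [j, qz]), ?_⟩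
    rw [MonoidHom.mem_ker, hfφ]
    have h3 : Equiv.Perm.sign (ι p.1) = 1 := by
      revert h1
      generalize ι p.1 = a
      revert a
      decide +kernel
    show Equiv.Perm.sign (ι p.1) * Equiv.Perm.sign (p.2 : Equiv.Perm (Fin 5)) = 1
    rw [h3, Equiv.Perm.mem_alternatingGroup.mp p.2.2, one_mul]
  let θ : Multiplicative (ZMod 3) × alternatingGroup (Fin 5) →* Subgroup.centralizer ({F.zK f} : Set ↥f.ker) :=
    ((F.φ.comp j).codRestrict f.ker (fun p => (hj p).2)).codRestrict _ (fun p =>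
      Subgroup.mem_centralizer_singleton_iff.mpr (Subtype.ext (F.comm_z.mpr ⟨_, (hj p).1, rfl⟩)))
  refine ⟨(MulEquiv.ofBijective θ ⟨fun p p' h => ?_, fun x => ?_⟩).symm⟩
  · have h' : j p = j p' := F.inj (congrArg (fun z => ((z : ↥f.ker) : G)) (congrArg Subtype.val h))
    exact Prod.ext (hι (congrArg Prod.fst h')) (Subtype.ext (congrArg Prod.snd h'))
  · obtain ⟨q, hq, hqe⟩ := F.comm_z.mp (congrArg Subtype.val (Subgroup.mem_centralizer_singleton_iff.mp x.2))
    obtain ⟨m, hm⟩ := (hιr q.1).mp (congrArg Prod.fst hq)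
    have hs : Equiv.Perm.sign q.2 = 1 := by
      have hs' : f (F.φ q) = 1 := hqe.symm ▸ MonoidHom.mem_ker.mp (x : ↥f.ker).2
      rw [hfφ] at hs'
      have h3 : Equiv.Perm.sign q.1 = 1 := by
        have := congrArg Prod.fst hq
        revert this
        show q.1 * c3 = c3 * q.1 → _
        generalize q.1 = a
        revert a
        decide +kernel
      rwa [h3, one_mul] at hs'
    refine ⟨(m, ⟨q.2, Equiv.Perm.mem_alternatingGroup.mpr hs⟩), Subtype.ext (Subtype.ext ?_)⟩
    show F.φ (ι m, q.2) = _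
    rw [hm, Prod.mk.eta, hqe]

include hfφ in
theorem exists_eL : Nonempty (Subgroup.normalizer (Subgroup.zpowers (F.zK f) : Set ↥f.ker) ≃*
    (((Equiv.Perm.sign).comp (MonoidHom.fst (Equiv.Perm (Fin 3)) (Equiv.Perm (Fin 5)))) *
        ((Equiv.Perm.sign).comp (MonoidHom.snd (Equiv.Perm (Fin 3)) (Equiv.Perm (Fin 5))))).ker) := by
  let χ := ((Equiv.Perm.sign).comp (MonoidHom.fst (Equiv.Perm (Fin 3)) (Equiv.Perm (Fin 5)))) *
        ((Equiv.Perm.sign).comp (MonoidHom.snd (Equiv.Perm (Fin 3)) (Equiv.Perm (Fin 5))))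
  have hχ : ∀ q, χ q = f (F.φ q) := fun q => (hfφ q).symm
  have hz : ∀ q : Q35, q * qz * q⁻¹ = qz ∨ q * qz * q⁻¹ = qz⁻¹ := by decide +kernel
  let θ : χ.ker →* Subgroup.normalizer (Subgroup.zpowers (F.zK f) : Set ↥f.ker) :=
    ((F.φ.comp χ.ker.subtype).codRestrict f.ker (fun q => MonoidHom.mem_ker.mpr ((hχ q).symm.trans q.2))).codRestrict _
      (fun q => (mem_normalizer_three (F.zK_facts f).1 (F.zK_facts f).2).mpr (by
        rcases hz q with e | e
        · exact Or.inl (Subtype.ext (by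
            show F.φ q * F.φ qz * (F.φ q)⁻¹ = F.φ qz
            rw [← map_inv, ← map_mul, ← map_mul, e]))
        · exact Or.inr (Subtype.ext (by
            show F.φ q * F.φ qz * (F.φ q)⁻¹ = (F.φ qz)⁻¹
            rw [← map_inv, ← map_mul, ← map_mul, e, map_inv]))))
  refine ⟨(MulEquiv.ofBijective θ ⟨fun p p' h => ?_, fun x => ?_⟩).symm⟩
  · exact Subtype.ext (F.inj (congrArg (fun z => ((z : ↥f.ker) : G)) (congrArg Subtype.val h)))
  · obtain ⟨q, hq⟩ := F.range_of_conj ((x : ↥f.ker) : G) (by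
      rcases (mem_normalizer_three (F.zK_facts f).1 (F.zK_facts f).2).mp x.2 with e | e
      · exact Or.inl (congrArg Subtype.val e)
      · exact Or.inr (congrArg Subtype.val e))
    exact ⟨⟨q, MonoidHom.mem_ker.mpr ((hχ q).trans (hq.symm ▸ MonoidHom.mem_ker.mp (x : ↥f.ker).2))⟩,
      Subtype.ext (Subtype.ext hq)⟩

include hfu in
theorem sym_eight (P : Proj F) (hA : Nonempty (↥f.ker ≃* alternatingGroup (Fin 8))) :
    Nonempty (G ≃* Equiv.Perm (Fin 8)) := by
  classical
  obtain ⟨e⟩ := hA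
  have hA8 : Nat.card (alternatingGroup (Fin 8)) = 20160 := by
    rw [nat_card_alternatingGroup, Nat.card_fin]; decide
  have hK : Nat.card f.ker = 20160 := (Nat.card_congr e.toEquiv).trans hA8
  have hG : Nat.card G = 40320 := by
    rw [← Subgroup.card_mul_index f.ker, hK, Subgroup.index_ker,
      MonoidHom.range_eq_top.mpr (fun y => ?_), Subgroup.card_top, show Nat.card ℤˣ = 2 by simp]
    rcases Int.units_eq_one_or y with rfl | rfl
    · exact ⟨1, map_one f⟩
    · exact ⟨_, hfu⟩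
  have hfix : ∀ x : G, (∀ k : ↥f.ker, x * k * x⁻¹ = k) → x = 1 := by
    intro x hx
    have hc : x ∈ Subgroup.centralizer (F.D : Set G) := Subgroup.mem_centralizer_iff.mpr fun d hd =>
      (mul_inv_eq_iff_eq_mul.mp (hx ⟨d, F.D_le_ker f hd⟩)).symm
    obtain ⟨q, hq, rfl⟩ := F.mem_centralizer_D.mp hc
    rcases (inC_iff q).mp hq with h | h
    · have hm : F.φ q ∈ f.ker := F.D_le_ker f (F.phi_mem_D.mpr h)
      have hcen : (⟨_, hm⟩ : ↥f.ker) ∈ Subgroup.center ↥f.ker := Subgroup.mem_center_iff.mpr fun k =>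
        Subtype.ext (mul_inv_eq_iff_eq_mul.mp (hx k)).symm
      have h1 : e ⟨_, hm⟩ ∈ Subgroup.center (alternatingGroup (Fin 8)) := Subgroup.mem_center_iff.mpr fun a => by
        obtain ⟨k, rfl⟩ := e.surjective a
        rw [← map_mul, ← map_mul, Subgroup.mem_center_iff.mp hcen k]
      rw [alternatingGroup.center_eq_bot (by simp), Subgroup.mem_bot, map_eq_one_iff e e.injective] at h1
      exact congrArg Subtype.val h1
    · exfalso
      have h3 : F.φ qu = F.φ q ^ 3 := by
        rw [← map_pow]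
        congr 1
        have h0 : q = q * qu * qu := by
          rw [mul_assoc, qr_facts.2.2.2.2.2.2.2.2.2.2.2.2, mul_one]
        have hcu : Commute (q * qu) qu := by
          show q * qu * qu = qu * (q * qu)
          rcases eq_or_ne (q * qu) 1 with e' | e'
          · rw [e']; simp
          · exact inN_of_conj' _ h e'
        conv_rhs => rw [h0, hcu.mul_pow, inD_cube _ h, one_mul, pow_succ, pow_two, qr_facts.2.2.2.2.2.2.2.2.2.2.2.2, one_mul]
      have hle : f.ker ≤ Subgroup.centralizer ({F.φ qu} : Set G) := fun k hk => by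
        rw [Subgroup.mem_centralizer_singleton_iff, h3]
        exact ((show Commute k (F.φ q) from (mul_inv_eq_iff_eq_mul.mp (hx ⟨k, hk⟩)).symm).pow_right 3).eq
      have h1 := Subgroup.card_le_of_le hle
      have h2 : Nat.card ↥(Subgroup.centralizer ({F.φ qu} : Set G)) ≤ 1440 := by
        rw [← Subgroup.card_mul_index P.p.ker, Subgroup.index_ker, MonoidHom.range_eq_top.mpr P.surj,
          Subgroup.card_top, Nat.card_perm, Nat.card_fin, show Nat.factorial 6 = 720 by decide]
        have : Nat.card P.p.ker ≤ 2 := by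
          let g : P.p.ker → Bool := fun x => decide (((x : Subgroup.centralizer ({F.φ qu} : Set G)) : G) = 1)
          have hg : Function.Injective g := by
            intro a b h
            apply Subtype.ext; apply Subtype.ext
            simp only [g, decide_eq_decide] at h
            rcases (P.ker _).mp a.2 with ea | ea <;> rcases (P.ker _).mp b.2 with eb | eb
            · rw [ea, eb]
            · rw [ea, h.mp ea]
            · rw [eb, h.mpr eb]
            · rw [ea, eb]
          simpa using Nat.card_le_card_of_injective g hg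
        omega
      omega
  let Ψ : G →* MulAut (alternatingGroup (Fin 8)) :=
    (MulAut.congr e).toMonoidHom.comp (MulAut.conjNormal : G →* MulAut ↥f.ker)
  have hinj : Function.Injective Ψ := by
    rw [injective_iff_map_eq_one]
    intro x hx
    have h1 : (MulAut.conjNormal : G →* MulAut ↥f.ker) x = 1 :=
      (MulAut.congr e).injective (hx.trans (map_one (MulAut.congr e)).symm)
    refine hfix x fun k => ?_
    have := MulAut.conjNormal_apply x k
    rw [h1] at this
    exact this.symm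
  let a := MulEquiv.ofBijective _ (CfsgLib.Known.AltAut.bijective_conjNormal (n := 8) (by norm_num) (by norm_num))
  have hinj' : Function.Injective (a.symm.toMonoidHom.comp Ψ) := a.symm.injective.comp hinj
  exact ⟨MulEquiv.ofBijective _ ((Nat.bijective_iff_injective_and_card _).mpr ⟨hinj', by
    rw [hG, Nat.card_perm, Nat.card_fin]; decide⟩)⟩

end Frame

end CfsgLib.SymEightLocal
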