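import Cfsg.Agent.Lib.SymEightLocal.Ambient
import Cfsg.Agent.Lib.Invol.ZStarFinal
import Cfsg.Agent.Lib.Invol.Isolated

/-!
The twisted case: the centralizer of `c` lies in `(A₅ × A₅).4`.
-/

set_option autoImplicit false
set_option linter.style.haveILetI false

namespace CfsgLib.SymEightLocal

universe u

variable {G : Type u} [Group G] [Finite G]

theorem eA_cases : ∀ v : A5, v * eA = eA * v → v * v = 1 → v ≠ 1 → v ≠ eA → v = sA ∨ v = sA * eA := by decide +kernel

theorem four_val : sA * eA * (sA * eA) = 1 ∧ sA * eA ≠ 1 ∧ eA * sA = sA * eA ∧ eA * sA ≠ 1 ∧ eA * (sA * eA) ≠ 1 ∧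
    eA * sA * eA = sA := by decide +kernel

namespace Twisted

variable {F : Frame G} (T : Twisted F)
include T

theorem not_r_c : ¬ IsConj (F.φ qr) (F.φ qc) := by
  intro h
  have h1 := CfsgLib.Invol.card_centralizer_of_isConj h
  rw [T.card_cent_r] at h1
  have h2 : 64 ∣ Nat.card ↥(Subgroup.centralizer ({F.φ qc} : Set G)) := by
    rw [← T.card_amb_cent_c]; exact Subgroup.card_dvd_of_le inf_le_right
  rw [h1] at h2
  norm_num at h2

theorem conj_amb_iota {m : G} (hm : m ∈ T.amb) (p : A5 × A5) :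
    ∃ i j q, m * T.iota p * m⁻¹ = T.iota (q * Twisted.act i j p * q⁻¹) := by
  obtain ⟨q, i, j, rfl⟩ := hm
  refine ⟨i, j, q, ?_⟩
  rw [map_mul, map_mul, map_inv, show T.iota q * F.wd i j * T.iota p * (T.iota q * F.wd i j)⁻¹ =
    T.iota q * (F.wd i j * T.iota p) * (F.wd i j)⁻¹ * (T.iota q)⁻¹ by group, T.wd_iota]
  group

/-- Conjugates of `r` in the ambient subgroup lie in one factor. -/
theorem r_class_amb {y : G} (hy : y ∈ T.amb) (hc : IsConj (F.φ qr) y) :
    ∃ a b, y = T.iota (a, b) ∧ (a = 1 ∨ b = 1) ∧ ∃ m ∈ T.amb, m * F.φ qr * m⁻¹ = y := by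
  obtain ⟨d, hd⟩ := isConj_iff.mp hc
  have h2 : y * y = 1 := by
    rw [← hd, show d * F.φ qr * d⁻¹ * (d * F.φ qr * d⁻¹) = d * (F.φ qr * F.φ qr) * d⁻¹ by group,
      ← map_mul, qr_facts.2.2.2.2.2.2.2.2.2.2.1, map_one]
    group
  have h1 : y ≠ 1 := by
    intro e
    rw [← hd, conj_eq_one_iff] at e
    exact qs_facts.2.2.2.2.2.2.2.2.2.2.2.2.2.2.2.1 (F.inj (e.trans (map_one F.φ).symm))
  obtain ⟨m, hm, h⟩ := T.involution_cases hy h2 h1
  have hcm : ∀ x, m * x * m⁻¹ = y → IsConj (F.φ qr) x := fun x e => hc.trans (isConj_iff.mpr ⟨m, e⟩).symm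
  rcases h with h | h | h | h | h
  · exact absurd (hcm _ h).symm T.not_u_r
  · obtain ⟨i, j, q, e⟩ := T.conj_amb_iota hm (1, eA)
    rw [T.iota_values.1, h] at e
    refine ⟨_, _, e, ?_, m, hm, h⟩
    obtain ⟨q1, q2⟩ := q
    cases i <;> cases j <;> simp [Twisted.act]
  · exact absurd (hcm _ h) T.not_r_c
  · exact absurd (hcm _ h) (by simpa using T.diag_commute false)
  · exact absurd (hcm _ h) (by simpa using T.diag_commute true)

/-- Elements `x` moving `r` to `r c` lie in the ambient subgroup. -/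
theorem mem_amb_of_conj {x : G} (h : x * F.φ qr * x⁻¹ = F.φ qe) : x ∈ T.amb := by
  have h1 : F.g * x * F.φ qr * (F.g * x)⁻¹ = F.φ qr := by
    rw [show F.g * x * F.φ qr * (F.g * x)⁻¹ = F.g * (x * F.φ qr * x⁻¹) * F.g⁻¹ by group, h, T.g_e]
  have h2 := mul_mem (inv_mem T.g_mem) (T.cent_r_le' (mul_inv_eq_iff_eq_mul.mp h1))
  rwa [inv_mul_cancel_left] at h2

theorem cent_iota_le (v : A5) (hv : v * v = 1) (hv1 : v ≠ 1) {x : G}
    (hx : x * T.iota (1, v) = T.iota (1, v) * x) : x ∈ T.amb := by
  obtain ⟨k, hk⟩ := a5_involution v hv hv1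
  have e : T.iota (1, v) = T.iota (1, k) * F.φ qr * (T.iota (1, k))⁻¹ := by
    rw [← T.iota_values.1, ← map_inv, ← map_mul, ← map_mul, ← hk]; simp
  rw [e] at hx
  have h := T.cent_r_le' (x := (T.iota (1, k))⁻¹ * x * T.iota (1, k)) (by
    calc (T.iota (1, k))⁻¹ * x * T.iota (1, k) * F.φ qr =
        (T.iota (1, k))⁻¹ * (x * (T.iota (1, k) * F.φ qr * (T.iota (1, k))⁻¹)) * T.iota (1, k) := by group
      _ = _ := by rw [hx]; group)
  have h2 := mul_mem (mul_mem (T.iota_mem (1, k)) h) (inv_mem (T.iota_mem (1, k)))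
  rwa [show T.iota (1, k) * ((T.iota (1, k))⁻¹ * x * T.iota (1, k)) * (T.iota (1, k))⁻¹ = x by group] at h2

set_option maxHeartbeats 1600000 in
theorem cent_c_le {x : G} (hx : x * F.φ qc = F.φ qc * x) : x ∈ T.amb := by
  classical
  obtain ⟨hr, he, hc, -, -, hs⟩ := T.iota_values
  obtain ⟨hrc, hrc2, -, -, hcc, hc1, -, -⟩ := qc_facts
  obtain ⟨he1, hee, hss, hse, hne, hs1, -⟩ := a5_facts
  let C := Subgroup.centralizer ({F.φ qc} : Set G)
  let Z : Subgroup C := (Subgroup.zpowers (F.φ qc)).subgroupOf C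
  have hcc' : F.φ qc * F.φ qc = 1 := by rw [← map_mul, hcc, map_one]
  have hZmem : ∀ x : C, x ∈ Z ↔ (x : G) = 1 ∨ (x : G) = F.φ qc := by
    intro x
    rw [Subgroup.mem_subgroupOf]
    constructor
    · intro h
      obtain ⟨k, hk⟩ := Subgroup.mem_zpowers_iff.mp h
      rcases Int.even_or_odd k with ⟨j, rfl⟩ | ⟨j, rfl⟩
      · left; rw [← hk, ← two_mul, zpow_mul, zpow_two, hcc', one_zpow]
      · right; rw [← hk, zpow_add, zpow_mul, zpow_two, hcc', one_zpow, one_mul, zpow_one]
    · rintro (h | h) <;> rw [h]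
      · exact one_mem _
      · exact Subgroup.mem_zpowers _
  haveI hZn : Z.Normal := ⟨fun n hn g => by
    have : g * n * g⁻¹ = n := by
      apply Subtype.ext
      show (g : G) * n * (g : G)⁻¹ = n
      rcases (hZmem n).mp hn with e | e <;> rw [e]
      · group
      · rw [Subgroup.mem_centralizer_singleton_iff.mp g.2, mul_inv_cancel_right]
    rwa [this]⟩
  have hmk : ∀ x y : C, (x : C ⧸ Z) = y ↔ (y : G) = x ∨ (y : G) = x * F.φ qc := by
    intro x y
    rw [QuotientGroup.eq, hZmem, Subgroup.coe_mul, Subgroup.coe_inv, inv_mul_eq_one, eq_comm,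
      inv_mul_eq_iff_eq_mul]
  have hin : ∀ v : A5, v * eA = eA * v → T.iota (1, v) ∈ C := fun v hv =>
    Subgroup.mem_centralizer_singleton_iff.mpr (by
      rw [← hc, ← map_mul, ← map_mul]; exact congrArg T.iota (Prod.ext (by simp) hv))
  have hrqc : F.φ qr * F.φ qc = F.φ qe := by rw [← map_mul, hrc2]
  have hrC : F.φ qr ∈ C := hr ▸ hin eA rfl
  let rb : C ⧸ Z := ((⟨F.φ qr, hrC⟩ : C) : C ⧸ Z)
  -- `r` is isolated
  have hiso : Cfsg.IsIsolatedInvolution rb := by
    refine ⟨orderOf_eq_prime ?_ ?_, ?_⟩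
    · rw [pow_two, ← QuotientGroup.mk_mul]
      exact (QuotientGroup.eq_one_iff _).mpr ((hZmem _).mpr (Or.inl (by
        show F.φ qr * F.φ qr = 1
        rw [← map_mul, qr_facts.2.2.2.2.2.2.2.2.2.2.1, map_one])))
    · intro h
      rcases (hZmem _).mp ((QuotientGroup.eq_one_iff _).mp h) with e | e
      · exact qs_facts.2.2.2.2.2.2.2.2.2.2.2.2.2.2.2.1 (F.inj (e.trans (map_one F.φ).symm))
      · exact absurd (F.inj e) (by decide +kernel)
    · intro g hg
      induction g using QuotientGroup.induction_on with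
      | _ h =>
        set y := (h : G) * F.φ qr * (h : G)⁻¹ with hy
        have hyr : IsConj (F.φ qr) y := isConj_iff.mpr ⟨h, rfl⟩
        have hyc : IsConj (F.φ qr) (y * F.φ qc) := by
          refine T.r_isConj_e.trans (isConj_iff.mpr ⟨h, ?_⟩)
          rw [← hrqc, hy]
          have hh := Subgroup.mem_centralizer_singleton_iff.mp h.2
          calc (h : G) * (F.φ qr * F.φ qc) * (h : G)⁻¹ = h * F.φ qr * (h : G)⁻¹ * ((h : G) * F.φ qc) * (h : G)⁻¹ := by group
            _ = _ := by rw [hh]; group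
        have hyy : y * y = 1 := by
          rw [hy, show (h : G) * F.φ qr * (h : G)⁻¹ * ((h : G) * F.φ qr * (h : G)⁻¹) = h * (F.φ qr * F.φ qr) * (h : G)⁻¹ by group,
            ← map_mul, qr_facts.2.2.2.2.2.2.2.2.2.2.1, map_one]
          group
        have hyM : y ∈ T.amb := by
          have hg' : rb * ((h : C ⧸ Z) * rb * (h : C ⧸ Z)⁻¹) = (h : C ⧸ Z) * rb * (h : C ⧸ Z)⁻¹ * rb := hg
          rw [← QuotientGroup.mk_inv, ← QuotientGroup.mk_mul, ← QuotientGroup.mk_mul, ← QuotientGroup.mk_mul,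
            ← QuotientGroup.mk_mul] at hg'
          rcases (hmk _ _).mp hg' with e | e
          · exact T.cent_r_le' (show y * F.φ qr = F.φ qr * y from e)
          · refine T.mem_amb_of_conj ?_
            have e' : y * F.φ qr = F.φ qr * y * F.φ qc := e
            have hyq : y * F.φ qc = F.φ qc * y := by
              have hh : (h : G) * F.φ qc = F.φ qc * (h : G) := Subgroup.mem_centralizer_singleton_iff.mp h.2
              have hr' : F.φ qr * F.φ qc = F.φ qc * F.φ qr := Subgroup.mem_centralizer_singleton_iff.mp hrC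
              exact ((show Commute (h : G) (F.φ qc) from hh).mul_left hr').mul_left
                ((show Commute (h : G) (F.φ qc) from hh).inv_left) |>.eq
            rw [e', mul_assoc (F.φ qr), hyq, ← hrqc]
            group
        obtain ⟨a, b, hab, h1, -⟩ := T.r_class_amb hyM hyr
        obtain ⟨a', b', hab', h1', -⟩ := T.r_class_amb (mul_mem hyM (T.phi_mem qc)) hyc
        rw [hab, ← hc, ← map_mul] at hab'
        have hp := T.iota_inj hab'
        rw [Prod.mk_mul_mk, Prod.mk.injEq] at hp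
        show (h : C ⧸ Z) * rb * (h : C ⧸ Z)⁻¹ = rb
        rw [← QuotientGroup.mk_inv, ← QuotientGroup.mk_mul, ← QuotientGroup.mk_mul, eq_comm]
        refine (hmk _ _).mpr ?_
        show y = F.φ qr ∨ y = F.φ qr * F.φ qc
        rw [hrqc, hab]
        rcases h1 with rfl | rfl
        · rw [one_mul] at hp
          rcases h1' with rfl | rfl
          · exact absurd hp.1 he1
          · left
            rw [← hr, show b = eA from (eq_inv_of_mul_eq_one_left hp.2).trans (inv_eq_of_mul_eq_one_right hee)]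
        · rw [one_mul] at hp
          rcases h1' with rfl | rfl
          · right
            rw [← he, show a = eA from (eq_inv_of_mul_eq_one_left hp.1).trans (inv_eq_of_mul_eq_one_right hee)]
          · exact absurd hp.2 he1
  -- the odd core is trivial
  have hO : Cfsg.oddCore (C ⧸ Z) = ⊥ := by
    set O := Cfsg.oddCore (C ⧸ Z)
    haveI hOn : O.Normal := by
      have := CfsgLib.Cores.pPrimeCore_characteristic (G := C ⧸ Z) 2
      exact inferInstanceAs (Cfsg.pPrimeCore 2 (C ⧸ Z)).Normal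
    have hOodd : Odd (Nat.card O) := CfsgLib.Cores.odd_card_oddCore
    have hfix : ∀ v : A5, ∀ hv : v * eA = eA * v, v * v = 1 → v ≠ 1 → ∀ o ∈ O,
        ((⟨_, hin v hv⟩ : C) : C ⧸ Z) * o * ((⟨_, hin v hv⟩ : C) : C ⧸ Z)⁻¹ = o → o = 1 := by
      intro v hv hvv hv1 o ho hfixo
      induction o using QuotientGroup.induction_on with
      | _ z =>
        rw [← QuotientGroup.mk_inv, ← QuotientGroup.mk_mul, ← QuotientGroup.mk_mul] at hfixo
        have hzc := Subgroup.mem_centralizer_singleton_iff.mp z.2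
        have hzM : (z : G) ∈ T.amb := by
          rcases (hmk _ _).mp hfixo with e | e
          · refine T.cent_iota_le v hvv hv1 ?_
            change (z : G) = T.iota (1, v) * z * (T.iota (1, v))⁻¹ at e
            rw [← eq_mul_inv_iff_mul_eq]
            exact e
          · change (z : G) = T.iota (1, v) * z * (T.iota (1, v))⁻¹ * F.φ qc at e
            have e2 : (z : G)⁻¹ * T.iota (1, v) * z = T.iota (1, v) * F.φ qc := by
              have hvc := Subgroup.mem_centralizer_singleton_iff.mp (hin v hv)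
              have e3 : T.iota (1, v) * z = z * F.φ qc * T.iota (1, v) := by
                conv_rhs => rw [e]
                calc T.iota (1, v) * (z : G) = T.iota (1, v) * z * (T.iota (1, v))⁻¹ * T.iota (1, v) := by group
                  _ = T.iota (1, v) * z * (T.iota (1, v))⁻¹ * (F.φ qc * F.φ qc) * T.iota (1, v) := by rw [hcc', mul_one]
                  _ = _ := by group
              rw [mul_assoc, e3, mul_assoc, hvc]
              group
            have hv' : T.iota (1, v) * F.φ qc = T.iota (eA, v * eA) := by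
              rw [← hc, ← map_mul]; simp
            by_cases hve : v = eA
            · subst hve
              rw [hr, hrqc] at e2
              have h' := T.mem_amb_of_conj (x := (z : G)⁻¹) (by rw [inv_inv]; exact e2)
              simpa using inv_mem h'
            · exfalso
              rw [hv'] at e2
              have hvr : IsConj (F.φ qr) (T.iota (1, v)) := by
                obtain ⟨k, hk⟩ := a5_involution v hvv hv1
                refine isConj_iff.mpr ⟨T.iota (1, k), ?_⟩
                rw [← hr, ← map_inv, ← map_mul, ← map_mul, ← hk]; simp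
              obtain ⟨a, b, hab, h1, -⟩ := T.r_class_amb (T.iota_mem (eA, v * eA))
                (hvr.trans (isConj_iff.mpr ⟨(z : G)⁻¹, by rw [inv_inv]; exact e2⟩))
              have hp := T.iota_inj hab
              rw [Prod.mk.injEq] at hp
              rcases h1 with rfl | rfl
              · exact he1 hp.1
              · exact hve ((eq_inv_of_mul_eq_one_left hp.2).trans (inv_eq_of_mul_eq_one_right hee))
        let zM : ↥(T.amb ⊓ Subgroup.centralizer ({F.φ qc} : Set G)) := ⟨z, hzM, z.2⟩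
        have h64 : (z : C ⧸ Z) ^ 64 = 1 := by
          rw [← QuotientGroup.mk_pow, show z ^ 64 = 1 from Subtype.ext (show (z : G) ^ 64 = 1 from
            congrArg Subtype.val (show zM ^ 64 = 1 by rw [← T.card_amb_cent_c]; exact pow_card_eq_one'))]
          rfl
        have hd1 : orderOf (z : C ⧸ Z) ∣ 2 ^ 6 := orderOf_dvd_of_pow_eq_one h64
        have hd2 : orderOf (z : C ⧸ Z) ∣ Nat.card O := Subgroup.orderOf_dvd_natCard O ho
        have hco : Nat.Coprime (2 ^ 6) (Nat.card O) := (Nat.coprime_two_left.mpr hOodd).pow_left 6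
        exact orderOf_eq_one_iff.mp (Nat.eq_one_of_dvd_one (hco ▸ Nat.dvd_gcd hd1 hd2))
    have hinvert : ∀ v : A5, ∀ hv : v * eA = eA * v, v * v = 1 → v ≠ 1 → ∀ o ∈ O,
        ((⟨_, hin v hv⟩ : C) : C ⧸ Z) * o * ((⟨_, hin v hv⟩ : C) : C ⧸ Z)⁻¹ = o⁻¹ := by
      intro v hv hvv hv1 o ho
      set t : C ⧸ Z := ((⟨_, hin v hv⟩ : C) : C ⧸ Z)
      have htt : t * t = 1 := by
        rw [← QuotientGroup.mk_mul, show (⟨_, hin v hv⟩ : C) * ⟨_, hin v hv⟩ = 1 from Subtype.ext (by
          show T.iota (1, v) * T.iota (1, v) = 1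
          rw [← map_mul, Prod.mk_mul_mk, hvv, one_mul, ← Prod.one_eq_mk, map_one])]
        rfl
      let θ : O →* O := ((MulAut.conjNormal : C ⧸ Z →* MulAut O) t).toMonoidHom
      have h1 : MonoidHom.FixedPointFree θ := fun a ha => by
        apply Subtype.ext
        refine hfix v hv hvv hv1 a a.2 ?_
        exact (MulAut.conjNormal_apply t a).symm.trans (congrArg Subtype.val ha)
      have h2 : Function.Involutive θ := fun a => Subtype.ext (by
        show ((MulAut.conjNormal : C ⧸ Z →* MulAut O) t ((MulAut.conjNormal : C ⧸ Z →* MulAut O) t a) : C ⧸ Z) = a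
        rw [MulAut.conjNormal_apply, MulAut.conjNormal_apply, inv_eq_of_mul_eq_one_right htt,
          show t * (t * (a : C ⧸ Z) * t) * t = t * t * a * (t * t) by group, htt]
        group)
      exact (MulAut.conjNormal_apply t ⟨o, ho⟩).symm.trans
        (congrArg Subtype.val (congrFun (h1.coe_eq_inv_of_involutive h2) ⟨o, ho⟩))
    rw [eq_bot_iff]
    intro o ho
    rw [Subgroup.mem_bot]
    have hsc : sA * eA = eA * sA := hse
    obtain ⟨hfv1, hfv2, hes, -, -, hese⟩ := four_val
    have i1 := hinvert eA rfl hee he1 o ho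
    have i2 := hinvert sA hsc hss hs1
    have i3 := hinvert (sA * eA) (by rw [← mul_assoc eA sA eA, hes]) hfv1 hfv2 o ho
    have e : ((⟨_, hin (sA * eA) (by rw [← mul_assoc eA sA eA, hes])⟩ : C) : C ⧸ Z) =
        ((⟨_, hin sA hsc⟩ : C) : C ⧸ Z) * ((⟨_, hin eA rfl⟩ : C) : C ⧸ Z) := by
      rw [← QuotientGroup.mk_mul]
      refine congrArg _ (Subtype.ext ?_)
      show T.iota (1, sA * eA) = T.iota (1, sA) * T.iota (1, eA)
      rw [← map_mul]; simp
    rw [e, mul_inv_rev] at i3
    have i4 : o = o⁻¹ := by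
      have h := i2 o⁻¹ (inv_mem ho)
      rw [inv_inv] at h
      refine h.symm.trans (Eq.trans ?_ i3)
      rw [← i1]; group
    have h2 : o ^ 2 = 1 := by rw [pow_two]; exact mul_eq_one_iff_eq_inv.mpr i4
    have hd := Subgroup.orderOf_dvd_natCard O ho
    have hdd := orderOf_dvd_of_pow_eq_one h2
    have hco : Nat.Coprime 2 (Nat.card O) := Nat.coprime_two_left.mpr hOodd
    exact orderOf_eq_one_iff.mp (Nat.eq_one_of_dvd_one (hco ▸ Nat.dvd_gcd hdd hd))
  have hz := CfsgLib.Invol.zstar_center hiso hO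
  have hxC : x ∈ C := Subgroup.mem_centralizer_singleton_iff.mpr hx
  have h := Subgroup.mem_center_iff.mp hz ((⟨x, hxC⟩ : C) : C ⧸ Z)
  rw [← QuotientGroup.mk_mul, ← QuotientGroup.mk_mul, eq_comm] at h
  rcases (hmk _ _).mp h with e | e
  · exact T.cent_r_le' e
  · refine T.mem_amb_of_conj ?_
    have e' : x * F.φ qr = F.φ qr * x * F.φ qc := e
    rw [e', mul_assoc (F.φ qr), hx, ← hrqc]
    group

end Twisted

end CfsgLib.SymEightLocal
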