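import Cfsg.Agent.Lib.SymEightLocal.CentC
import Cfsg.Agent.Lib.Cores.Components
import Cfsg.Agent.Lib.Cores.Layer
import Cfsg.Agent.Lib.Components.AltStandard

/-!
The twisted case: the group is `(A₅ × A₅).4`.
-/

set_option autoImplicit false
set_option linter.style.haveILetI false

namespace CfsgLib.SymEightLocal

universe u

variable {G : Type u} [Group G] [Finite G]

namespace Twisted

variable {F : Frame G} (T : Twisted F)
include T

theorem cent_conj_le {m y : G} (hm : m ∈ T.amb) {x : G} (hy : ∀ z, z * y = y * z → z ∈ T.amb)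
    (hx : x * (m * y * m⁻¹) = m * y * m⁻¹ * x) : x ∈ T.amb := by
  have h := hy (m⁻¹ * x * m) (by
    calc m⁻¹ * x * m * y = m⁻¹ * (x * (m * y * m⁻¹)) * m := by group
      _ = _ := by rw [hx]; group)
  have h2 := mul_mem (mul_mem hm h) (inv_mem hm)
  rwa [show m * (m⁻¹ * x * m) * m⁻¹ = x by group] at h2

theorem not_c_swap (j : Bool) : ¬ IsConj (F.φ qc) (F.g * if j then F.φ qu else 1) := by
  intro h
  obtain ⟨a, ha⟩ := isConj_iff.mp h
  have hd : F.φ qd * (F.g * if j then F.φ qu else 1) = (F.g * if j then F.φ qu else 1) * F.φ qd := by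
    cases j
    · simpa using F.g_comm_d.symm
    · simp only [if_true]
      rw [← mul_assoc, ← F.g_comm_d, mul_assoc, ← map_mul, qd_commutes.1, map_mul, mul_assoc]
  set d := a⁻¹ * F.φ qd * a with hddef
  have hdc : d * F.φ qc = F.φ qc * d := by
    rw [hddef]
    calc a⁻¹ * F.φ qd * a * F.φ qc = a⁻¹ * (F.φ qd * (a * F.φ qc * a⁻¹)) * a := by group
      _ = a⁻¹ * ((a * F.φ qc * a⁻¹) * F.φ qd) * a := by rw [ha, hd]
      _ = _ := by group
  let z : ↥(T.amb ⊓ Subgroup.centralizer ({F.φ qc} : Set G)) :=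
    ⟨d, T.cent_c_le hdc, Subgroup.mem_centralizer_singleton_iff.mpr hdc⟩
  have h64 : d ^ 64 = 1 :=
    congrArg Subtype.val (show z ^ 64 = 1 by rw [← T.card_amb_cent_c]; exact pow_card_eq_one')
  have h3 : d ^ 3 = 1 := by
    have := conj_pow (i := 3) (a := a⁻¹) (b := F.φ qd)
    rw [inv_inv] at this
    rw [hddef, this, ← map_pow, d0_ne.2.2.2.1, map_one]; group
  have h1 : d = 1 := by
    have := pow_gcd_eq_one.mpr ⟨h64, h3⟩
    rwa [show Nat.gcd 64 3 = 1 from rfl, pow_one] at this
  refine d0_ne.1 (F.inj ?_)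
  rw [map_one, show F.φ qd = a * d * a⁻¹ by rw [hddef]; group, h1]; group

theorem swap_not_amb0 {m : G} (hm : m ∈ T.amb) (k : Bool) (q : A5 × A5) (l : Bool) :
    m * F.wd k true * m⁻¹ ≠ T.iota q * F.wd l false := by
  intro h
  obtain ⟨p, i, j, rfl⟩ := hm
  have e : T.iota p * F.wd i j * F.wd k true * (T.iota p * F.wd i j)⁻¹ =
      T.iota (p * Twisted.act k true p⁻¹) * F.wd k true := by
    rw [map_mul, mul_assoc (T.iota p) (T.iota _) (F.wd k true), ← T.wd_iota, map_inv, mul_inv_rev]
    have hc : F.wd i j * F.wd k true * (F.wd i j)⁻¹ = F.wd k true := by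
      rw [F.wd_inv, F.wd_mul, F.wd_mul]
      cases i <;> cases j <;> cases k <;> rfl
    calc T.iota p * F.wd i j * F.wd k true * ((F.wd i j)⁻¹ * (T.iota p)⁻¹) =
        T.iota p * (F.wd i j * F.wd k true * (F.wd i j)⁻¹) * (T.iota p)⁻¹ := by group
      _ = _ := by rw [hc]; group
  rw [e] at h
  exact Bool.noConfusion (T.rep_unique h).2.2

theorem r_class_le {k : G} (hk : IsConj (F.φ qr) k) : k ∈ T.amb := by
  have hr1 : F.φ qr ≠ 1 := fun e =>
    qs_facts.2.2.2.2.2.2.2.2.2.2.2.2.2.2.2.1 (F.inj (e.trans (map_one F.φ).symm))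
  obtain ⟨h, hh⟩ := isConj_iff.mp hk
  have hku : orderOf k = 2 := by
    rw [← hh, show h * F.φ qr * h⁻¹ = MulAut.conj h (F.φ qr) from rfl, MulEquiv.orderOf_eq]
    exact orderOf_eq_prime (by rw [pow_two, ← map_mul, qr_facts.2.2.2.2.2.2.2.2.2.2.1, map_one]) hr1
  obtain ⟨t, ht, htu, htk, -⟩ := CfsgLib.Invol.exists_common_involution (x := F.φ qu) (y := k)
    (orderOf_eq_prime (by rw [pow_two, F.u_sq]) F.u_ne_one) hku (fun e => T.not_u_r (e.trans hk.symm))
  have ht2 : t * t = 1 := by rw [← pow_two, ← ht]; exact pow_orderOf_eq_one t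
  have ht1 : t ≠ 1 := fun e => by rw [e, orderOf_one] at ht; omega
  obtain ⟨m, hm, hc⟩ := T.involution_cases (T.cent_u_le htu.eq) ht2 ht1
  have swap : ∀ j : Bool, m * (F.g * if j then F.φ qu else 1) * m⁻¹ = t → False := by
    intro j e
    -- `t` lies in a conjugate of `C(r)`
    have hr' : (h⁻¹ * t * h) * F.φ qr = F.φ qr * (h⁻¹ * t * h) := by
      calc h⁻¹ * t * h * F.φ qr = h⁻¹ * (t * (h * F.φ qr * h⁻¹)) * h := by group
        _ = _ := by rw [hh, htk.eq, ← hh]; group
    obtain ⟨m', hm', hc'⟩ := T.involution_cases (T.cent_r_le' hr')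
      (by rw [show h⁻¹ * t * h * (h⁻¹ * t * h) = h⁻¹ * (t * t) * h by group, ht2]; group)
      (fun e' => ht1 (by rw [show t = h * (h⁻¹ * t * h) * h⁻¹ by group, e']; group))
    obtain ⟨p, i, hp⟩ := T.cent_r_le hr'
    have conjt : ∀ x, m' * x * m'⁻¹ = h⁻¹ * t * h → IsConj x (F.g * if j then F.φ qu else 1) := by
      intro x hx
      refine (isConj_iff.mpr ⟨h * m', ?_⟩ : IsConj x t).trans (isConj_iff.mpr ⟨m, e⟩).symm
      rw [show h * m' * x * (h * m')⁻¹ = h * (m' * x * m'⁻¹) * h⁻¹ by group, hx]; group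
    rcases hc' with e' | e' | e' | e' | e'
    · cases j
      · exact F.not_isConj_g (by simpa using conjt _ e')
      · exact F.not_isConj_gu (by simpa using conjt _ e')
    · exact T.diag_commute j (conjt _ e')
    · exact T.not_c_swap j (conjt _ e')
    · exact T.swap_not_amb0 ‹m' ∈ T.amb› false p i (by rw [← hp, ← e']; simp [Frame.wd])
    · exact T.swap_not_amb0 ‹m' ∈ T.amb› true p i (by rw [← hp, ← e', F.g_comm_u]; simp [Frame.wd])
  have hkt : k * t = t * k := htk.symm.eq
  rcases hc with e | e | e | e | e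
  · exact T.cent_conj_le hm (fun z hz => T.cent_u_le hz) (by rw [e]; exact hkt)
  · exact T.cent_conj_le hm (fun z hz => T.cent_r_le' hz) (by rw [e]; exact hkt)
  · exact T.cent_conj_le hm (fun z hz => T.cent_c_le hz) (by rw [e]; exact hkt)
  · exact (swap false (by simpa using e)).elim
  · exact (swap true (by simpa using e)).elim

/-- The base subgroup. -/
def base : Subgroup G := T.iota.range

theorem r_class_base {k : G} (hk : IsConj (F.φ qr) k) : k ∈ T.base := by
  obtain ⟨a, b, e, -, -⟩ := T.r_class_amb (T.r_class_le hk) hk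
  exact ⟨(a, b), e.symm⟩

theorem base_eq_normalClosure : T.base = Subgroup.normalClosure {F.φ qr} := by
  apply le_antisymm
  · haveI : IsSimpleGroup A5 := alternatingGroup.isSimpleGroup_five
    set N := Subgroup.normalClosure {F.φ qr}
    have hrN : F.φ qr ∈ N := Subgroup.subset_normalClosure rfl
    have h2 : ((N.comap T.iota).comap (MonoidHom.inr A5 A5)) = ⊤ := by
      refine (Subgroup.Normal.eq_bot_or_eq_top inferInstance).resolve_left fun h => ?_
      have : eA ∈ (N.comap T.iota).comap (MonoidHom.inr A5 A5) := by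
        show T.iota (1, eA) ∈ N
        rw [T.iota_values.1]; exact hrN
      rw [h, Subgroup.mem_bot] at this
      exact a5_facts.1 this
    rintro _ ⟨⟨a, b⟩, rfl⟩
    have hb : ∀ b, T.iota (1, b) ∈ N := fun b => by
      have : b ∈ (N.comap T.iota).comap (MonoidHom.inr A5 A5) := h2 ▸ Subgroup.mem_top b
      exact this
    rw [show ((a, b) : A5 × A5) = (a, 1) * (1, b) by simp, map_mul]
    refine mul_mem ?_ (hb b)
    rw [← T.g_iota 1 a]
    exact (inferInstance : N.Normal).conj_mem _ (hb a) _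
  · refine (Subgroup.closure_le _).mpr ?_
    intro x hx
    obtain ⟨y, hy, hyx⟩ := Group.mem_conjugatesOfSet_iff.mp hx
    rw [Set.mem_singleton_iff] at hy
    exact T.r_class_base (hy ▸ hyx)

theorem base_normal : T.base.Normal := T.base_eq_normalClosure ▸ Subgroup.normalClosure_normal

theorem D_le_base : F.D ≤ T.base := by
  obtain ⟨-, -, -, hz, hz', -⟩ := T.iota_values
  rintro _ ⟨q, hq, rfl⟩
  have h1 : F.φ qz ∈ T.base := ⟨_, hz⟩
  have h2 : F.φ qz' ∈ T.base := ⟨_, hz'⟩
  rw [show q = (q.1, 1) * (1, q.2) by simp, map_mul]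
  refine mul_mem ?_ ?_
  · rcases hq.1 with e | e | e <;> rw [e]
    · rw [show ((1, 1) : Q35) = 1 from rfl, map_one]; exact one_mem _
    · exact h1
    · rw [show ((c3⁻¹, 1) : Q35) = qz⁻¹ by simp [qz], map_inv]; exact inv_mem h1
  · rcases hq.2 with e | e | e <;> rw [e]
    · rw [show ((1, 1) : Q35) = 1 from rfl, map_one]; exact one_mem _
    · exact h2
    · rw [show ((1, c5⁻¹) : Q35) = qz'⁻¹ by simp [qz'], map_inv]; exact inv_mem h2

theorem amb_top : T.amb = ⊤ := by
  haveI : Fact (Nat.Prime 3) := ⟨Nat.prime_three⟩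
  haveI := T.base_normal
  rw [eq_top_iff]
  intro x _
  have hDp : IsPGroup 3 ↥F.D := IsPGroup.of_card (n := 2) (by rw [F.card_D]; norm_num)
  obtain ⟨S, hS⟩ := hDp.exists_le_sylow
  have hSD : (S : Subgroup G) = F.D :=
    (Subgroup.eq_of_le_of_card_ge hS (by rw [F.card_D, F.card_sylow_three S])).symm
  have h := Sylow.normalizer_sup_eq_top' S (N := T.base) (hSD ▸ T.D_le_base)
  change Subgroup.normalizer ((S : Subgroup G) : Set G) ⊔ T.base = ⊤ at h
  rw [hSD] at h
  obtain ⟨n, hn, l, ⟨p, rfl⟩, rfl⟩ := Subgroup.mem_sup_of_normal_right.mp (h ▸ Subgroup.mem_top x)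
  refine mul_mem ?_ (T.iota_mem p)
  obtain ⟨q, -, rfl | rfl⟩ := F.mem_normalizer_D.mp hn
  · exact T.phi_mem q
  · exact mul_mem T.g_mem (T.phi_mem q)

theorem base_centralizer {x : G} (hx : ∀ p, x * T.iota p = T.iota p * x) : x = 1 := by
  obtain ⟨q, hq, rfl⟩ := F.mem_centralizer_D.mp (Subgroup.mem_centralizer_iff.mpr fun d hd => by
    obtain ⟨p, rfl⟩ := T.D_le_base hd
    exact (hx p).symm)
  rcases (inC_iff q).mp hq with h | h
  · obtain ⟨p, hp⟩ := T.D_le_base (F.phi_mem_D.mpr h)
    have hc : p ∈ Subgroup.center (A5 × A5) := Subgroup.mem_center_iff.mpr fun p' => T.iota_inj (by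
      rw [map_mul, map_mul, hp, hx])
    rw [← hp]
    have h1 : p.1 ∈ Subgroup.center A5 := Subgroup.mem_center_iff.mpr fun a =>
      congrArg Prod.fst (Subgroup.mem_center_iff.mp hc (a, 1))
    have h2 : p.2 ∈ Subgroup.center A5 := Subgroup.mem_center_iff.mpr fun a =>
      congrArg Prod.snd (Subgroup.mem_center_iff.mp hc (1, a))
    haveI : IsSimpleGroup A5 := alternatingGroup.isSimpleGroup_five
    rw [alternatingGroup.center_eq_bot (by simp), Subgroup.mem_bot] at h1 h2
    rw [show p = 1 from Prod.ext h1 h2, map_one]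
  · exfalso
    obtain ⟨p, hp⟩ := T.D_le_base (F.phi_mem_D.mpr h)
    have hu : F.φ qu = (F.φ q)⁻¹ * T.iota p := by rw [hp, map_mul, inv_mul_cancel_left]
    have h1 := T.u_iota eA 1
    have h2 : ∀ p' : A5 × A5, F.φ qu * T.iota p' * (F.φ qu)⁻¹ = T.iota (p * p' * p⁻¹) := by
      intro p'
      rw [hu, map_mul, map_mul, map_inv]
      have hc : (F.φ q)⁻¹ * (T.iota p * T.iota p' * (T.iota p)⁻¹) * F.φ q = T.iota p * T.iota p' * (T.iota p)⁻¹ := by
        have := hx (p * p' * p⁻¹)
        rw [map_mul, map_mul, map_inv] at this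
        rw [mul_assoc, ← this, inv_mul_cancel_left]
      calc (F.φ q)⁻¹ * T.iota p * T.iota p' * ((F.φ q)⁻¹ * T.iota p)⁻¹ =
          (F.φ q)⁻¹ * (T.iota p * T.iota p' * (T.iota p)⁻¹) * F.φ q := by group
        _ = _ := hc
    -- conjugation by the transposition is not inner
    have hA : ∀ a : A5, u5 * (a : Equiv.Perm (Fin 5)) * u5⁻¹ = (p.1 : Equiv.Perm (Fin 5)) * a * (p.1 : Equiv.Perm (Fin 5))⁻¹ := by
      intro a
      have e := T.iota_inj ((T.u_iota a 1).symm.trans (h2 (a, 1)))
      have e' := congrArg (fun x : A5 × A5 => (x.1 : Equiv.Perm (Fin 5))) e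
      simp only [Twisted.cU_val] at e'
      rw [e']; rfl
    refine u5_not_inner p.1 (Equiv.Perm.mem_alternatingGroup.mp p.1.2) ?_ ?_ (hA sA).symm
    · exact (hA cA).symm.trans (by decide +kernel)
    · exact (hA eA).symm.trans q_embed.2.2.2.2.2.2.2.2.2.2.2.1

theorem base_index : T.base.index = 4 := by
  have h1 := Subgroup.card_mul_index T.base
  have h2 : Nat.card T.base = 3600 := by
    rw [show T.base = T.iota.range from rfl, ← Nat.card_congr (MonoidHom.ofInjective T.iota_inj).toEquiv, Nat.card_prod,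
      show Nat.card A5 = 60 by rw [nat_card_alternatingGroup, Nat.card_fin]; decide]
  have h3 : Nat.card G = 14400 := by
    rw [← T.card_amb, T.amb_top, Subgroup.card_top]
  rw [h2, h3] at h1
  omega

theorem base_sq (x : G) : x ^ 2 ∈ T.base := by
  obtain ⟨p, i, j, rfl⟩ : x ∈ T.amb := T.amb_top ▸ Subgroup.mem_top x
  refine ⟨p * Twisted.act i j p, ?_⟩
  rw [pow_two, map_mul, show T.iota p * F.wd i j * (T.iota p * F.wd i j) = T.iota p * (F.wd i j * T.iota p) * F.wd i j by group,
    T.wd_iota, show T.iota p * (T.iota (Twisted.act i j p) * F.wd i j) * F.wd i j =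
      T.iota p * T.iota (Twisted.act i j p) * (F.wd i j * F.wd i j) by group, F.wd_mul]
  simp [Frame.wd]

theorem base_minimal (K : Subgroup G) (hK : K.Normal) (hle : K ≤ T.base) : K = ⊥ ∨ K = T.base := by
  haveI : IsSimpleGroup A5 := alternatingGroup.isSimpleGroup_five
  by_cases hbot : K = ⊥
  · exact Or.inl hbot
  right
  refine le_antisymm hle ?_
  have hN : (K.comap T.iota).Normal := hK.comap _
  have hf : ∀ a : A5, T.iota (a, 1) ∈ K ↔ T.iota (1, a) ∈ K := fun a => by
    constructor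
    · intro h; rw [← T.g_iota a 1]; exact hK.conj_mem _ h _
    · intro h; rw [← T.g_iota 1 a]; exact hK.conj_mem _ h _
  obtain ⟨a, ha1, ha⟩ : ∃ a : A5, a ≠ 1 ∧ T.iota (a, 1) ∈ K := by
    obtain ⟨x, hx, hx1⟩ := (Subgroup.bot_or_exists_ne_one K).resolve_left hbot
    obtain ⟨⟨a, b⟩, rfl⟩ := hle hx
    have key : ∀ c d : A5, T.iota (c, d) ∈ K → ∀ y : A5, T.iota (y * c * y⁻¹ * c⁻¹, 1) ∈ K := by
      intro c d h y
      have h1 := mul_mem (hN.conj_mem (c, d) h (y, 1)) (inv_mem (show (c, d) ∈ K.comap T.iota from h))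
      simpa using h1
    rcases eq_or_ne a 1 with ha | ha
    · refine ⟨b, fun hb => hx1 ?_, (hf b).mpr (ha ▸ hx)⟩
      rw [ha, hb, ← Prod.one_eq_mk, map_one]
    · obtain ⟨y, hy⟩ : ∃ y, y * a * y⁻¹ * a⁻¹ ≠ 1 := by
        by_contra hall
        push Not at hall
        apply ha
        have : a ∈ Subgroup.center A5 := Subgroup.mem_center_iff.mpr fun y => by
          have := hall y
          rwa [mul_inv_eq_one, mul_inv_eq_iff_eq_mul] at this
        rwa [alternatingGroup.center_eq_bot (by simp), Subgroup.mem_bot] at this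
      exact ⟨_, hy, key a b hx y⟩
  have h2 : (K.comap T.iota).comap (MonoidHom.inl A5 A5) = ⊤ := by
    refine (Subgroup.Normal.eq_bot_or_eq_top inferInstance).resolve_left fun h => ?_
    have : a ∈ (K.comap T.iota).comap (MonoidHom.inl A5 A5) := ha
    rw [h, Subgroup.mem_bot] at this
    exact ha1 this
  have hall : ∀ c : A5, T.iota (c, 1) ∈ K := fun c => by
    have : c ∈ (K.comap T.iota).comap (MonoidHom.inl A5 A5) := h2 ▸ Subgroup.mem_top c
    exact this
  rintro _ ⟨⟨c, d⟩, rfl⟩
  rw [show ((c, d) : A5 × A5) = (c, 1) * (1, d) by simp, map_mul]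
  exact mul_mem (hall c) ((hf d).mp (hall d))

theorem base_fstar : Cfsg.generalizedFittingSubgroup G = T.base := by
  haveI : IsSimpleGroup A5 := alternatingGroup.isSimpleGroup_five
  haveI := T.base_normal
  have hq : Cfsg.IsQuasisimple A5 := CfsgLib.Components.Alt.isQuasisimple_of_simple inferInstance
    (alternatingGroup.center_eq_bot (by simp))
  let L1 : Subgroup G := (T.iota.comp (MonoidHom.inl A5 A5)).range
  let L2 : Subgroup G := (T.iota.comp (MonoidHom.inr A5 A5)).range
  have hcomp : ∀ f : A5 →* A5 × A5, Function.Injective f → f.range.Normal →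
      Cfsg.IsComponent (T.iota.comp f).range := by
    intro f hf hfn
    refine ⟨?_, CfsgLib.Cores.isQuasisimple_of_equiv (MonoidHom.ofInjective (T.iota_inj.comp hf)) hq⟩
    have e : (T.iota.comp f).range.subgroupOf T.base = f.range.map T.iota.rangeRestrict := by
      ext x
      constructor
      · rintro ⟨a, ha⟩; exact ⟨f a, ⟨a, rfl⟩, Subtype.ext ha⟩
      · rintro ⟨_, ⟨a, rfl⟩, rfl⟩; exact ⟨a, rfl⟩
    have hsub : ((T.iota.comp f).range.subgroupOf T.base).Normal := by
      rw [e]; exact hfn.map _ T.iota.rangeRestrict_surjective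
    have h1 := hsub.isSubnormal.trans' (T.base_normal.isSubnormal)
    rwa [Subgroup.subgroupOf_map_subtype, inf_eq_left.mpr (by
      rintro _ ⟨a, rfl⟩; exact ⟨f a, rfl⟩)] at h1
  have hn1 : (MonoidHom.inl A5 A5).range.Normal := ⟨by
    rintro _ ⟨a, rfl⟩ y
    exact ⟨y.1 * a * y.1⁻¹, Prod.ext rfl (by simp)⟩⟩
  have hn2 : (MonoidHom.inr A5 A5).range.Normal := ⟨by
    rintro _ ⟨a, rfl⟩ y
    exact ⟨y.2 * a * y.2⁻¹, Prod.ext (by simp) rfl⟩⟩
  have hL1 : Cfsg.IsComponent L1 := hcomp _ (fun a b h => congrArg Prod.fst h) hn1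
  have hL2 : Cfsg.IsComponent L2 := hcomp _ (fun a b h => congrArg Prod.snd h) hn2
  have hbase : ∀ p, T.iota p ∈ L1 ⊔ L2 := by
    rintro ⟨a, b⟩
    rw [show ((a, b) : A5 × A5) = (a, 1) * (1, b) by simp, map_mul]
    exact mul_mem (Subgroup.mem_sup_left ⟨a, rfl⟩) (Subgroup.mem_sup_right ⟨b, rfl⟩)
  apply le_antisymm
  · refine sup_le (CfsgLib.Cores.layer_le_iff.mpr fun K hK => ?_) (sSup_le ?_)
    · by_cases h1 : K = L1
      · rw [h1]; rintro _ ⟨a, rfl⟩; exact ⟨(a, 1), rfl⟩
      by_cases h2 : K = L2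
      · rw [h2]; rintro _ ⟨a, rfl⟩; exact ⟨(1, a), rfl⟩
      exfalso
      apply CfsgLib.Cores.component_ne_bot hK
      rw [eq_bot_iff]
      intro x hx
      refine Subgroup.mem_bot.mpr (T.base_centralizer fun p => ?_)
      have c1 := Subgroup.commutator_eq_bot_iff_le_centralizer.mp (CfsgLib.Cores.commutator_components_eq_bot hK hL1 h1) hx
      have c2 := Subgroup.commutator_eq_bot_iff_le_centralizer.mp (CfsgLib.Cores.commutator_components_eq_bot hK hL2 h2) hx
      have : L1 ⊔ L2 ≤ Subgroup.centralizer ({x} : Set G) := sup_le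
        (fun y hy => Subgroup.mem_centralizer_singleton_iff.mpr (Subgroup.mem_centralizer_iff.mp c1 y hy))
        (fun y hy => Subgroup.mem_centralizer_singleton_iff.mpr (Subgroup.mem_centralizer_iff.mp c2 y hy))
      exact (Subgroup.mem_centralizer_singleton_iff.mp (this (hbase p))).symm
    · rintro N ⟨hN, hnil⟩
      haveI := hN
      rcases T.base_minimal (N ⊓ T.base) inferInstance inf_le_right with h | h
      · intro x hx
        have : x = 1 := T.base_centralizer fun p =>
          (Subgroup.commute_of_normal_of_disjoint N T.base hN T.base_normal (disjoint_iff.mpr h) x (T.iota p) hx ⟨p, rfl⟩).eq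
        rw [this]; exact one_mem _
      · exfalso
        have hle : T.base ≤ N := inf_eq_right.mp h
        haveI : Group.IsNilpotent N := hnil
        let f : A5 →* N := (T.iota.comp (MonoidHom.inl A5 A5)).codRestrict N (fun a => hle ⟨(a, 1), rfl⟩)
        have hf : Function.Injective f := fun a b e => by
          have := T.iota_inj (congrArg Subtype.val e)
          exact congrArg Prod.fst this
        haveI : Group.IsNilpotent A5 := Group.nilpotent_of_mulEquiv (MonoidHom.ofInjective hf).symm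
        exact CfsgLib.Cores.not_isSolvable_of_isQuasisimple hq inferInstance
  · rintro _ ⟨p, rfl⟩
    exact CfsgLib.Cores.layer_le_generalizedFittingSubgroup
      ((sup_le (CfsgLib.Cores.component_le_layer hL1) (CfsgLib.Cores.component_le_layer hL2)) (hbase p))

end Twisted

end CfsgLib.SymEightLocal
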