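import Cfsg.Agent.Lib.SymEightLocal.SectionModel

/-!
Finite checks in `A₅` and `S₅` for the twisted configuration.
-/

set_option autoImplicit false
set_option synthInstance.maxSize 4000
-- sequential checks keep the memory use moderate
set_option Elab.async false

namespace CfsgLib.SymEightLocal

open Equiv

/-- The alternating group on five points. -/
abbrev A5 : Type := ↥(alternatingGroup (Fin 5))

def eA : A5 := ⟨e5, Equiv.Perm.mem_alternatingGroup.mpr (by decide +kernel)⟩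
def sA : A5 := ⟨s5, Equiv.Perm.mem_alternatingGroup.mpr (by decide +kernel)⟩
def cA : A5 := ⟨c5, Equiv.Perm.mem_alternatingGroup.mpr (by decide +kernel)⟩


theorem root_qs : ∃ f : Q35, f * qr = qr * f ∧ f * f = qs := by decide +kernel

theorem r_cent_card : Fintype.card {q : Q35 // q * qr = qr * q} = 240 := by decide +kernel

theorem s_options_aux : ∀ p : Q35, p * qr = qr * p → p ≠ 1 → p ≠ qe → p * qe = qe * p → p * p = 1 →
    (∃ f : Q35, f * qr = qr * f ∧ f * f = p) → p = qs ∨ p = qs * qe := by decide +kernel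

theorem s_options (p : Q35) (h1 : p * qr = qr * p) (h2 : ∃ f : Q35, f * qr = qr * f ∧ f * f = p) (h3 : p ≠ 1)
    (h4 : p * p = 1) (h5 : p * qe = qe * p) (h6 : p ≠ qe) : p = qs ∨ p = qs * qe :=
  s_options_aux p h1 h3 h6 h5 h4 h2

theorem a5_involution : ∀ a : A5, a * a = 1 → a ≠ 1 → ∃ h : A5, h * eA * h⁻¹ = a := by decide +kernel

theorem a5_odd : ∀ a : Perm (Fin 5), Perm.sign a = 1 → a * u5 * (a * u5) = 1 →
    ∃ h : Perm (Fin 5), Perm.sign h = 1 ∧ h * u5 * h⁻¹ = a * u5 := by decide +kernel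

theorem a5_cent_e : Fintype.card {a : A5 // a * eA = eA * a} = 4 := by decide +kernel

theorem a5_facts : eA ≠ 1 ∧ eA * eA = 1 ∧ sA * sA = 1 ∧ sA * eA = eA * sA ∧ sA ≠ eA ∧ sA ≠ 1 ∧ cA ^ 3 = 1 ∧ cA ≠ 1 ∧
    (cA * sA) ^ 5 = 1 ∧ cA * sA ≠ 1 ∧ eA * cA ≠ cA * eA := by decide +kernel

theorem q_embed : ((1, c5) : Q35) = qz' ∧ ((1, e5) : Q35) = qe ∧ ((1, s5) : Q35) = qs ∧
    qe * qr = qr * qe ∧ qz' * qr = qr * qz' ∧ qs * qz = qz * qs ∧ qe * qz = qz * qe ∧ qz * qz' = qz' * qz ∧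
    qs * qe = qe * qs ∧ qs * qr = qr * qs ∧ u5 * u5 = 1 ∧ u5 * e5 * u5⁻¹ = e5 ∧ Perm.sign u5 = -1 := by decide +kernel

theorem first_cases : ∀ a : Perm (Fin 3), ∃ i : Fin 3, a = c3 ^ (i : ℕ) ∨ a = c3 ^ (i : ℕ) * t3 := by decide +kernel

theorem u5_not_inner : ∀ a : Perm (Fin 5), Perm.sign a = 1 → a * c5 * a⁻¹ = c5 → a * e5 * a⁻¹ = e5 →
    a * s5 * a⁻¹ = u5 * s5 * u5⁻¹ → False := by decide +kernel

end CfsgLib.SymEightLocal
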