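import Cfsg.Agent.Lib.SymEightLocal.Section
import Cfsg.Agent.Lib.SymEightLocal.GlobalModel

/-!
The twisted case: the subgroup `(A₅ × A₅).4`.
-/

set_option autoImplicit false
set_option linter.style.haveILetI false

namespace CfsgLib.SymEightLocal

universe u

variable {G : Type u} [Group G] [Finite G]

theorem a5_top (K : Subgroup A5) (hc : cA ∈ K) (hs : sA ∈ K) (he : eA ∈ K) : K = ⊤ := by
  haveI : Fact (Nat.Prime 2) := ⟨Nat.prime_two⟩
  haveI : Fact (Nat.Prime 3) := ⟨Nat.prime_three⟩
  haveI : Fact (Nat.Prime 5) := ⟨by norm_num⟩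
  obtain ⟨he1, hee, hss, hse, hne, hs1, hc3, hc1, h5, h51, -⟩ := a5_facts
  have d3 : 3 ∣ Nat.card K := by
    have := Subgroup.orderOf_dvd_natCard K hc
    rwa [orderOf_eq_prime hc3 hc1] at this
  have d5 : 5 ∣ Nat.card K := by
    have := Subgroup.orderOf_dvd_natCard K (mul_mem hc hs)
    rwa [orderOf_eq_prime h5 h51] at this
  have d4 : 4 ∣ Nat.card K := by
    let V : Subgroup A5 :=
      { carrier := {a | a = 1 ∨ a = eA ∨ a = sA ∨ a = sA * eA}
        one_mem' := Or.inl rfl
        mul_mem' := fun {a b} ha hb => by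
          revert ha hb
          simp only [Set.mem_setOf_eq]
          rintro (rfl | rfl | rfl | rfl) (rfl | rfl | rfl | rfl) <;> decide +kernel
        inv_mem' := fun {a} ha => by
          revert ha
          simp only [Set.mem_setOf_eq]
          rintro (rfl | rfl | rfl | rfl) <;> decide +kernel }
    have hV : Nat.card V = 4 := by
      have e : (V : Set A5) = (({1, eA, sA, sA * eA} : Finset A5) : Set A5) := by
        ext a; simp [V]
      rw [show Nat.card V = Set.ncard (V : Set A5) from Nat.card_coe_set_eq _, e, Set.ncard_coe_finset]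
      decide +kernel
    have hle : V ≤ K := by
      rintro a (rfl | rfl | rfl | rfl)
      · exact one_mem _
      · exact he
      · exact hs
      · exact mul_mem hs he
    exact hV ▸ Subgroup.card_dvd_of_le hle
  have h60 : 60 ∣ Nat.card K := by omega
  refine Subgroup.eq_top_of_le_card K ?_
  rw [show Nat.card A5 = 60 by rw [nat_card_alternatingGroup, Nat.card_fin]; decide]
  exact Nat.le_of_dvd Nat.card_pos h60

/-- The second factor embedded. -/
def iR : A5 →* Q35 := (MonoidHom.inr _ _).comp (alternatingGroup (Fin 5)).subtype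

theorem iR_vals : iR cA = qz' ∧ iR sA = qs ∧ iR eA = qe :=
  ⟨q_embed.1, q_embed.2.2.1, q_embed.2.1⟩

theorem iR_inj : Function.Injective iR := fun a b h => Subtype.ext (congrArg Prod.snd h)

namespace Frame

variable (F : Frame G)

/-- The first component. -/
def comp1 : A5 →* G := F.φ.comp iR

/-- The second component. -/
def comp2 : A5 →* G := F.psi.comp iR

end Frame

namespace Twisted

variable {F : Frame G} (T : Twisted F)
include T

theorem psi_qz' : F.psi qz' = F.φ qz := F.g_z'

theorem psi_qz : F.psi qz = F.φ qz' := F.g_z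

theorem psi_qr : F.psi qr = F.φ qe := T.tw

theorem swap_psi (q : Q35) : F.g * F.psi q * F.g⁻¹ = F.φ q := by rw [F.psi_apply, F.g_conj]

/-- The image of `S₅` in `C(r)` has index two. -/
theorem rel_index_two :
    ((Subgroup.centralizer ({qr} : Set Q35)).map F.φ).relIndex (Subgroup.centralizer ({F.φ qr} : Set G)) = 2 := by
  set B := (Subgroup.centralizer ({qr} : Set Q35)).map F.φ
  have hle : B ≤ Subgroup.centralizer ({F.φ qr} : Set G) := by
    rintro _ ⟨q, hq, rfl⟩
    rw [Subgroup.mem_centralizer_singleton_iff, ← map_mul, Subgroup.mem_centralizer_singleton_iff.mp hq, map_mul]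
  have hB : Nat.card B = 240 := by
    rw [Subgroup.card_map_of_injective F.inj, ← r_cent_card, ← Nat.card_eq_fintype_card]
    exact Nat.card_congr (Equiv.subtypeEquivRight fun q => Subgroup.mem_centralizer_singleton_iff)
  have := Subgroup.card_mul_index (B.subgroupOf (Subgroup.centralizer ({F.φ qr} : Set G)))
  rw [Nat.card_congr (Subgroup.subgroupOfEquivOfLe hle).toEquiv, hB, T.card_cent_r] at this
  show (B.subgroupOf _).index = 2
  omega

theorem s_comm_s' : F.psi qs * F.φ qs = F.φ qs * F.psi qs := by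
  obtain ⟨-, -, -, hqer, hzr', hqsz, -, -, hqse, hqsr, -, -, -⟩ := q_embed
  obtain ⟨f0, hf, hff⟩ := root_qs
  set C := Subgroup.centralizer ({F.φ qr} : Set G)
  set B := (Subgroup.centralizer ({qr} : Set Q35)).map F.φ with hB
  set s := F.psi qs
  have hs : s ∈ C := T.psi_mem hqse
  haveI hn : (B.subgroupOf C).Normal := Subgroup.normal_of_index_eq_two T.rel_index_two
  have hss : s * s = 1 := by rw [← map_mul, cent_r_facts.2.2.2.2.2.2.2.2.2.2.2.1, map_one]
  have hfC : F.φ f0 ∈ C := Subgroup.mem_centralizer_singleton_iff.mpr (by rw [← map_mul, hf, map_mul])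
  obtain ⟨p0, hp0, hp0e⟩ : s * F.φ f0 * s⁻¹ ∈ B := hn.conj_mem ⟨F.φ f0, hfC⟩
    (⟨f0, Subgroup.mem_centralizer_singleton_iff.mpr hf, rfl⟩) ⟨s, hs⟩
  have hp0' := Subgroup.mem_centralizer_singleton_iff.mp hp0
  have hp : F.φ (p0 * p0) = s * F.φ qs * s⁻¹ := by
    rw [map_mul, hp0e, ← hff, map_mul]; group
  have hse : s * F.φ qe * s⁻¹ = F.φ qe := by
    rw [← T.psi_qr, ← map_inv, ← map_mul, ← map_mul, hqsr, mul_inv_cancel_right]
  have hqs1 : qs ≠ 1 := by decide +kernel
  have hqse' : qs ≠ qe := by decide +kernel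
  have key := s_options (p0 * p0) (((show Commute p0 qr from hp0').mul_left hp0').eq) ⟨p0, hp0', rfl⟩
    (fun h => by
      rw [h, map_one, eq_comm, conj_eq_one_iff] at hp
      exact hqs1 (F.inj (hp.trans (map_one F.φ).symm)))
    (F.inj (by
      rw [map_mul _ (p0 * p0), hp, map_one,
        show s * F.φ qs * s⁻¹ * (s * F.φ qs * s⁻¹) = s * (F.φ qs * F.φ qs) * s⁻¹ by group, ← map_mul,
        cent_r_facts.2.2.2.2.2.2.2.2.2.2.2.1, map_one]
      group))
    (F.inj (by
      rw [map_mul _ (p0 * p0), map_mul _ qe, hp]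
      conv_lhs => rw [← hse]
      conv_rhs => rw [← hse]
      rw [show s * F.φ qs * s⁻¹ * (s * F.φ qe * s⁻¹) = s * (F.φ qs * F.φ qe) * s⁻¹ by group, ← map_mul, hqse, map_mul]
      group))
    (fun h => by
      rw [h] at hp
      refine hqse' (F.inj ?_)
      have := hp.trans (rfl : _ = s * F.φ qs * s⁻¹)
      calc F.φ qs = s⁻¹ * (s * F.φ qs * s⁻¹) * s := by group
        _ = s⁻¹ * (s * F.φ qe * s⁻¹) * s := by rw [← hp, hse]
        _ = F.φ qe := by group)
  rcases key with e | e
  · rw [e] at hp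
    exact (mul_inv_eq_iff_eq_mul.mp hp.symm)
  · exfalso
    rw [e, map_mul] at hp
    -- apply the swap
    have hp' : F.φ qs * s * (F.φ qs)⁻¹ = s * F.φ qr := by
      have h := congrArg (fun x => F.g * x * F.g⁻¹) hp
      rw [show F.g * (F.φ qs * F.φ qe) * F.g⁻¹ = (F.g * F.φ qs * F.g⁻¹) * (F.g * F.φ qe * F.g⁻¹) by group,
        T.g_e, ← F.psi_apply] at h
      rw [show F.g * (s * F.φ qs * s⁻¹) * F.g⁻¹ = (F.g * s * F.g⁻¹) * (F.g * F.φ qs * F.g⁻¹) * (F.g * s * F.g⁻¹)⁻¹ by group,
        T.swap_psi, ← F.psi_apply] at h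
      exact h.symm
    set s' := F.φ qs
    have hs's' : s' * s' = 1 := by rw [← map_mul, cent_r_facts.2.2.2.2.2.2.2.2.2.2.2.1, map_one]
    have h1 : (s * s') * (s * s') = F.φ qe := by
      calc (s * s') * (s * s') = (s * s' * s⁻¹) * (s * s) * s' := by group
        _ = s' * F.φ qe * s' := by rw [← hp, hss, mul_one]
        _ = F.φ qe := by
          rw [← map_mul, ← map_mul, hqse, mul_assoc, cent_r_facts.2.2.2.2.2.2.2.2.2.2.2.1, mul_one]
    have h2 : (s' * s) * (s' * s) = F.φ qr := by
      calc (s' * s) * (s' * s) = (s' * s * s'⁻¹) * (s' * s') * s := by group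
        _ = s * F.φ qr * s := by rw [hp', hs's', mul_one]
        _ = F.φ qr := by
          have := Subgroup.mem_centralizer_singleton_iff.mp hs
          rw [mul_assoc, ← this, ← mul_assoc, hss, one_mul]
    have h3 : F.φ qr * F.φ qe = 1 := by
      rw [← h1, ← h2]
      calc s' * s * (s' * s) * (s * s' * (s * s')) = s' * s * s' * (s * s) * s' * s * s' := by group
        _ = s' * s * (s' * s') * s * s' := by rw [hss, mul_one]; group
        _ = s' * (s * s) * s' := by rw [hs's', mul_one]; group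
        _ = 1 := by rw [hss, mul_one, hs's']
    have h4 : qr * qe = 1 := F.inj (by rw [map_mul, h3, map_one])
    exact absurd h4 (by decide +kernel)

theorem comp_commute : ∀ a b : A5, Commute (F.comp1 a) (F.comp2 b) := by
  obtain ⟨hi1, hi2, hi3⟩ := iR_vals
  obtain ⟨-, -, -, hqer, hzr', hqsz, hqez, hzz, -, hqsr, -, -, -⟩ := q_embed
  have hφ : ∀ p q : Q35, p * q = q * p → Commute (F.φ p) (F.φ q) := fun p q h => by
    show _ = _; rw [← map_mul, h, map_mul]
  have hψ : ∀ p q : Q35, p * q = q * p → Commute (F.psi p) (F.psi q) := fun p q h => by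
    show _ = _; rw [← map_mul, h, map_mul]
  have hgen : ∀ y : G, Commute (F.φ qz') y → Commute (F.φ qs) y → Commute (F.φ qe) y →
      ∀ a, Commute (F.comp1 a) y := by
    intro y h1 h2 h3 a
    have := a5_top ((Subgroup.centralizer ({y} : Set G)).comap F.comp1)
      (Subgroup.mem_centralizer_singleton_iff.mpr (by show F.φ (iR cA) * y = _; rw [hi1]; exact (show _ from h1.eq).trans (by show y * F.φ qz' = y * F.φ (iR cA); rw [hi1])))
      (Subgroup.mem_centralizer_singleton_iff.mpr (by show F.φ (iR sA) * y = y * F.φ (iR sA); rw [hi2]; exact h2.eq))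
      (Subgroup.mem_centralizer_singleton_iff.mpr (by show F.φ (iR eA) * y = y * F.φ (iR eA); rw [hi3]; exact h3.eq))
    exact Subgroup.mem_centralizer_singleton_iff.mp (show F.comp1 a ∈ Subgroup.centralizer ({y} : Set G) from
      Subgroup.mem_comap.mp (this ▸ Subgroup.mem_top a))
  intro a
  have hz : Commute (F.comp1 a) (F.φ qz) :=
    hgen _ (hφ _ _ hzz.symm) (hφ _ _ hqsz) (hφ _ _ hqez) a
  have hr : Commute (F.comp1 a) (F.φ qr) :=
    hgen _ (hφ _ _ hzr') (hφ _ _ hqsr) (hφ _ _ hqer) a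
  have hs : Commute (F.comp1 a) (F.psi qs) :=
    hgen _ (T.psi_qz ▸ hψ _ _ hqsz.symm) T.s_comm_s'.symm (T.psi_qr ▸ hψ _ _ hqsr.symm) a
  intro b
  have h2 := a5_top ((Subgroup.centralizer ({F.comp1 a} : Set G)).comap F.comp2)
    (Subgroup.mem_centralizer_singleton_iff.mpr (by
      show F.psi (iR cA) * F.comp1 a = F.comp1 a * F.psi (iR cA)
      rw [hi1, T.psi_qz']; exact hz.symm.eq))
    (Subgroup.mem_centralizer_singleton_iff.mpr (by
      show F.psi (iR sA) * F.comp1 a = F.comp1 a * F.psi (iR sA)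
      rw [hi2]; exact hs.symm.eq))
    (Subgroup.mem_centralizer_singleton_iff.mpr (by
      show F.psi (iR eA) * F.comp1 a = F.comp1 a * F.psi (iR eA)
      rw [hi3, T.psi_qe]; exact hr.symm.eq))
  exact (Subgroup.mem_centralizer_singleton_iff.mp (show F.comp2 b ∈ Subgroup.centralizer ({F.comp1 a} : Set G) from
    Subgroup.mem_comap.mp (h2 ▸ Subgroup.mem_top b))).symm

/-- The embedding of `A₅ × A₅`. -/
def iota : A5 × A5 →* G := MonoidHom.noncommCoprod F.comp1 F.comp2 T.comp_commute

theorem iota_apply (a b : A5) : T.iota (a, b) = F.comp1 a * F.comp2 b := rfl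

theorem comp1_inj : Function.Injective F.comp1 := F.inj.comp iR_inj

theorem comp2_inj : Function.Injective F.comp2 := F.psi_inj.comp iR_inj

theorem iota_inj : Function.Injective T.iota := by
  rw [injective_iff_map_eq_one]
  rintro ⟨a, b⟩ h
  rw [T.iota_apply] at h
  have e : F.comp1 a = F.comp2 b⁻¹ := by rw [map_inv]; exact eq_inv_of_mul_eq_one_left h
  haveI : IsSimpleGroup A5 := alternatingGroup.isSimpleGroup_five
  have hc : a ∈ Subgroup.center A5 := Subgroup.mem_center_iff.mpr fun x => T.comp1_inj (by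
    rw [map_mul, map_mul, e]; exact (T.comp_commute x b⁻¹).eq)
  rw [alternatingGroup.center_eq_bot (by simp), Subgroup.mem_bot] at hc
  rw [hc, map_one, one_mul] at h
  exact Prod.ext hc (T.comp2_inj (h.trans (map_one _).symm))

theorem g_iota (a b : A5) : F.g * T.iota (a, b) * F.g⁻¹ = T.iota (b, a) := by
  rw [T.iota_apply, T.iota_apply, show F.g * (F.comp1 a * F.comp2 b) * F.g⁻¹ =
    (F.g * F.comp1 a * F.g⁻¹) * (F.g * F.comp2 b * F.g⁻¹) by group]
  show F.psi (iR a) * (F.g * F.psi (iR b) * F.g⁻¹) = _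
  rw [T.swap_psi]
  exact (T.comp_commute b a).symm.eq

/-- Conjugation by the outer transposition. -/
noncomputable def cU : A5 ≃* A5 :=
  @MulAut.conjNormal _ _ (alternatingGroup (Fin 5)) inferInstance u5

omit T [Finite G] in
theorem cU_val (a : A5) : ((Twisted.cU a : A5) : Equiv.Perm (Fin 5)) = u5 * a * u5⁻¹ :=
  MulAut.conjNormal_apply u5 a

theorem u_iota (a b : A5) : F.φ qu * T.iota (a, b) * (F.φ qu)⁻¹ = T.iota (Twisted.cU a, Twisted.cU b) := by
  have hi : ∀ a : A5, qu * iR a * qu⁻¹ = iR (Twisted.cU a) := fun a =>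
    Prod.ext (by simp [qu, iR]) (Twisted.cU_val a).symm
  rw [T.iota_apply, T.iota_apply, show F.φ qu * (F.comp1 a * F.comp2 b) * (F.φ qu)⁻¹ =
    (F.φ qu * F.comp1 a * (F.φ qu)⁻¹) * (F.φ qu * F.comp2 b * (F.φ qu)⁻¹) by group]
  congr 1
  · show F.φ qu * F.φ (iR a) * (F.φ qu)⁻¹ = F.φ (iR _)
    rw [← map_inv, ← map_mul, ← map_mul, hi]
  · show F.φ qu * F.psi (iR b) * (F.φ qu)⁻¹ = F.psi (iR _)
    rw [← T.psi_u, ← map_inv, ← map_mul, ← map_mul, hi]

end Twisted

end CfsgLib.SymEightLocal
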