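import Mathlib

/-!
The concrete group `S₃ × S₅` and finite checks inside it.
-/

set_option autoImplicit false
set_option synthInstance.maxSize 4000
-- sequential checks keep the memory use moderate
set_option Elab.async false

namespace CfsgLib.SymEightLocal

open Equiv

/-- The model of the normalizer of the central element of order three. -/
abbrev Q35 : Type := Perm (Fin 3) × Perm (Fin 5)

/-- A three-cycle on three points. -/
def c3 : Perm (Fin 3) := swap 0 1 * swap 1 2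
/-- A transposition on three points. -/
def t3 : Perm (Fin 3) := swap 0 1
/-- A three-cycle on five points. -/
def c5 : Perm (Fin 5) := swap 0 1 * swap 1 2
/-- A transposition on five points. -/
def t5 : Perm (Fin 5) := swap 0 1
/-- The transposition disjoint from the three-cycle. -/
def u5 : Perm (Fin 5) := swap 3 4
/-- A double transposition inverting the three-cycle. -/
def e5 : Perm (Fin 5) := swap 0 1 * swap 3 4
/-- A double transposition commuting with `e5`. -/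
def s5 : Perm (Fin 5) := swap 0 3 * swap 1 4

def qz : Q35 := (c3, 1)
def qz' : Q35 := (1, c5)
def qd : Q35 := (c3, c5)
def qr : Q35 := (t3, 1)
def qr' : Q35 := (1, t5)
def qu : Q35 := (1, u5)

/-- Membership in the standard Sylow subgroup. -/
def InD (q : Q35) : Prop :=
  (q.1 = 1 ∨ q.1 = c3 ∨ q.1 = c3⁻¹) ∧ (q.2 = 1 ∨ q.2 = c5 ∨ q.2 = c5⁻¹)

instance : DecidablePred InD := fun q => inferInstanceAs (Decidable (_ ∧ _))

/-- Membership in the normalizer of the standard Sylow subgroup. -/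
def InN (q : Q35) : Prop := q.2 * c5 * q.2⁻¹ = c5 ∨ q.2 * c5 * q.2⁻¹ = c5⁻¹

instance : DecidablePred InN := fun q => inferInstanceAs (Decidable (_ ∨ _))

/-- Membership in the centralizer of the standard Sylow subgroup. -/
def InC (q : Q35) : Prop := q * qz = qz * q ∧ q * qz' = qz' * q

instance : DecidablePred InC := fun q => inferInstanceAs (Decidable (_ ∧ _))

theorem normal_three : ∀ z : Q35, z ^ 3 = 1 → z ≠ 1 →
    ((1, t5) * z * (1, t5)⁻¹ = z ∨ (1, t5) * z * (1, t5)⁻¹ = z⁻¹) →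
    ((1, finRotate 5) * z * (1, finRotate 5)⁻¹ = z ∨ (1, finRotate 5) * z * (1, finRotate 5)⁻¹ = z⁻¹) →
    z = qz ∨ z = qz⁻¹ := by decide +kernel

theorem conj_c5 : ∀ t : Perm (Fin 5), t ^ 3 = 1 → t ≠ 1 → ∃ h, h * t * h⁻¹ = c5 := by decide +kernel

theorem cent_qz_cube : ∀ q : Q35, q * qz = qz * q → q ^ 3 = 1 →
    q.1 = 1 ∨ q.1 = c3 ∨ q.1 = c3⁻¹ := by decide +kernel

theorem inC_iff : ∀ q : Q35, InC q ↔ InD q ∨ InD (q * qu) := by decide +kernel

theorem inD_cases : ∀ q : Q35, InD q → q = 1 ∨ q = qz ∨ q = qz⁻¹ ∨ q = qz' ∨ q = qz'⁻¹ ∨ q = qd ∨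
    q = qr * qd * qr⁻¹ ∨ q = qr' * qd * qr'⁻¹ ∨ q = (qr * qr') * qd * (qr * qr')⁻¹ := by
  decide +kernel

theorem inD_mul : ∀ q q' : Q35, InD q → InD q' → InD (q * q') := by
  rintro ⟨a, b⟩ ⟨a', b'⟩ ⟨ha, hb⟩ ⟨ha', hb'⟩
  refine ⟨?_, ?_⟩
  · show a * a' = 1 ∨ a * a' = c3 ∨ a * a' = c3⁻¹
    rcases ha with h | h | h <;> rcases ha' with h' | h' | h' <;> rw [show a = _ from h, show a' = _ from h'] <;>
      decide +kernel
  · show b * b' = 1 ∨ b * b' = c5 ∨ b * b' = c5⁻¹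
    rcases hb with h | h | h <;> rcases hb' with h' | h' | h' <;> rw [show b = _ from h, show b' = _ from h'] <;>
      decide +kernel

theorem inD_cube : ∀ q : Q35, InD q → q ^ 3 = 1 := by decide +kernel

theorem inN_inC_unique : ∀ q : Q35, InC q → q * q = 1 → q = 1 ∨ q = qu := by decide +kernel

theorem inN_conj_inD : ∀ q : Q35, InN q → InD (q * qz * q⁻¹) ∧ InD (q * qz' * q⁻¹) := by decide +kernel

theorem inN_of_conj : ∀ q : Q35, InD (q * qz' * q⁻¹) → InN q := by decide +kernel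

theorem inN_comm_qu : ∀ q : Q35, InN q → q * qu = qu * q := by decide +kernel

theorem inN_inv_inC : ∀ q : Q35, InC q → InN q := by decide +kernel

theorem qu_cent : ∀ q : Q35, q * qz = qz * q → q * qz' = qz' * q → q * qu = qu * q := by decide +kernel

theorem gr_options : ∀ q : Q35, q * qz = qz * q → q * qz' * q⁻¹ = qz'⁻¹ → q * qu = qu * q → q * q = 1 →
    ∃ d : Q35, InD d ∧ d.1 = 1 ∧ (d * q * d⁻¹ = qr' ∨ d * q * d⁻¹ = qr' * qu) := by decide +kernel

theorem gr'_options : ∀ q : Q35, q * qz' = qz' * q → q * qz * q⁻¹ = qz⁻¹ → q * qu = qu * q → q * q = 1 →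
    ∃ d : Q35, InD d ∧ d.2 = 1 ∧ (d * q * d⁻¹ = qr ∨ d * q * d⁻¹ = qr * qu) := by decide +kernel

theorem conjC_qr : ∀ q : Q35, InC q → q * qr * q⁻¹ ≠ qr * qu := by decide +kernel

theorem conjC_qr' : ∀ q : Q35, InC q → q * qr' * q⁻¹ ≠ qr' * qu := by decide +kernel

theorem fix_qr_qr' : ∀ q : Q35, InC q → q * qr = qr * q → q * qr' = qr' * q → q = 1 ∨ q = qu := by
  decide +kernel

theorem fst_one_comm : ∀ d : Q35, InD d → d.1 = 1 →
    d * qz = qz * d ∧ d * qz' = qz' * d ∧ d * qu = qu * d ∧ d * qr = qr * d := by decide +kernel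

theorem snd_one_comm : ∀ d : Q35, InD d → d.2 = 1 →
    d * qz = qz * d ∧ d * qz' = qz' * d ∧ d * qu = qu * d ∧ d * qr' = qr' * d := by decide +kernel

theorem inC_count : Fintype.card {q : Q35 // InC q} = 18 := by decide +kernel

theorem inD_count : Fintype.card {q : Q35 // InD q} = 9 := by decide +kernel

theorem inN_count : Fintype.card {q : Q35 // InN q} = 72 := by decide +kernel

theorem cent_qz_count : Fintype.card {q : Q35 // q * qz = qz * q} = 360 := by decide +kernel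

theorem cent_qz_qu : ∀ q : Q35, q * qz = qz * q → q * qu = qu * q → InN q := by decide +kernel

theorem cent_qu_qz : Fintype.card {q : Q35 // q * qz = qz * q ∧ q * qu = qu * q} = 36 := by decide +kernel

theorem cent_qe_qz : Fintype.card {q : Q35 // q * qz = qz * q ∧ q * (qr' * qu) = (qr' * qu) * q} = 24 := by
  decide +kernel

end CfsgLib.SymEightLocal

namespace CfsgLib.SymEightLocal

theorem diag_moved : ∀ q : Q35, InD q → q.1 ≠ 1 → q.2 ≠ 1 →
    qr * q * qr⁻¹ ≠ q ∧ qr * q * qr⁻¹ ≠ q⁻¹ := by decide +kernel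

/-- The standard Sylow subgroup of the model. -/
def D0 : Subgroup Q35 where
  carrier := {q | InD q}
  one_mem' := ⟨Or.inl rfl, Or.inl rfl⟩
  mul_mem' := fun {a b} ha hb => inD_mul a b ha hb
  inv_mem' := fun {a} ha => by
    have h : a⁻¹ = a * a := inv_eq_of_mul_eq_one_right (by rw [← pow_two, ← pow_succ']; exact inD_cube a ha)
    show InD a⁻¹
    rw [h]
    exact inD_mul a a ha ha

theorem mem_D0 {q : Q35} : q ∈ D0 ↔ InD q := Iff.rfl

theorem gens_InN : InN qr ∧ InN qr' ∧ InN qu ∧ InN (qr * qr') := by decide +kernel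

theorem qr_facts : qr * qz * qr⁻¹ = qz⁻¹ ∧ qr * qz' * qr⁻¹ = qz' ∧ qr' * qz' * qr'⁻¹ = qz'⁻¹ ∧
    qr' * qz * qr'⁻¹ = qz ∧ qz * qz' = qd ∧ qz' * qz = qd ∧ qr * qu = qu * qr ∧ qr' * qu = qu * qr' ∧
    qu * qz = qz * qu ∧ qu * qz' = qz' * qu ∧ qr * qr = 1 ∧ qr' * qr' = 1 ∧ qu * qu = 1 := by decide +kernel

theorem qd_facts : InD qz ∧ InD qz' ∧ InD qd ∧ InC qu ∧ ¬ InD qu ∧ qu ≠ 1 := by decide +kernel

end CfsgLib.SymEightLocal

namespace CfsgLib.SymEightLocal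

theorem qz'_inv_conj : qr' * qz' * qr'⁻¹ = qz'⁻¹ ∧ qr * qz * qr⁻¹ = qz⁻¹ := by decide +kernel

theorem inN_of_conj' : ∀ q : Q35, InD q → q ≠ 1 → q * qu = qu * q := by decide +kernel

theorem d0_ne : qd ≠ 1 ∧ qz ≠ 1 ∧ qz' ≠ 1 ∧ qd ^ 3 = 1 ∧ qz ^ 3 = 1 ∧ qz' ^ 3 = 1 ∧ ¬ InC qr := by decide +kernel

end CfsgLib.SymEightLocal

namespace CfsgLib.SymEightLocal

theorem gens_inv_InN : InN 1 ∧ InN qr⁻¹ ∧ InN qr'⁻¹ ∧ InN (qr * qr')⁻¹ ∧ InN (1 : Q35)⁻¹ := by decide +kernel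

theorem qd_commutes : qd * qu = qu * qd ∧ InN qd := by decide +kernel

end CfsgLib.SymEightLocal

namespace CfsgLib.SymEightLocal

/-- The element exchanging `qu` and `qr'`. -/
def qs : Q35 := (1, s5)

theorem qs_facts : qs * qu * qs⁻¹ = qr' ∧ qs * qr' * qs⁻¹ = qu ∧ qs * (qr * qu) * qs⁻¹ = qr * qu * qr' * qu ∧
    (qr * qu) * qr' = qr' * (qr * qu) ∧ qr * qu * qu = qr ∧ qr' * qu * qu = qr' ∧ (qr * qu) * (qr * qu) = 1 ∧
    (qr * qu) * qz' = qz' * (qr * qu) ∧ qr' * qz = qz * qr' ∧ qr * qz' = qz' * qr ∧ qr ≠ qu ∧ qr' ≠ qu ∧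
    qr * qu ≠ qu ∧ qr * qu ≠ qr' ∧ qr * qu * qu ≠ qr' ∧ qr ≠ 1 ∧ qr' ≠ 1 ∧ qr * qu ≠ 1 := by decide +kernel

end CfsgLib.SymEightLocal

namespace CfsgLib.SymEightLocal

/-- A five-cycle commuting with the first transposition. -/
def qt : Q35 := (1, finRotate 5)

theorem qt_facts : qt * qr = qr * qt ∧ qt ^ 5 = 1 ∧ qt ≠ 1 ∧ qr * qr' = qr' * qr ∧
    (qr * qr') * qd * (qr * qr')⁻¹ = qd⁻¹ ∧ (qr * qr') * (qr * qr') = 1 ∧ qr * qu ≠ 1 ∧ InN (qr * qr') := by
  decide +kernel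

end CfsgLib.SymEightLocal

namespace CfsgLib.SymEightLocal

theorem model_sign :
    (∀ q : Q35, InD q → Equiv.Perm.sign q.1 * Equiv.Perm.sign q.2 = 1) ∧
    Equiv.Perm.sign (qr * qr').1 * Equiv.Perm.sign (qr * qr').2 = 1 ∧ ¬ InC (qr * qr') := by decide +kernel

end CfsgLib.SymEightLocal

namespace CfsgLib.SymEightLocal

/-- The double transposition inverting the three-cycle. -/
def qe : Q35 := qr' * qu

/-- The product of `qr` and `qe`. -/
def qc : Q35 := qr * qe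

theorem inN_invol : ∀ q : Q35, InN q → q * q = 1 → q = 1 ∨ q = qu ∨
    (∃ h : Q35, h * qu * h⁻¹ = q ∨ h * (qr * qu) * h⁻¹ = q) ∨
    ∃ h : Q35, h * qu * h⁻¹ = q * qu ∨ h * (qr * qu) * h⁻¹ = q * qu := by decide +kernel

theorem inN_conj_qz : ∀ q : Q35, InN q →
    (q * qz * q⁻¹ = qz ∧ qz * qz' = qd) ∨ (q * qz * q⁻¹ = qz⁻¹ ∧ qz * qz'⁻¹ = qr' * qd * qr'⁻¹) := by decide +kernel

theorem qc_facts : qr * qe = qe * qr ∧ qr * qc = qe ∧ qc * qu = qu * qc ∧ qe * qe = 1 ∧ qc * qc = 1 ∧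
    qc ≠ 1 ∧ qe ≠ 1 ∧ qe * qu = qr' := by decide +kernel

end CfsgLib.SymEightLocal
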