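import Cfsg.Agent.Lib.SymEightLocal.Six

/-!
In the twisted case the centralizer of `u` is not `2 × S₆`.
-/

set_option autoImplicit false
set_option linter.style.haveILetI false

namespace CfsgLib.SymEightLocal

universe u

variable {G : Type u} [Group G] [Finite G]

namespace Frame

variable (F : Frame G)

omit [Finite G] in
theorem u_isConj_r' : IsConj (F.φ qu) (F.φ qr') :=
  isConj_iff.mpr ⟨F.φ qs, by rw [← map_inv, ← map_mul, ← map_mul, qs_facts.1]⟩

omit [Finite G] in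
theorem g_r'_of_twist (hII : F.g * F.φ qr * F.g⁻¹ = F.φ (qr' * qu)) :
    F.g * F.φ qr' * F.g⁻¹ = F.φ (qr * qu) := by
  have h1 : F.g * F.φ (qr' * qu) * F.g⁻¹ = F.φ qr := by rw [← hII, F.g_conj]
  rw [map_mul, show F.g * (F.φ qr' * F.φ qu) * F.g⁻¹ = F.g * F.φ qr' * F.g⁻¹ * (F.g * F.φ qu * F.g⁻¹) by group,
    F.g_u] at h1
  rw [map_mul, ← h1, mul_assoc (F.g * F.φ qr' * F.g⁻¹), ← map_mul, qr_facts.2.2.2.2.2.2.2.2.2.2.2.2, map_one, mul_one]

theorem u_isConj_ru (hII : F.g * F.φ qr * F.g⁻¹ = F.φ (qr' * qu)) : IsConj (F.φ qu) (F.φ (qr * qu)) :=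
  F.u_isConj_r'.trans (isConj_iff.mpr ⟨F.g, F.g_r'_of_twist hII⟩)

theorem not_isConj_r (hII : F.g * F.φ qr * F.g⁻¹ = F.φ (qr' * qu)) : ¬ IsConj (F.φ qu) (F.φ qr) :=
  fun h => F.not_isConj_e (h.trans (isConj_iff.mpr ⟨F.g, hII⟩))

theorem conj_eq_of_lift {c a x : G} (hx : IsConj (F.φ qu) (c * a * c⁻¹)) (hno : ¬ IsConj (F.φ qu) (x * F.φ qu))
    (h : c * a * c⁻¹ = x ∨ c * a * c⁻¹ = x * F.φ qu) : c * a * c⁻¹ = x :=
  h.resolve_right fun e => hno (e ▸ hx)

set_option maxHeartbeats 1600000 in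
theorem false_of_proj (hII : F.g * F.φ qr * F.g⁻¹ = F.φ (qr' * qu)) (P : Proj F) : False := by
  classical
  obtain ⟨hs1, hs2, hs3, hab0, hau0, hbu0, haa0, haz, hbz, -, hru, hr'u, hau1, hab1, hab2, hr1, hb1, ha1⟩ :=
    qs_facts
  set H := Subgroup.centralizer ({F.φ qu} : Set G) with hH
  set U := F.φ qu with hU
  set a := F.φ (qr * qu) with hadef
  set b := F.φ qr' with hbdef
  set s := F.φ qs with hsdef
  have hne : ∀ p q : Q35, p ≠ q → F.φ p ≠ F.φ q := fun p q h e => h (F.inj e)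
  have haX : IsConj U a := F.u_isConj_ru hII
  have hbX : IsConj U b := F.u_isConj_r'
  have hauX : ¬ IsConj U (a * U) := by
    rw [hadef, hU, ← map_mul, hau0]; exact F.not_isConj_r hII
  have hbuX : ¬ IsConj U (b * U) := by
    rw [hbdef, hU, ← map_mul]; exact F.not_isConj_e
  have haU : a * U = U * a := by
    rw [hadef, hU, ← map_mul, ← map_mul, mul_assoc qr qu qu, ← mul_assoc qu qr qu, ← qr_facts.2.2.2.2.2.2.1,
      mul_assoc qr qu qu]
  have hbU : b * U = U * b := by rw [hbdef, hU, ← map_mul, qr_facts.2.2.2.2.2.2.2.1, map_mul]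
  have hba : a * b = b * a := by rw [hadef, hbdef, ← map_mul, hab0, map_mul]
  have haH : a ∈ H := Subgroup.mem_centralizer_singleton_iff.mpr haU
  have hbH : b ∈ H := Subgroup.mem_centralizer_singleton_iff.mpr hbU
  have hUU : U * U = 1 := F.u_sq
  have haa : a * a = 1 := by rw [hadef, ← map_mul, haa0, map_one]
  have hbb : b * b = 1 := by rw [hbdef, ← map_mul, qr_facts.2.2.2.2.2.2.2.2.2.2.2.1, map_one]
  have hzH : ∀ q, InD q → F.φ q ∈ H := fun q hq => F.D_le_cent_u (F.phi_mem_D.mpr hq)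
  have hsa : Equiv.Perm.sign (P.p ⟨a, haH⟩) = -1 := by
    refine P.sign_of_comm (d := ⟨_, hzH _ qd_facts.2.1⟩) haa (fun e => hne _ _ ha1 (e.trans (map_one F.φ).symm))
      (hne _ _ hau1) (by rw [← map_pow, d0_ne.2.2.2.2.2.1, map_one])
      (fun e => d0_ne.2.2.1 (F.inj (e.trans (map_one F.φ).symm))) ?_
    show F.φ _ * F.φ qz' = F.φ qz' * F.φ _
    rw [← map_mul, haz, map_mul]
  have hsb : Equiv.Perm.sign (P.p ⟨b, hbH⟩) = -1 := by
    refine P.sign_of_comm (d := ⟨_, hzH _ qd_facts.1⟩) hbb (fun e => hne _ _ hb1 (e.trans (map_one F.φ).symm))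
      (hne _ _ hr'u) (by rw [← map_pow, d0_ne.2.2.2.2.1, map_one])
      (fun e => d0_ne.2.1 (F.inj (e.trans (map_one F.φ).symm))) ?_
    show F.φ _ * F.φ qz = F.φ qz * F.φ _
    rw [← map_mul, hbz, map_mul]
  have hclass : IsConj (P.p ⟨a, haH⟩) (P.p ⟨b, hbH⟩) := P.class_facts (a := ⟨a, haH⟩) (x := ⟨b, hbH⟩) haX hauX hsa hbX hsb
  -- normalised coordinates
  obtain ⟨q, A, B, K, τ, σ, hqa, hqb, hT⟩ : ∃ (q : ↥H →* Equiv.Perm (Fin 6)) (A B K τ σ : Equiv.Perm (Fin 6)),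
      (∃ t : Equiv.Perm (Fin 6), ∀ x, q x = t * P.p x * t⁻¹) ∧ q ⟨b, hbH⟩ = B ∧
        (q ⟨a, haH⟩ = A ∧ SixModel.Triple A B K τ σ) := by
    have hne' : P.p ⟨b, hbH⟩ ≠ P.p ⟨a, haH⟩ := by
      intro e
      rcases P.lifts e with (e' : a = b) | (e' : a = b * U)
      · exact hne _ _ hab1 e'
      · refine hne _ _ hab2 ?_
        rw [map_mul]
        show a * U = b
        rw [e', mul_assoc, hUU, mul_one]
    have hcomm : P.p ⟨b, hbH⟩ * P.p ⟨a, haH⟩ = P.p ⟨a, haH⟩ * P.p ⟨b, hbH⟩ := by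
      rw [← map_mul, ← map_mul]; exact congrArg _ (Subtype.ext hba.symm)
    obtain ⟨t, ht⟩ := SixModel.odd_invol _ (P.sq (x := ⟨a, haH⟩) haa) hsa
    have conjhom : ∀ t : Equiv.Perm (Fin 6), ∀ x, ((MulAut.conj t).toMonoidHom.comp P.p) x = t * P.p x * t⁻¹ :=
      fun t x => rfl
    have hb2 : (t * P.p ⟨b, hbH⟩ * t⁻¹) * (t * P.p ⟨b, hbH⟩ * t⁻¹) = 1 := by
      rw [show t * P.p ⟨b, hbH⟩ * t⁻¹ * (t * P.p ⟨b, hbH⟩ * t⁻¹) = t * (P.p ⟨b, hbH⟩ * P.p ⟨b, hbH⟩) * t⁻¹ by group,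
        P.sq (x := ⟨b, hbH⟩) hbb]
      group
    have hbs : Equiv.Perm.sign (t * P.p ⟨b, hbH⟩ * t⁻¹) = -1 := by simp [hsb, mul_comm]
    have hbc : IsConj (t * P.p ⟨a, haH⟩ * t⁻¹) (t * P.p ⟨b, hbH⟩ * t⁻¹) :=
      (isConj_iff.mpr ⟨t, rfl⟩ : IsConj (P.p ⟨a, haH⟩) _).symm.trans (hclass.trans (isConj_iff.mpr ⟨t, rfl⟩))
    have hbne : t * P.p ⟨b, hbH⟩ * t⁻¹ ≠ t * P.p ⟨a, haH⟩ * t⁻¹ := fun e =>
      hne' (mul_left_cancel (mul_right_cancel e))
    have hbcom : t * P.p ⟨b, hbH⟩ * t⁻¹ * (t * P.p ⟨a, haH⟩ * t⁻¹) =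
        t * P.p ⟨a, haH⟩ * t⁻¹ * (t * P.p ⟨b, hbH⟩ * t⁻¹) := by
      rw [show t * P.p ⟨b, hbH⟩ * t⁻¹ * (t * P.p ⟨a, haH⟩ * t⁻¹) = t * (P.p ⟨b, hbH⟩ * P.p ⟨a, haH⟩) * t⁻¹ by group,
        hcomm]
      group
    have finish : ∀ {r r' k τ σ}, SixModel.Triple r r' k τ σ → ∀ h : Equiv.Perm (Fin 6), h * r = r * h →
        t * P.p ⟨a, haH⟩ * t⁻¹ = r → h * (t * P.p ⟨b, hbH⟩ * t⁻¹) * h⁻¹ = r' →
        ∃ (q : ↥H →* Equiv.Perm (Fin 6)) (A B K τ σ : Equiv.Perm (Fin 6)),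
          (∃ t : Equiv.Perm (Fin 6), ∀ x, q x = t * P.p x * t⁻¹) ∧ q ⟨b, hbH⟩ = B ∧
            (q ⟨a, haH⟩ = A ∧ SixModel.Triple A B K τ σ) := by
      intro r r' k τ σ hT h hh e e'
      refine ⟨(MulAut.conj (h * t)).toMonoidHom.comp P.p, r, r', k, τ, σ, ⟨h * t, conjhom _⟩, ?_, ?_, hT⟩
      · rw [conjhom, ← e']; group
      · rw [conjhom, show h * t * P.p ⟨a, haH⟩ * (h * t)⁻¹ = h * (t * P.p ⟨a, haH⟩ * t⁻¹) * h⁻¹ by group, e, hh,
          mul_inv_cancel_right]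
    rcases ht with e | e <;> rw [e] at hbc hbcom hbne
    · rcases SixModel.pair_a1 _ hb2 hbs hbcom hbne with ⟨h, e'⟩ | ⟨h, hh, e'⟩
      · exact absurd (isConj_iff.mp (hbc.trans (isConj_iff.mpr ⟨h, e'⟩))) (not_exists.mpr SixModel.not_conj13)
      · exact finish SixModel.triple1 h hh e e'
    · rcases SixModel.pair_a3 _ hb2 hbs hbcom hbne with ⟨h, e'⟩ | ⟨h, hh, e'⟩
      · exact absurd (isConj_iff.mp (hbc.trans (isConj_iff.mpr ⟨h, e'⟩)).symm) (not_exists.mpr SixModel.not_conj13)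
      · exact finish SixModel.triple3 h hh e e'
  obtain ⟨t0, hqt⟩ := hqa
  obtain ⟨hqA, hT⟩ := hT
  obtain ⟨hτa, hτb, hσa, hσb, hA2, hB2, hK2, hAB, hAK, hBK, sAB, sAK, sBK, nAB, nAK, nBK, hABK, hcent⟩ := hT
  -- the projection
  have qsurj : Function.Surjective q := fun y => by
    obtain ⟨x, hx⟩ := P.surj (t0⁻¹ * y * t0)
    exact ⟨x, by rw [hqt, hx]; group⟩
  have qlift : ∀ x y : ↥H, q x = q y → (y : G) = x ∨ (y : G) = x * U := by
    intro x y e
    rw [hqt, hqt] at e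
    exact P.lifts (mul_left_cancel (mul_right_cancel e))
  have qsign : ∀ x, Equiv.Perm.sign (q x) = Equiv.Perm.sign (P.p x) := fun x => by
    rw [hqt, map_mul, map_mul, map_inv, mul_comm (Equiv.Perm.sign t0), mul_assoc, mul_inv_cancel, mul_one]
  have sA : Equiv.Perm.sign A = -1 := by rw [← hqA, qsign, hsa]
  have hconjU : ∀ x : ↥H, (x : G) * U * (x : G)⁻¹ = U := fun x => by
    rw [Subgroup.mem_centralizer_singleton_iff.mp x.2, mul_inv_cancel_right]
  have hlift : ∀ (x c : ↥H) (C : Equiv.Perm (Fin 6)), IsConj U (c : G) → ∀ d : G, ¬ IsConj U (d * U) →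
      q x * q c * (q x)⁻¹ = C → ∀ hd : d ∈ H, q ⟨d, hd⟩ = C → (x : G) * c * (x : G)⁻¹ = d := by
    intro x c C hc d hdX e hd e'
    refine F.conj_eq_of_lift (hc.trans (isConj_iff.mpr ⟨x, rfl⟩)) hdX ?_
    exact qlift ⟨d, hd⟩ (x * c * x⁻¹) (by rw [e', ← e]; simp)
  -- the third involution
  obtain ⟨th, hth⟩ := qsurj τ
  obtain ⟨sg, hsg⟩ := qsurj σ
  set k := (th : G) * a * (th : G)⁻¹ with hk
  have hkH : k ∈ H := mul_mem (mul_mem th.2 haH) (inv_mem th.2)
  have hqk : q ⟨k, hkH⟩ = K := by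
    rw [show (⟨k, hkH⟩ : ↥H) = th * ⟨a, haH⟩ * th⁻¹ from rfl, map_mul, map_mul, map_inv, hth, hqA, hτa]
  have hkX : IsConj U k := haX.trans (isConj_iff.mpr ⟨th, rfl⟩)
  have hkuX : ¬ IsConj U (k * U) := by
    intro h
    refine hauX (h.trans (isConj_iff.mpr ⟨(th : G), ?_⟩ : IsConj (a * U) (k * U)).symm)
    rw [show (th : G) * (a * U) * (th : G)⁻¹ = th * a * (th : G)⁻¹ * ((th : G) * U * (th : G)⁻¹) by group, hconjU]
  have hthb : (th : G) * b * (th : G)⁻¹ = b :=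
    hlift th ⟨b, hbH⟩ B hbX b hbuX (by rw [hth, hqb, hτb]) hbH hqb
  have hsga : (sg : G) * a * (sg : G)⁻¹ = a :=
    hlift sg ⟨a, haH⟩ A haX a hauX (by rw [hsg, hqA, hσa]) haH hqA
  have hsgb : (sg : G) * b * (sg : G)⁻¹ = k :=
    hlift sg ⟨b, hbH⟩ K hbX k hkuX (by rw [hsg, hqb, hσb]) hkH hqk
  have hkU : k * U = U * k := Subgroup.mem_centralizer_singleton_iff.mp hkH
  have hka : k * a = a * k := by
    have := hlift ⟨k, hkH⟩ ⟨a, haH⟩ A haX a hauX (by rw [hqk, hqA, ← hAK, mul_inv_cancel_right]) haH hqA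
    exact mul_inv_eq_iff_eq_mul.mp this
  have hkb : k * b = b * k := by
    have := hlift ⟨k, hkH⟩ ⟨b, hbH⟩ B hbX b hbuX (by rw [hqk, hqb, ← hBK, mul_inv_cancel_right]) hbH hqb
    exact mul_inv_eq_iff_eq_mul.mp this
  -- conjugation by `s`
  have hsU : s * U * s⁻¹ = b := by rw [hsdef, hU, ← map_inv, ← map_mul, ← map_mul, hs1]
  have hsb' : s * b * s⁻¹ = U := by rw [hsdef, hbdef, ← map_inv, ← map_mul, ← map_mul, hs2]
  have hsa' : s * a * s⁻¹ = a * b * U := by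
    rw [hsdef, hadef, hbdef, hU, ← map_inv, ← map_mul, ← map_mul, hs3, map_mul, map_mul]
  have habuX : IsConj U (a * b * U) := by
    rw [← hsa']; exact haX.trans (isConj_iff.mpr ⟨s, rfl⟩)
  have hakuX : IsConj U (a * k * U) := by
    refine habuX.trans (isConj_iff.mpr ⟨sg, ?_⟩)
    rw [show (sg : G) * (a * b * U) * (sg : G)⁻¹ = sg * a * (sg : G)⁻¹ * ((sg : G) * b * (sg : G)⁻¹) *
      ((sg : G) * U * (sg : G)⁻¹) by group, hsga, hsgb, hconjU]
  have hkbuX : IsConj U (k * b * U) := by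
    refine habuX.trans (isConj_iff.mpr ⟨th, ?_⟩)
    rw [show (th : G) * (a * b * U) * (th : G)⁻¹ = th * a * (th : G)⁻¹ * ((th : G) * b * (th : G)⁻¹) *
      ((th : G) * U * (th : G)⁻¹) by group, hthb, hconjU]
  obtain ⟨f, hf⟩ := P.exists_hom (a := ⟨a, haH⟩) haX hauX hsa
  have hfX : ∀ x, IsConj U x → f x = -1 := fun x hx => by
    obtain ⟨c, rfl⟩ := isConj_iff.mp hx
    rw [map_mul, map_mul, map_inv, hU, hf, mul_comm (f c), mul_assoc, mul_inv_cancel, mul_one]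
  have heven : ∀ x y, IsConj U x → IsConj U y → ¬ IsConj U (x * y) := fun x y hx hy h => by
    have := hfX _ h
    rw [map_mul, hfX x hx, hfX y hy] at this
    exact absurd this (by decide)
  have hABKX : ∀ x : ↥H, q x = A * B * K → ¬ IsConj U (x : G) := by
    intro x hx h
    have hs : Equiv.Perm.sign (P.p x) = -1 := by
      rw [← qsign, hx, map_mul, sAB, one_mul, ← hqk, show (⟨k, hkH⟩ : ↥H) = th * ⟨a, haH⟩ * th⁻¹ from rfl, qsign]
      simp [hsa, mul_comm]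
    obtain ⟨c, hc⟩ := isConj_iff.mp (P.class_facts (a := ⟨a, haH⟩) haX hauX hsa h hs)
    refine hABK (t0 * c * t0⁻¹) ?_
    rw [← hx, ← hqA, hqt, hqt, ← hc]
    group
  -- the image of `k`
  set k' := s * k * s⁻¹ with hk'
  have hk'X : IsConj U k' := hkX.trans (isConj_iff.mpr ⟨s, rfl⟩)
  have hcomm' : ∀ x, k * x = x * k → k' * (s * x * s⁻¹) = s * x * s⁻¹ * k' := fun x hx => by
    rw [hk', show s * k * s⁻¹ * (s * x * s⁻¹) = s * (k * x) * s⁻¹ by group, hx]; group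
  have hk'b : k' * b = b * k' := by have := hcomm' U hkU; rwa [hsU] at this
  have hk'U : k' * U = U * k' := by have := hcomm' b hkb; rwa [hsb'] at this
  have hk'a : k' * a = a * k' := by
    have h1 := hcomm' a hka
    rw [hsa'] at h1
    have h2 : Commute k' (a * b * U * (b * U)) :=
      (show Commute k' (a * b * U) from h1).mul_right ((show Commute k' b from hk'b).mul_right hk'U)
    have e : a * b * U * (b * U) = a := by
      rw [mul_assoc a b U, mul_assoc, show b * U * (b * U) = b * (U * b) * U by group, ← hbU,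
        show b * (b * U) * U = (b * b) * (U * U) by group, hbb, hUU, mul_one, mul_one]
    rw [e] at h2
    exact h2
  have hk'H : k' ∈ H := Subgroup.mem_centralizer_singleton_iff.mpr hk'U
  have e8 := hcent (q ⟨k', hk'H⟩) (by rw [← hqA, ← map_mul, ← map_mul]; exact congrArg q (Subtype.ext hk'a))
    (by rw [← hqb, ← map_mul, ← map_mul]; exact congrArg q (Subtype.ext hk'b))
  have hsback : ∀ y, k' = s * y * s⁻¹ → k = y := fun y e =>
    mul_left_cancel (mul_right_cancel (b := s⁻¹) e)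
  have hk'k : k' = k := by
    have opts : ∀ (d : G) (hd : d ∈ H), q ⟨k', hk'H⟩ = q ⟨d, hd⟩ → k' = d ∨ k' = d * U := fun d hd e =>
      qlift ⟨d, hd⟩ ⟨k', hk'H⟩ e.symm
    have hUH : U ∈ H := Subgroup.mem_centralizer_singleton_iff.mpr rfl
    rcases e8 with e | e | e | e | e | e | e | e
    · exfalso
      rcases opts 1 (one_mem _) (by rw [e]; exact (map_one q).symm) with e' | e'
      · rw [e'] at hk'X
        obtain ⟨c, hc⟩ := isConj_iff.mp hk'X
        exact F.u_ne_one (conj_eq_one_iff.mp hc)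
      · have hkb' := hsback b (by rw [e', one_mul, hsb'])
        apply nBK
        rw [← hqk, ← hqb, ← map_mul, show (⟨b, hbH⟩ : ↥H) * ⟨k, hkH⟩ = 1 from Subtype.ext (by
          show b * k = 1
          rw [hkb', hbb]), map_one]
    · exfalso
      rcases opts a haH (by rw [e, hqA]) with e' | e'
      · have hk2 := hsback (a * b * U) (by
          rw [e', show s * (a * b * U) * s⁻¹ = s * a * s⁻¹ * (s * b * s⁻¹) * (s * U * s⁻¹) by group, hsa', hsb', hsU,
            mul_assoc (a * b) U U, hUU, mul_one, mul_assoc, hbb, mul_one])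
        have hs' : Equiv.Perm.sign (P.p ⟨k, hkH⟩) = 1 := by
          rw [← qsign]
          have : q ⟨k, hkH⟩ = A * B := by
            rw [show (⟨k, hkH⟩ : ↥H) = ⟨a, haH⟩ * ⟨b, hbH⟩ * ⟨U, hUH⟩ from Subtype.ext hk2, map_mul, map_mul, hqA, hqb,
              hqt ⟨U, hUH⟩, P.p_u]
            group
          rw [this, sAB]
        rw [← qsign, hqk] at hs'
        have : Equiv.Perm.sign K = -1 := by
          rw [← hτa, map_mul, map_mul, map_inv, sA, mul_comm (Equiv.Perm.sign τ), mul_assoc, mul_inv_cancel, mul_one]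
        rw [this] at hs'
        exact absurd hs' (by decide)
      · exact hauX (e' ▸ hk'X)
    · exfalso
      rcases opts b hbH (by rw [e, hqb]) with e' | e'
      · have hk2 := hsback U (by rw [e', hsU])
        have hK : K = 1 := by
          rw [← hqk, show (⟨k, hkH⟩ : ↥H) = ⟨U, hUH⟩ from Subtype.ext hk2, hqt, P.p_u]
          group
        have h1 : Equiv.Perm.sign K = -1 := by
          rw [← hτa, map_mul, map_mul, map_inv, sA, mul_comm (Equiv.Perm.sign τ), mul_assoc, mul_inv_cancel, mul_one]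
        rw [hK, map_one] at h1
        exact absurd h1 (by decide)
      · exact hbuX (e' ▸ hk'X)
    · rcases opts k hkH (by rw [e, hqk]) with e' | e'
      · exact e'
      · exact absurd (e' ▸ hk'X) hkuX
    · exfalso
      rcases opts (a * b) (mul_mem haH hbH) (by rw [e, ← hqA, ← hqb, ← map_mul]; rfl) with e' | e'
      · exact heven a b haX hbX (e' ▸ hk'X)
      · have hk2 := hsback a (e'.trans hsa'.symm)
        apply nAK
        rw [← hqk, ← hqA, ← map_mul, show (⟨a, haH⟩ : ↥H) * ⟨k, hkH⟩ = 1 from Subtype.ext (by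
          show a * k = 1
          rw [hk2, haa]), map_one]
    · exfalso
      rcases opts (a * k) (mul_mem haH hkH) (by rw [e, ← hqA, ← hqk, ← map_mul]; rfl) with e' | e'
      · exact heven a k haX hkX (e' ▸ hk'X)
      · refine hABKX (⟨a, haH⟩ * ⟨b, hbH⟩ * ⟨k, hkH⟩) (by rw [map_mul, map_mul, hqA, hqb, hqk]) ?_
        show IsConj U (a * b * k)
        have : s * (k * b * U) * s⁻¹ = a * b * k := by
          rw [show s * (k * b * U) * s⁻¹ = s * k * s⁻¹ * (s * b * s⁻¹) * (s * U * s⁻¹) by group, hsb', hsU, ← hk', e',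
            mul_assoc (a * k) U U, hUU, mul_one, mul_assoc, hkb, ← mul_assoc]
        rw [← this]
        exact hkbuX.trans (isConj_iff.mpr ⟨s, rfl⟩)
    · exfalso
      rcases opts (b * k) (mul_mem hbH hkH) (by rw [e, ← hqb, ← hqk, ← map_mul]; rfl) with e' | e'
      · exact heven b k hbX hkX (e' ▸ hk'X)
      · refine hABKX (⟨a, haH⟩ * ⟨b, hbH⟩ * ⟨k, hkH⟩) (by rw [map_mul, map_mul, hqA, hqb, hqk]) ?_
        show IsConj U (a * b * k)
        have : s * (a * k * U) * s⁻¹ = a * b * k := by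
          rw [show s * (a * k * U) * s⁻¹ = s * a * s⁻¹ * (s * k * s⁻¹) * (s * U * s⁻¹) by group, hsa', hsU, ← hk', e']
          calc a * b * U * (b * k * U) * b = a * b * (U * b) * (k * (U * b)) := by group
            _ = a * b * (b * U) * (k * (b * U)) := by rw [← hbU]
            _ = a * (b * b) * U * ((k * b) * U) := by group
            _ = a * U * ((b * k) * U) := by rw [hbb, mul_one, hkb]
            _ = a * (U * (b * k)) * U := by group
            _ = a * (b * k * U) * U := by rw [← (show Commute (b * k) U from (show Commute b U from hbU).mul_left hkU).eq]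
            _ = a * (b * k) * (U * U) := by group
            _ = a * b * k := by rw [hUU, mul_one, mul_assoc]
        rw [← this]
        exact hakuX.trans (isConj_iff.mpr ⟨s, rfl⟩)
    · exfalso
      exact hABKX ⟨k', hk'H⟩ e hk'X
  -- `x = s th s` centralizes `u` but maps `a` to an even element
  have hxU : s * (th : G) * s * U = U * (s * (th : G) * s) := by
    rw [← mul_inv_eq_iff_eq_mul, show s * (th : G) * s * U * (s * (th : G) * s)⁻¹ =
      s * ((th : G) * (s * U * s⁻¹) * (th : G)⁻¹) * s⁻¹ by group, hsU, hthb, hsb']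
  let x : ↥H := ⟨s * (th : G) * s, Subgroup.mem_centralizer_singleton_iff.mpr hxU⟩
  have hxa : (x : G) * a * (x : G)⁻¹ = k * U * b := by
    show s * (th : G) * s * a * (s * (th : G) * s)⁻¹ = _
    rw [show s * (th : G) * s * a * (s * (th : G) * s)⁻¹ =
      s * ((th : G) * (s * a * s⁻¹) * (th : G)⁻¹) * s⁻¹ by group, hsa',
      show (th : G) * (a * b * U) * (th : G)⁻¹ = th * a * (th : G)⁻¹ * ((th : G) * b * (th : G)⁻¹) *
      ((th : G) * U * (th : G)⁻¹) by group, hthb, hconjU, ← hk,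
      show s * (k * b * U) * s⁻¹ = s * k * s⁻¹ * (s * b * s⁻¹) * (s * U * s⁻¹) by group, hsb', hsU, ← hk', hk'k]
  have h1 : Equiv.Perm.sign (q (x * ⟨a, haH⟩ * x⁻¹)) = -1 := by simp [hqA, sA, mul_comm]
  have h2 : q (x * ⟨a, haH⟩ * x⁻¹) = K * B := by
    have hUH : U ∈ H := Subgroup.mem_centralizer_singleton_iff.mpr rfl
    rw [show x * ⟨a, haH⟩ * x⁻¹ = ⟨k, hkH⟩ * ⟨U, hUH⟩ * ⟨b, hbH⟩ from Subtype.ext hxa, map_mul, map_mul, hqk, hqb,
      hqt ⟨U, hUH⟩, P.p_u]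
    group
  rw [h2, ← hBK, sBK] at h1
  exact absurd h1 (by decide)

end Frame

end CfsgLib.SymEightLocal
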