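import Cfsg.Agent.Lib.Char.TI
import Cfsg.Agent.Lib.InvolChar.Basic

/-!
An exceptional character for a TI section of eight elements in a normalizer of order twenty-four.
-/

set_option autoImplicit false
set_option linter.style.haveILetI false

namespace CfsgLib.SymEightLocal

open CfsgLib.Char CfsgLib.InvolChar
open scoped ComplexConjugate

universe u

variable {R : Type u} [Group R] [Fintype R]

/-- A generalized character of norm three containing the principal character once. -/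
theorem gen_norm_three {θ : R → ℂ} (h : Cfsg.IsGeneralizedCharacter R θ)
    (h3 : Cfsg.classInner θ θ = 3) (h1 : Cfsg.classInner θ (fun _ => 1) = 1) (h0 : θ 1 = 0) :
    ∃ α β : Cfsg.IrrCharacter R, α ≠ β ∧ α ≠ irrOne ∧ β ≠ irrOne ∧
      θ = (irrOne : Cfsg.IrrCharacter R).1 + (α : R → ℂ) - β := by
  classical
  obtain ⟨m, hm, hmi, hsq⟩ := gen_decomp h
  rw [h3] at hsq
  have hsq' : ∑ χ, m χ ^ 2 = 3 := by exact_mod_cast hsq.symm
  have hm1 : m irrOne = 1 := by
    have e := hmi irrOne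
    rw [show ((irrOne : Cfsg.IrrCharacter R) : R → ℂ) = fun _ => 1 from rfl, h1] at e
    exact_mod_cast e.symm
  have hdeg : ∑ χ, m χ * (deg χ : ℤ) = 0 := by
    have e := congrFun hm 1
    simp only [Finset.sum_apply, Pi.smul_apply, smul_eq_mul, deg_spec, h0] at e
    exact_mod_cast e.symm
  set S := Finset.univ.erase (irrOne : Cfsg.IrrCharacter R) with hS
  have hs1 := Finset.add_sum_erase Finset.univ (fun χ => m χ ^ 2) (Finset.mem_univ (irrOne : Cfsg.IrrCharacter R))
  have hd1 := Finset.add_sum_erase Finset.univ (fun χ => m χ * (deg χ : ℤ)) (Finset.mem_univ (irrOne : Cfsg.IrrCharacter R))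
  rw [← hS] at hs1 hd1
  simp only [hm1, deg_irrOne, one_pow, Nat.cast_one, mul_one] at hs1 hd1
  have h2 : ∑ χ ∈ S, m χ ^ 2 = 2 := by omega
  have hneg : ∑ χ ∈ S, m χ * (deg χ : ℤ) = -1 := by omega
  obtain ⟨β, hβS, hβ⟩ : ∃ β ∈ S, m β < 0 := by
    by_contra hall
    push Not at hall
    have := Finset.sum_nonneg (s := S) (f := fun χ => m χ * (deg χ : ℤ)) fun χ hχ =>
      mul_nonneg (hall χ hχ) (Nat.cast_nonneg _)
    omega
  have hs2 := Finset.add_sum_erase S (fun χ => m χ ^ 2) hβS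
  have hd2 := Finset.add_sum_erase S (fun χ => m χ * (deg χ : ℤ)) hβS
  simp only [h2, hneg] at hs2 hd2
  have hnn : 0 ≤ ∑ χ ∈ S.erase β, m χ ^ 2 := Finset.sum_nonneg fun _ _ => sq_nonneg _
  have hmb : m β = -1 := by nlinarith
  rw [hmb] at hs2 hd2
  have h21 : ∑ χ ∈ S.erase β, m χ ^ 2 = 1 := by linarith
  obtain ⟨α, hαS, hα⟩ : ∃ α ∈ S.erase β, m α ≠ 0 := by
    by_contra hall
    push Not at hall
    rw [Finset.sum_eq_zero (fun χ hχ => by simp [hall χ hχ])] at h21
    exact absurd h21 (by norm_num)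
  have hs3 := Finset.add_sum_erase (S.erase β) (fun χ => m χ ^ 2) hαS
  simp only [h21] at hs3
  have hnn3 : 0 ≤ ∑ χ ∈ (S.erase β).erase α, m χ ^ 2 := Finset.sum_nonneg fun _ _ => sq_nonneg _
  have hpos : 0 < m α ^ 2 := by positivity
  have hma2 : m α ^ 2 = 1 := by omega
  have hz : ∑ χ ∈ (S.erase β).erase α, m χ ^ 2 = 0 := by omega
  have hrest : ∀ χ ∈ (S.erase β).erase α, m χ = 0 := fun χ hχ => by
    simpa using (Finset.sum_eq_zero_iff_of_nonneg fun _ _ => sq_nonneg _).mp hz χ hχ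
  have hd3 := Finset.add_sum_erase (S.erase β) (fun χ => m χ * (deg χ : ℤ)) hαS
  rw [Finset.sum_eq_zero (fun χ hχ => by rw [hrest χ hχ, zero_mul])] at hd3
  have hdp := deg_pos β
  have hma : m α = 1 := by
    rcases sq_eq_one_iff.mp hma2 with e | e
    · exact e
    · exfalso
      rw [← hd3, e] at hd2
      have := deg_pos α
      omega
  simp only [hS, Finset.mem_erase, Finset.mem_univ, and_true] at hαS hβS
  refine ⟨α, β, hαS.1, hαS.2, hβS, ?_⟩
  rw [hm]
  have : ∀ χ : Cfsg.IrrCharacter R, (m χ : ℂ) • (χ : R → ℂ) =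
      (if χ = irrOne then (χ : R → ℂ) else 0) + (if χ = α then (χ : R → ℂ) else 0) -
        (if χ = β then (χ : R → ℂ) else 0) := by
    intro χ
    by_cases c1 : χ = irrOne
    · subst c1
      simp [hm1, (Ne.symm hαS.2), (Ne.symm hβS)]
    by_cases c2 : χ = α
    · subst c2
      simp [hma, hαS.2, hαS.1]
    by_cases c3 : χ = β
    · subst c3
      simp [hmb, hβS, Ne.symm hαS.1]
    have : m χ = 0 := hrest χ (by simp [hS, c1, c2, c3])
    simp [this, c1, c2, c3]
  rw [Finset.sum_congr rfl fun χ _ => this χ, Finset.sum_sub_distrib, Finset.sum_add_distrib]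
  simp

theorem section_arith [DecidableEq R] (N : Subgroup R) [Fintype N] (hN : Nat.card N = 24) (T : Finset R)
    (hT8 : T.card = 8) (hTN : ∀ t ∈ T, t ∈ N)
    (hTI : ∀ g : R, g ∉ N → ∀ t ∈ T, g * t * g⁻¹ ∈ T → t = 1) (hT1 : (1 : R) ∉ T)
    (hgen : Cfsg.IsGeneralizedCharacter N (fun n : N => if (n : R) ∈ T then (3 : ℂ) else 0))
    (v : R) (hv : v * v = 1) (hvT : ∀ g : R, g * v * g⁻¹ ∉ T)
    (hvC : Nat.card ↥(Subgroup.centralizer ({v} : Set R)) = 24)
    (hpairs : Nat.card {p : R × R // IsConj v p.1 ∧ IsConj v p.2 ∧ p.1 * p.2 ∈ T} = 6) :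
    ∃ a f : ℤ, 1 ≤ f ∧ Even (f - a) ∧ 1 + a ^ 2 + (1 + a) ^ 2 ≤ 24 ∧
      432 * f * (f + 1) = (Nat.card R : ℤ) * (f - a) ^ 2 := by
  classical
  set θ : N → ℂ := fun n => if (n : R) ∈ T then 3 else 0 with hθ
  have hθc := isClassFunction_of_isGen hgen
  have hsupp : ∀ x : N, (x : R) ∉ (T : Set R) → θ x = 0 := fun x hx => if_neg (by simpa using hx)
  have hθ1 : θ 1 = 0 := if_neg (by simpa using hT1)
  set Θ := Cfsg.indFun N θ with hΘ
  have hsumN : ∀ F : R → ℂ, ∑ n : N, θ n * F n = 3 * ∑ t ∈ T, F t := by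
    intro F
    rw [Finset.mul_sum]
    simp only [hθ, ite_mul, zero_mul]
    rw [← Finset.sum_filter]
    refine Finset.sum_bij (fun n _ => (n : R)) (fun n hn => (Finset.mem_filter.mp hn).2)
      (fun a _ b _ e => Subtype.ext e) (fun t ht => ⟨⟨t, hTN t ht⟩, Finset.mem_filter.mpr ⟨Finset.mem_univ _, ht⟩, rfl⟩)
      (fun n _ => rfl)
  have hnorm : Cfsg.classInner Θ Θ = 3 := by
    rw [hΘ, classInner_indFun_of_TI N (T : Set R) (fun g hg t ht h => hTI g hg t (by simpa using ht) (by simpa using h))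
      hθc hsupp hsupp hθ1, classInner_def, hN]
    have e := hsumN (fun t => conj (if t ∈ T then (3 : ℂ) else 0))
    rw [show (∑ x : N, θ x * conj (θ x)) = ∑ x : N, θ x * conj (if (x : R) ∈ T then (3 : ℂ) else 0) from rfl, e,
      Finset.sum_congr rfl (fun t ht => by rw [if_pos ht]), Finset.sum_const, hT8]
    simp [Complex.conj_ofNat]
    norm_num
  have hone : Cfsg.classInner Θ (fun _ => 1) = 1 := by
    rw [hΘ, frobenius_reciprocity N θ (isClassFunction_const 1), classInner_def, hN]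
    have e := hsumN (fun _ => conj (1 : ℂ))
    rw [e, Finset.sum_const, hT8]
    simp
    norm_num
  have hzero : Θ 1 = 0 := by rw [hΘ, indFun_one, hθ1, mul_zero]
  obtain ⟨α, β, hαβ, hα1, hβ1, hdec⟩ := gen_norm_three (θ := Θ) (isGen_indFun N hgen) hnorm hone hzero
  have hΘv : Θ v = 0 := by
    rw [hΘ, indFun_apply, Finset.sum_eq_zero, mul_zero]
    intro x _
    by_cases hx : x⁻¹ * v * x ∈ N
    · rw [extendByZero_of_mem _ hx]
      refine hsupp _ ?_
      simpa using hvT x⁻¹
    · exact extendByZero_of_notMem _ hx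
  set f : ℤ := (deg α : ℤ) with hf
  set a : ℤ := intVal α hv with ha
  have hfb : (deg β : ℤ) = f + 1 := by
    have e := congrFun hdec 1
    rw [hzero] at e
    simp only [Pi.sub_apply, Pi.add_apply, deg_spec, deg_irrOne] at e
    have e' : ((deg β : ℤ) : ℂ) = (((deg α : ℤ) + 1 : ℤ) : ℂ) := by push_cast; push_cast at e; linear_combination e
    rw [hf]
    exact_mod_cast e'
  have hab : intVal β hv = 1 + a := by
    have e := congrFun hdec v
    rw [hΘv] at e
    simp only [Pi.sub_apply, Pi.add_apply, intVal_spec _ hv, intVal_irrOne] at e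
    have e' : ((intVal β hv : ℤ) : ℂ) = (((1 : ℤ) + intVal α hv : ℤ) : ℂ) := by push_cast; push_cast at e; linear_combination e
    exact_mod_cast e'
  have hf1 : 1 ≤ f := by
    have := deg_pos α
    omega
  refine ⟨a, f, hf1, intVal_parity α hv, ?_, ?_⟩
  · have h := sum_intVal_sq hv
    rw [hvC] at h
    have hle : ∑ χ ∈ ({irrOne, α, β} : Finset (Cfsg.IrrCharacter R)), intVal χ hv ^ 2 ≤ ∑ χ, intVal χ hv ^ 2 :=
      Finset.sum_le_sum_of_subset_of_nonneg (Finset.subset_univ _) (fun χ _ _ => sq_nonneg _)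
    rw [Finset.sum_insert (by simp [Ne.symm hα1, Ne.symm hβ1]), Finset.sum_insert (by simp [hαβ]),
      Finset.sum_singleton, intVal_irrOne, hab, h] at hle
    push_cast at hle ⊢
    linarith
  · -- class multiplication over the section
    have hJ : (Nat.card {x : R // IsConj v x} : ℂ) * 24 = (Nat.card R : ℂ) := by
      exact_mod_cast (show Nat.card {x : R // IsConj v x} * 24 = Nat.card R by
        rw [← hvC]; exact CfsgLib.Invol.card_conjugates_mul v)
    have hsum : (6 : ℂ) = ∑ t ∈ T, (Nat.card {p : R × R // IsConj v p.1 ∧ IsConj v p.2 ∧ p.1 * p.2 = t} : ℂ) := by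
      have e : Nat.card {p : R × R // IsConj v p.1 ∧ IsConj v p.2 ∧ p.1 * p.2 ∈ T} =
          ∑ t ∈ T, Nat.card {p : R × R // IsConj v p.1 ∧ IsConj v p.2 ∧ p.1 * p.2 = t} := by
        simp only [Nat.card_eq_fintype_card, Fintype.card_subtype]
        rw [Finset.card_eq_sum_card_fiberwise (f := fun p : R × R => p.1 * p.2) (t := T)
          (fun p hp => by simpa using (Finset.mem_filter.mp hp).2.2.2)]
        refine Finset.sum_congr rfl fun t ht => ?_
        congr 1
        ext p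
        simp only [Finset.mem_filter, Finset.mem_univ, true_and]
        exact ⟨fun h => ⟨h.1.1, h.1.2.1, h.2⟩, fun h => ⟨⟨h.1, h.2.1, h.2.2 ▸ ht⟩, h.2.2⟩⟩
      rw [hpairs] at e
      exact_mod_cast e
    have hmult : ∀ χ : Cfsg.IrrCharacter R, ∑ t ∈ T, conj ((χ : R → ℂ) t) =
        8 * Cfsg.classInner Θ (χ : R → ℂ) := by
      intro χ
      rw [hΘ, frobenius_reciprocity N θ (isClassFunction_of_isIrr χ.2), classInner_def, hN,
        hsumN (fun t => conj ((χ : R → ℂ) t))]
      push_cast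
      ring
    rw [Finset.sum_congr rfl (fun t _ => card_classProduct_eq v v t)] at hsum
    rw [← Finset.mul_sum, Finset.sum_comm] at hsum
    have hinner : ∀ χ : Cfsg.IrrCharacter R, ∑ t ∈ T,
        (χ : R → ℂ) v * (χ : R → ℂ) v * conj ((χ : R → ℂ) t) / (χ : R → ℂ) 1 =
        8 * (((intVal χ hv : ℤ) : ℂ) ^ 2 / (deg χ : ℂ)) * Cfsg.classInner Θ (χ : R → ℂ) := by
      intro χ
      rw [← Finset.sum_div, ← Finset.mul_sum, hmult, intVal_spec χ hv, deg_spec]
      ring
    rw [Finset.sum_congr rfl (fun χ _ => hinner χ)] at hsum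
    have hcoef : ∀ χ : Cfsg.IrrCharacter R, Cfsg.classInner Θ (χ : R → ℂ) =
        (if irrOne = χ then 1 else 0) + (if α = χ then 1 else 0) - (if β = χ then 1 else 0) := by
      intro χ
      rw [hdec, classInner_sub_left, classInner_add_left]
      simp only [classInner_irrCharacter]
    simp only [hcoef, mul_add, mul_sub, mul_ite, mul_one, mul_zero, Finset.sum_sub_distrib, Finset.sum_add_distrib,
      Finset.sum_ite_eq, Finset.mem_univ, if_true, intVal_irrOne, deg_irrOne, hab] at hsum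
    have hfC : (deg α : ℂ) = (f : ℂ) := by simp [hf]
    have hgC : (deg β : ℂ) = (f : ℂ) + 1 := by
      have : ((deg β : ℤ) : ℂ) = ((f + 1 : ℤ) : ℂ) := by rw [hfb]
      push_cast at this
      exact this
    rw [hfC, hgC] at hsum
    rw [← ha] at hsum
    push_cast at hsum
    have hR : (Nat.card R : ℂ) ≠ 0 := card_ne_zero'
    have hfne : (f : ℂ) ≠ 0 := by exact_mod_cast (show f ≠ 0 by omega)
    have hgne : (f : ℂ) + 1 ≠ 0 := by exact_mod_cast (show f + 1 ≠ 0 by omega)
    have hJ' : (Nat.card {x : R // IsConj v x} : ℂ) = (Nat.card R : ℂ) / 24 := by rw [← hJ]; ring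
    rw [hJ'] at hsum
    field_simp at hsum
    have key : ((432 * f * (f + 1) : ℤ) : ℂ) = (((Nat.card R : ℤ) * (f - a) ^ 2 : ℤ) : ℂ) := by
      push_cast
      linear_combination (1 / 8 : ℂ) * hsum
    exact_mod_cast key

end CfsgLib.SymEightLocal
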