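import Cfsg.Agent.Lib.SymEightLocal.SectionModel
import Cfsg.Agent.Lib.SymEightLocal.SectionChar
import Cfsg.Agent.Lib.Char.PermChar

/-!
The centralizer of `r` has order `480`.
-/

set_option autoImplicit false
set_option linter.style.haveILetI false

namespace CfsgLib.SymEightLocal

open CfsgLib.Char

universe u

variable {G : Type u} [Group G] [Finite G]

/-- The second coordinate frame. -/
def Frame.psi (F : Frame G) : Q35 →* G := (MulAut.conj F.g).toMonoidHom.comp F.φ

omit [Finite G] in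
theorem Frame.psi_apply (F : Frame G) (q : Q35) : F.psi q = F.g * F.φ q * F.g⁻¹ := rfl

omit [Finite G] in
theorem Frame.psi_inj (F : Frame G) : Function.Injective F.psi := (MulAut.conj F.g).injective.comp F.inj

theorem char_three : Cfsg.IsGeneralizedCharacter (Equiv.Perm (Fin 3))
    (fun a => if a = c3 ∨ a = c3⁻¹ then (3 : ℂ) else 0) := by
  haveI : MulAction.IsPretransitive (Equiv.Perm (Fin 3)) (Fin 3) :=
    ⟨fun a b => ⟨Equiv.swap a b, Equiv.swap_apply_left a b⟩⟩
  let s : Equiv.Perm (Fin 3) →* ℂ :=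
    (Int.castRingHom ℂ).toMonoidHom.comp ((Units.coeHom ℤ).comp Equiv.Perm.sign)
  have h : (fun a : Equiv.Perm (Fin 3) => if a = c3 ∨ a = c3⁻¹ then (3 : ℂ) else 0) =
      (((2 : ℤ) : ℂ) • (fun _ => (1 : ℂ)) + (s : Equiv.Perm (Fin 3) → ℂ)) -
        fun a : Equiv.Perm (Fin 3) => (Nat.card (MulAction.fixedBy (Fin 3) a) : ℂ) := by
    funext a
    have e := congrArg (fun z : ℤ => (z : ℂ)) (three_val a)
    have hc : Nat.card (MulAction.fixedBy (Fin 3) a) = Fintype.card {i // a i = i} :=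
      Nat.card_eq_fintype_card.trans (Fintype.card_congr (Equiv.subtypeEquivRight fun i => Iff.rfl))
    simp only [Pi.sub_apply, Pi.add_apply, Pi.smul_apply, smul_eq_mul, hc, s, MonoidHom.coe_comp,
      Function.comp_apply, Units.coeHom_apply, RingHom.toMonoidHom_eq_coe, MonoidHom.coe_coe, Int.coe_castRingHom]
    push_cast at e ⊢
    rw [mul_one, e]
  rw [h]
  exact isGen_sub (isGen_add (isGen_intCast_smul isGen_one 2) (isGen_of_irr (isIrrCharacter_hom s)))
    (isGen_of_char isCharacter_permChar)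

namespace Twisted

variable {F : Frame G} (T : Twisted F)
include T

theorem psi_qe : F.psi qe = F.φ qr := T.g_e

theorem psi_u : F.psi qu = F.φ qu := F.g_u

theorem psi_mem {q : Q35} (hq : q * qe = qe * q) :
    F.psi q ∈ Subgroup.centralizer ({F.φ qr} : Set G) := by
  rw [Subgroup.mem_centralizer_singleton_iff, ← T.psi_qe, ← map_mul, hq, map_mul]

set_option maxHeartbeats 1600000 in
theorem card_cent_r : Nat.card ↥(Subgroup.centralizer ({F.φ qr} : Set G)) = 480 := by
  classical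
  haveI : Fact (Nat.Prime 3) := ⟨Nat.prime_three⟩
  haveI : Fact (Nat.Prime 5) := ⟨by norm_num⟩
  let C := Subgroup.centralizer ({F.φ qr} : Set G)
  have hrr : F.φ qr * F.φ qr = 1 := by rw [← map_mul, qr_facts.2.2.2.2.2.2.2.2.2.2.1, map_one]
  have hr1 : F.φ qr ≠ 1 := fun e =>
    qs_facts.2.2.2.2.2.2.2.2.2.2.2.2.2.2.2.1 (F.inj (e.trans (map_one F.φ).symm))
  let Z : Subgroup C := (Subgroup.zpowers (F.φ qr)).subgroupOf C
  have hZmem : ∀ x : C, x ∈ Z ↔ (x : G) = 1 ∨ (x : G) = F.φ qr := by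
    intro x
    rw [Subgroup.mem_subgroupOf]
    constructor
    · intro h
      obtain ⟨k, hk⟩ := Subgroup.mem_zpowers_iff.mp h
      rcases Int.even_or_odd k with ⟨j, rfl⟩ | ⟨j, rfl⟩
      · left; rw [← hk, ← two_mul, zpow_mul, zpow_two, hrr, one_zpow]
      · right; rw [← hk, zpow_add, zpow_mul, zpow_two, hrr, one_zpow, one_mul, zpow_one]
    · rintro (h | h) <;> rw [h]
      · exact one_mem _
      · exact Subgroup.mem_zpowers _
  haveI hZn : Z.Normal := ⟨fun n hn g => by
    have : g * n * g⁻¹ = n := by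
      apply Subtype.ext
      show (g : G) * n * (g : G)⁻¹ = n
      rcases (hZmem n).mp hn with e | e <;> rw [e]
      · group
      · rw [Subgroup.mem_centralizer_singleton_iff.mp g.2, mul_inv_cancel_right]
    rwa [this]⟩
  have hrC : F.φ qr ∈ C := Subgroup.mem_centralizer_singleton_iff.mpr rfl
  have hmk : ∀ x y : C, (x : C ⧸ Z) = y ↔ (y : G) = x ∨ (y : G) = x * F.φ qr := by
    intro x y
    rw [QuotientGroup.eq, hZmem, Subgroup.coe_mul, Subgroup.coe_inv, inv_mul_eq_one, eq_comm,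
      inv_mul_eq_iff_eq_mul]
  haveI : Fintype (C ⧸ Z) := Fintype.ofFinite _
  have hC2 : Nat.card C = 2 * Nat.card (C ⧸ Z) := by
    rw [← Subgroup.card_mul_index Z, Subgroup.index]
    congr 1
    rw [Nat.card_congr (Subgroup.subgroupOfEquivOfLe (Subgroup.zpowers_le.mpr hrC)).toEquiv, Nat.card_zpowers]
    exact orderOf_eq_prime (by rw [pow_two, hrr]) hr1
  let Qe : Subgroup Q35 := Subgroup.centralizer ({qe} : Set Q35)
  have hQe : ∀ q, q ∈ Qe ↔ q * qe = qe * q := fun q => Subgroup.mem_centralizer_singleton_iff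
  let π : Qe →* C ⧸ Z := (QuotientGroup.mk' Z).comp
    ((F.psi.comp Qe.subtype).codRestrict C (fun q => T.psi_mem ((hQe q).mp q.2)))
  have hπeq : ∀ a b : Qe, π a = π b ↔ (b : Q35) = a ∨ (b : Q35) = a * qe := by
    intro a b
    refine (hmk _ _).trans ?_
    show F.psi b = F.psi a ∨ F.psi b = F.psi a * F.φ qr ↔ _
    rw [← T.psi_qe, ← map_mul, F.psi_inj.eq_iff, F.psi_inj.eq_iff]
  have hqe : qe ∈ Qe := (hQe _).mpr rfl
  let N : Subgroup (C ⧸ Z) := π.range
  haveI : Fintype N := Fintype.ofFinite _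
  have hqe1 : ∀ q : Q35, (q * qe).1 = q.1 := fun q => by
    rw [cent_r_facts.2.2.2.2.2.2.2.2.2.2.1]; simp
  have hqee : ∀ q : Q35, q * qe * qe = q := fun q => by rw [mul_assoc, qc_facts.2.2.2.1, mul_one]
  have hrepU : ∀ a b : Qe, π a = π b → Rep a → Rep b → a = b := by
    intro a b h ha hb
    rcases (hπeq a b).mp h with e | e
    · exact Subtype.ext e.symm
    · rw [e] at hb
      exact absurd hb ((qe_rep a ((hQe a).mp a.2)).mp ha)
  have hrepE : ∀ a : Qe, ∃ b : Qe, Rep b ∧ π b = π a := by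
    intro a
    by_cases h : Rep a
    · exact ⟨a, h, rfl⟩
    · refine ⟨a * ⟨qe, hqe⟩, ?_, ((hπeq _ _).mpr (Or.inr ?_))⟩
      · by_contra h'
        exact h ((qe_rep a ((hQe a).mp a.2)).mpr h')
      · show (a : Q35) = a * qe * qe
        rw [hqee]
  have hN24 : Nat.card N = 24 := by
    have e : Nat.card {q : Q35 // q * qe = qe * q ∧ Rep q} = 24 := by rw [Nat.card_eq_fintype_card, qe_card]
    rw [← e]
    refine (Nat.card_congr (Equiv.ofBijective (fun q : {q : Q35 // q * qe = qe * q ∧ Rep q} =>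
      (⟨π ⟨q, (hQe _).mpr q.2.1⟩, _, rfl⟩ : N)) ⟨?_, ?_⟩)).symm
    · intro a b h
      have := hrepU _ _ (congrArg Subtype.val h) a.2.2 b.2.2
      exact Subtype.ext (congrArg (fun z : Qe => (z : Q35)) this)
    · rintro ⟨_, q, rfl⟩
      obtain ⟨b, hb, hbe⟩ := hrepE q
      exact ⟨⟨b, (hQe _).mp b.2, hb⟩, Subtype.ext hbe⟩
  -- the hom onto `S₃`
  have hfst : ∀ a b : Qe, π a = π b → (a : Q35).1 = (b : Q35).1 := by
    intro a b h
    rcases (hπeq a b).mp h with e | e
    · rw [e]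
    · rw [e, hqe1]
  have hρ : ∀ n : N, ∀ q : Qe, π q = n → (n.2.choose : Q35).1 = (q : Q35).1 := fun n q hq =>
    hfst _ _ (n.2.choose_spec.trans hq.symm)
  let ρ : N →* Equiv.Perm (Fin 3) := MonoidHom.mk' (fun n => (n.2.choose : Q35).1) (fun m n => by
    refine (hρ (m * n) (m.2.choose * n.2.choose) ?_).trans rfl
    rw [map_mul, m.2.choose_spec, n.2.choose_spec]; rfl)
  have hρπ : ∀ q : Qe, ρ ⟨π q, q, rfl⟩ = (q : Q35).1 := fun q => hρ _ q rfl
  let T3 : Finset (C ⧸ Z) :=
    (Finset.univ.filter (fun q : Qe => (q : Q35).1 = c3 ∨ (q : Q35).1 = c3⁻¹)).image π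
  have hT3 : ∀ t, t ∈ T3 ↔ ∃ q : Qe, ((q : Q35).1 = c3 ∨ (q : Q35).1 = c3⁻¹) ∧ π q = t := by
    intro t
    simp [T3, and_comm]
  have hT8 : T3.card = 8 := by
    have e : Nat.card {q : Q35 // (q * qe = qe * q ∧ Rep q) ∧ (q.1 = c3 ∨ q.1 = c3⁻¹)} = 8 := by
      rw [Nat.card_eq_fintype_card, qe_card_three]
    rw [← e, ← Fintype.card_coe, ← Nat.card_eq_fintype_card]
    refine (Nat.card_congr (Equiv.ofBijective
      (fun q : {q : Q35 // (q * qe = qe * q ∧ Rep q) ∧ (q.1 = c3 ∨ q.1 = c3⁻¹)} =>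
      (⟨π ⟨q, (hQe _).mpr q.2.1.1⟩, (hT3 _).mpr ⟨_, q.2.2, rfl⟩⟩ : {t // t ∈ T3})) ⟨?_, ?_⟩)).symm
    · intro a b h
      have := hrepU _ _ (congrArg Subtype.val h) a.2.1.2 b.2.1.2
      exact Subtype.ext (congrArg (fun z : Qe => (z : Q35)) this)
    · rintro ⟨t, ht⟩
      obtain ⟨q, hq, rfl⟩ := (hT3 t).mp ht
      obtain ⟨b, hb, hbe⟩ := hrepE q
      exact ⟨⟨b, ⟨(hQe _).mp b.2, hb⟩, by rw [hfst _ _ hbe]; exact hq⟩, Subtype.ext hbe⟩
  have hTN : ∀ t ∈ T3, t ∈ N := fun t ht => by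
    obtain ⟨q, -, rfl⟩ := (hT3 t).mp ht
    exact ⟨q, rfl⟩
  have hc31 : c3 ≠ 1 ∧ c3⁻¹ ≠ 1 := by decide +kernel
  have hT1 : (1 : C ⧸ Z) ∉ T3 := by
    intro h
    obtain ⟨q, hq, e⟩ := (hT3 1).mp h
    have h1 : (q : Q35).1 = 1 := hfst q 1 (by rw [e, map_one])
    rcases hq with h2 | h2 <;> rw [h1] at h2
    · exact hc31.1 h2.symm
    · exact hc31.2 h2.symm
  have hzQ : qz ∈ Qe := (hQe _).mpr cent_r_facts.2.2.2.2.2.2.1
  set X : C ⧸ Z := π ⟨qz, hzQ⟩ with hX
  have hX3 : X ^ 3 = 1 := by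
    rw [hX, ← map_pow, show (⟨qz, hzQ⟩ : Qe) ^ 3 = 1 from Subtype.ext d0_ne.2.2.2.2.1, map_one]
  have hT4 : ∀ t ∈ T3, t ^ 4 = X ∨ t ^ 4 = X⁻¹ := by
    intro t ht
    obtain ⟨q, hq, rfl⟩ := (hT3 t).mp ht
    rw [← map_pow, hX, ← map_inv]
    have h2 := qe_pow_four q ((hQe q).mp q.2)
    have hc : c3 ^ 4 = c3 := by decide +kernel
    rcases hq with e | e
    · exact Or.inl (congrArg π (Subtype.ext (Prod.ext (by show (q : Q35).1 ^ 4 = c3; rw [e, hc]) h2)))
    · refine Or.inr (congrArg π (Subtype.ext (Prod.ext (by show (q : Q35).1 ^ 4 = c3⁻¹; rw [e, inv_pow, hc]) ?_)))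
      show (q : Q35).2 ^ 4 = (1 : Equiv.Perm (Fin 5))⁻¹
      rw [h2, inv_one]
  have hNX : ∀ x : C ⧸ Z, (x * X * x⁻¹ = X ∨ x * X * x⁻¹ = X⁻¹) → x ∈ N := by
    intro x hx
    induction x using QuotientGroup.induction_on with
    | _ x =>
      have hcube : ∀ y : G, y ^ 3 = 1 → (x : G) * F.psi qz * (x : G)⁻¹ = y * F.φ qr →
          y * F.φ qr = F.φ qr * y → False := by
        intro y hy h hc
        have h3 : (y * F.φ qr) ^ 3 = 1 := by
          rw [← h, conj_pow, ← map_pow, d0_ne.2.2.2.2.1, map_one]; group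
        rw [(show Commute y (F.φ qr) from hc).mul_pow, hy, one_mul, pow_succ, pow_two, hrr, one_mul] at h3
        exact hr1 h3
      have key : (x : G) * F.psi qz * (x : G)⁻¹ = F.psi qz ∨ (x : G) * F.psi qz * (x : G)⁻¹ = (F.psi qz)⁻¹ := by
        rcases hx with h | h
        · rw [hX, eq_comm] at h
          rcases (hmk _ _).mp h with e | e
          · exact Or.inl e
          · exact (hcube _ (by
              show F.psi qz ^ 3 = 1
              rw [← map_pow, d0_ne.2.2.2.2.1, map_one]) e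
              (Subgroup.mem_centralizer_singleton_iff.mp (T.psi_mem cent_r_facts.2.2.2.2.2.2.1))).elim
        · rw [hX, ← map_inv, eq_comm] at h
          rcases (hmk _ _).mp h with e | e
          · exact Or.inr (e.trans (map_inv F.psi qz))
          · refine (hcube _ ?_ e ?_).elim
            · show F.psi qz⁻¹ ^ 3 = 1
              rw [← map_pow, inv_pow, d0_ne.2.2.2.2.1, inv_one, map_one]
            · exact Subgroup.mem_centralizer_singleton_iff.mp
                (T.psi_mem (show qz⁻¹ * qe = qe * qz⁻¹ from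
                  ((show Commute qz qe from cent_r_facts.2.2.2.2.2.2.1).inv_left).eq))
      obtain ⟨q, hq⟩ := F.range_of_conj (F.g * (x : G) * F.g⁻¹) (by
        have e : F.φ qz = F.g * F.psi qz * F.g⁻¹ := by rw [F.psi_apply, F.g_conj]
        rcases key with h | h
        · left
          rw [e, show F.g * (x : G) * F.g⁻¹ * (F.g * F.psi qz * F.g⁻¹) * (F.g * (x : G) * F.g⁻¹)⁻¹ =
            F.g * ((x : G) * F.psi qz * (x : G)⁻¹) * F.g⁻¹ by group, h]
        · right
          rw [e, show F.g * (x : G) * F.g⁻¹ * (F.g * F.psi qz * F.g⁻¹) * (F.g * (x : G) * F.g⁻¹)⁻¹ =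
            F.g * ((x : G) * F.psi qz * (x : G)⁻¹) * F.g⁻¹ by group, h]
          group)
      have hxq : F.psi q = (x : G) := by rw [F.psi_apply, hq, F.g_conj]
      have hqQ : q ∈ Qe := (hQe q).mpr (F.psi_inj (by
        rw [map_mul, map_mul, hxq, T.psi_qe]
        exact Subgroup.mem_centralizer_singleton_iff.mp x.2))
      exact ⟨⟨q, hqQ⟩, (hmk _ _).mpr (Or.inl hxq.symm)⟩
  have hTI : ∀ g : C ⧸ Z, g ∉ N → ∀ t ∈ T3, g * t * g⁻¹ ∈ T3 → t = 1 := by
    intro g hg t ht ht'
    exfalso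
    apply hg
    apply hNX
    have h4 := hT4 _ ht'
    rw [conj_pow] at h4
    rcases hT4 _ ht with e | e <;> rw [e] at h4
    · exact h4
    · rw [← conj_inv] at h4
      rcases h4 with h | h
      · exact Or.inr (by rw [← inv_inv (g * X * g⁻¹), h])
      · exact Or.inl (inv_injective h)
  have hgen : Cfsg.IsGeneralizedCharacter N (fun n : N => if (n : C ⧸ Z) ∈ T3 then (3 : ℂ) else 0) := by
    have e : (fun n : N => if (n : C ⧸ Z) ∈ T3 then (3 : ℂ) else 0) =
        (fun a : Equiv.Perm (Fin 3) => if a = c3 ∨ a = c3⁻¹ then (3 : ℂ) else 0) ∘ ρ := by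
      funext n
      obtain ⟨_, q, rfl⟩ := n
      simp only [Function.comp_apply, hρπ]
      refine if_congr ?_ rfl rfl
      rw [hT3]
      exact ⟨fun ⟨p, hp, hpe⟩ => by rwa [← hfst p q hpe], fun h => ⟨q, h, rfl⟩⟩
    rw [e]
    exact isGen_comp char_three ρ
  -- the class of `u`
  have hsu : F.φ qu * F.φ qr = F.φ qr * F.φ qu := by rw [← map_mul, ← qr_facts.2.2.2.2.2.2.1, map_mul]
  let uC : C := ⟨F.φ qu, Subgroup.mem_centralizer_singleton_iff.mpr hsu⟩
  let v : C ⧸ Z := (uC : C ⧸ Z)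
  have hv : v * v = 1 := by
    rw [← QuotientGroup.mk_mul, show uC * uC = 1 from Subtype.ext F.u_sq]; rfl
  have hvT : ∀ g : C ⧸ Z, g * v * g⁻¹ ∉ T3 := by
    intro g h
    have h4 := hT4 _ h
    have hv4 : (g * v * g⁻¹) ^ 4 = 1 := by
      rw [conj_pow, show (4 : ℕ) = 2 * 2 from rfl, pow_mul, pow_two v, hv, one_pow]; group
    rw [hv4] at h4
    have hX1 : X = 1 := by
      rcases h4 with e | e
      · exact e.symm
      · exact inv_eq_one.mp e.symm
    apply hc31.1
    have := hfst ⟨qz, hzQ⟩ 1 (by rw [map_one]; exact hX1)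
    exact this
  -- lifts of conjugates of `u`
  have hlift : ∀ (y : C), IsConj v (y : C ⧸ Z) → IsConj (F.φ qu) (y : G) := by
    intro y h
    obtain ⟨g, hg⟩ := isConj_iff.mp h
    induction g using QuotientGroup.induction_on with
    | _ h0 =>
      rw [← QuotientGroup.mk_inv, ← QuotientGroup.mk_mul, ← QuotientGroup.mk_mul] at hg
      rcases (hmk _ _).mp hg with e | e
      · exact isConj_iff.mpr ⟨h0, e.symm⟩
      · refine (F.u_isConj_ru T.tw).trans (isConj_iff.mpr ⟨h0, ?_⟩)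
        rw [e, map_mul, ← hsu]
        show (h0 : G) * (F.φ qu * F.φ qr) * (h0 : G)⁻¹ = (h0 : G) * F.φ qu * (h0 : G)⁻¹ * F.φ qr
        have := Subgroup.mem_centralizer_singleton_iff.mp h0.2
        calc (h0 : G) * (F.φ qu * F.φ qr) * (h0 : G)⁻¹ = h0 * F.φ qu * (h0 : G)⁻¹ * ((h0 : G) * F.φ qr) * (h0 : G)⁻¹ := by group
          _ = _ := by rw [this]; group
  -- the elements of the coset in the class
  have hJ : ∀ a : Equiv.Perm (Fin 3), a * c3 * a⁻¹ = c3⁻¹ → ∀ hm : ((a, t5) : Q35) ∈ Qe,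
      IsConj v (π ⟨(a, t5), hm⟩) := by
    intro a ha hm
    obtain ⟨-, hqtr, hqse, hqsr, hque, hruqe, -, h1, h2, h5, h6, -, -⟩ := cent_r_facts
    obtain ⟨-, h, hh, hhc⟩ := odd_conj a ha
    have hh1 : ((h, 1) : Q35) ∈ Qe := (hQe _).mpr (by rw [h6]; simp)
    have hbase : IsConj v (π ⟨qr * qu, (hQe _).mpr hruqe⟩) := by
      refine isConj_iff.mpr ⟨((⟨F.φ qs, Subgroup.mem_centralizer_singleton_iff.mpr
        (by rw [← map_mul, hqsr, map_mul])⟩ : C) : C ⧸ Z), ?_⟩
      rw [← QuotientGroup.mk_inv, ← QuotientGroup.mk_mul, ← QuotientGroup.mk_mul]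
      refine (hmk _ _).mpr (Or.inl ?_)
      show F.psi (qr * qu) = F.φ qs * F.φ qu * (F.φ qs)⁻¹
      rw [← map_inv, ← map_mul, ← map_mul, qs_facts.1, F.psi_apply, ← T.g_r', F.g_conj]
    refine hbase.trans (isConj_iff.mpr ⟨π ⟨(h, 1), hh1⟩, ?_⟩)
    rw [← map_inv, ← map_mul, ← map_mul]
    refine (hπeq _ _).mpr (Or.inr ?_)
    show ((a, t5) : Q35) = (h, 1) * (qr * qu) * ((h, 1) : Q35)⁻¹ * qe
    rw [h6]
    refine Prod.ext ?_ ?_
    · show a = h * (qr * qu).1 * h⁻¹ * 1
      rw [h1, hh, mul_one]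
    · show t5 = 1 * (qr * qu).2 * 1⁻¹ * e5
      rw [h2, one_mul, inv_one, mul_one, h5, mul_assoc, show e5 * e5 = 1 by decide +kernel, mul_one]
  have hJ' : ∀ i : C ⧸ Z, IsConj v i → i ∈ N → i * X * i⁻¹ = X⁻¹ →
      ∃ (a : Equiv.Perm (Fin 3)) (hm : ((a, t5) : Q35) ∈ Qe), a * c3 * a⁻¹ = c3⁻¹ ∧ π ⟨(a, t5), hm⟩ = i := by
    intro i hi hiN hinv
    obtain ⟨q, rfl⟩ := hiN
    have ha : (q : Q35).1 * c3 * (q : Q35).1⁻¹ = c3⁻¹ := by
      rw [hX, ← map_inv, ← map_mul, ← map_mul, ← map_inv] at hinv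
      exact hfst _ _ hinv
    have hXq : IsConj (F.φ qu) (F.psi q) := hlift _ hi
    have hq2 : (q : Q35) * q = 1 := F.psi_inj (by
      obtain ⟨c, hc⟩ := isConj_iff.mp hXq
      rw [map_mul, ← hc, show c * F.φ qu * c⁻¹ * (c * F.φ qu * c⁻¹) = c * (F.φ qu * F.φ qu) * c⁻¹ by group,
        F.u_sq, map_one]
      group)
    have hXφ : IsConj (F.φ qu) (F.φ q) := hXq.trans (isConj_iff.mpr ⟨F.g, by rw [F.psi_apply, F.g_conj]⟩)
    have hpc : ∀ p h : Q35, h * p * h⁻¹ = q → IsConj (F.φ p) (F.φ q) := fun p h e =>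
      isConj_iff.mpr ⟨F.φ h, by rw [← map_inv, ← map_mul, ← map_mul, e]⟩
    rcases qe_coset q ((hQe q).mp q.2) ha hq2 with (h | h) | ⟨c, h⟩ | ⟨c, h⟩
    · refine ⟨(q : Q35).1, ?_, ha, ?_⟩
      · rw [← h, Prod.mk.eta]; exact q.2
      · refine (hπeq _ _).mpr (Or.inl ?_)
        show (q : Q35) = ((q : Q35).1, t5)
        rw [← h]
    · obtain ⟨-, -, -, -, -, -, -, -, -, h5, h6, -, -⟩ := cent_r_facts
      have hm : (((q : Q35).1, t5) : Q35) ∈ Qe := by
        have := mul_mem q.2 hqe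
        rwa [show (q : Q35) * qe = ((q : Q35).1, t5) from Prod.ext (hqe1 _) (by
          show (q : Q35).2 * qe.2 = t5
          rw [h, h6, h5, mul_assoc, show e5 * e5 = 1 by decide +kernel, mul_one])] at this
      refine ⟨(q : Q35).1, hm, ha, (hπeq _ _).mpr (Or.inr ?_)⟩
      show (q : Q35) = ((q : Q35).1, t5) * qe
      exact Prod.ext (by rw [hqe1]) (by rw [h, h6, h5]; rfl)
    · exact absurd (hXφ.trans (hpc _ _ h).symm) T.not_u_r
    · exact absurd (hXφ.trans (hpc _ _ h).symm) T.not_u_c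
  have hmemt : ∀ a : Equiv.Perm (Fin 3), ((a, t5) : Q35) ∈ Qe := by
    intro a
    refine (hQe _).mpr ?_
    rw [cent_r_facts.2.2.2.2.2.2.2.2.2.2.1]
    exact Prod.ext (by simp) (show t5 * e5 = e5 * t5 by decide +kernel)
  have ht5 : t5 * t5 = 1 := by decide +kernel
  have hpairs : Nat.card {p : (C ⧸ Z) × (C ⧸ Z) // IsConj v p.1 ∧ IsConj v p.2 ∧ p.1 * p.2 ∈ T3} = 6 := by
    have e : Nat.card {p : Equiv.Perm (Fin 3) × Equiv.Perm (Fin 3) //
        p.1 * c3 * p.1⁻¹ = c3⁻¹ ∧ p.2 * c3 * p.2⁻¹ = c3⁻¹ ∧ p.1 ≠ p.2} = 6 := by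
      rw [Nat.card_eq_fintype_card, odd_count]
    rw [← e]
    have hfwd : ∀ a b : Equiv.Perm (Fin 3), a * c3 * a⁻¹ = c3⁻¹ → b * c3 * b⁻¹ = c3⁻¹ →
        (π ⟨(a, t5), hmemt a⟩ * π ⟨(b, t5), hmemt b⟩ ∈ T3 ↔ a ≠ b) := by
      intro a b ha hb
      rw [← map_mul, hT3, ← odd_prod a b ha hb]
      exact ⟨fun ⟨p, hp, hpe⟩ => by rwa [hfst p _ hpe] at hp, fun h => ⟨_, h, rfl⟩⟩
    refine (Nat.card_congr (Equiv.ofBijective
      (fun p : {p : Equiv.Perm (Fin 3) × Equiv.Perm (Fin 3) //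
        p.1 * c3 * p.1⁻¹ = c3⁻¹ ∧ p.2 * c3 * p.2⁻¹ = c3⁻¹ ∧ p.1 ≠ p.2} =>
      (⟨(π ⟨(p.1.1, t5), hmemt _⟩, π ⟨(p.1.2, t5), hmemt _⟩), hJ _ p.2.1 (hmemt _), hJ _ p.2.2.1 (hmemt _),
        (hfwd _ _ p.2.1 p.2.2.1).mpr p.2.2.2⟩ :
        {p : (C ⧸ Z) × (C ⧸ Z) // IsConj v p.1 ∧ IsConj v p.2 ∧ p.1 * p.2 ∈ T3})) ⟨?_, ?_⟩)).symm
    · intro p p' h
      have h' := congrArg Subtype.val h
      exact Subtype.ext (Prod.ext (hfst _ _ (congrArg Prod.fst h')) (hfst _ _ (congrArg Prod.snd h')))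
    · rintro ⟨⟨i, j⟩, hi, hj, hij⟩
      have hinv : ∀ x : C ⧸ Z, IsConj v x → x * x = 1 := by
        intro x hx
        obtain ⟨c, hc⟩ := isConj_iff.mp hx
        rw [← hc, show c * v * c⁻¹ * (c * v * c⁻¹) = c * (v * v) * c⁻¹ by group, hv]; group
      have hi2 := hinv i hi
      have hj2 := hinv j hj
      have hiinv : i⁻¹ = i := inv_eq_of_mul_eq_one_right hi2
      have hjinv : j⁻¹ = j := inv_eq_of_mul_eq_one_right hj2
      have hit : i * (i * j) * i⁻¹ = (i * j)⁻¹ := by
        rw [← mul_assoc i i j, hi2, one_mul, mul_inv_rev, hjinv]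
      have h4 : i * (i * j) ^ 4 * i⁻¹ = ((i * j) ^ 4)⁻¹ := by rw [← conj_pow, hit, inv_pow]
      have hX' : i * X * i⁻¹ = X⁻¹ := by
        rcases hT4 _ hij with e | e <;> rw [e] at h4
        · exact h4
        · have := congrArg (·⁻¹) h4
          simpa [mul_assoc] using this
      have hiN : i ∈ N := hNX i (Or.inr hX')
      have hjN : j ∈ N := by
        have := mul_mem (inv_mem hiN) (hTN _ hij)
        rwa [inv_mul_cancel_left] at this
      have hX'' : j * X * j⁻¹ = X⁻¹ := by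
        obtain ⟨p, hp⟩ := hTN _ hij
        have hcomm : (i * j) * X * (i * j)⁻¹ = X := by
          rw [← hp, hX, ← map_inv, ← map_mul, ← map_mul]
          refine congrArg π (Subtype.ext ?_)
          show (p : Q35) * qz * (p : Q35)⁻¹ = qz
          obtain ⟨p', hp', hpe⟩ := (hT3 _).mp hij
          have h1 : (p : Q35).1 = c3 ∨ (p : Q35).1 = c3⁻¹ := by rw [← hfst p' p (hpe.trans hp.symm)]; exact hp'
          refine Prod.ext ?_ (by simp [qz])
          show (p : Q35).1 * c3 * (p : Q35).1⁻¹ = c3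
          rcases h1 with h1 | h1 <;> rw [h1] <;> group
        calc j * X * j⁻¹ = i⁻¹ * ((i * j) * X * (i * j)⁻¹) * i := by group
          _ = i * X * i⁻¹ := by rw [hcomm, hiinv]
          _ = X⁻¹ := hX'
      obtain ⟨a, hma, ha, rfl⟩ := hJ' i hi hiN hX'
      obtain ⟨b, hmb, hb, rfl⟩ := hJ' j hj hjN hX''
      exact ⟨⟨(a, b), ha, hb, (hfwd a b ha hb).mp hij⟩, rfl⟩
  have hvC : Nat.card ↥(Subgroup.centralizer ({v} : Set (C ⧸ Z))) = 24 := by
    obtain ⟨hne, -, hqse, -, -, -, -, -, -, -, -, hqss, -⟩ := cent_r_facts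
    have hs : F.psi qs ∈ C := T.psi_mem hqse
    have hsu2 : F.psi qs * F.φ qu * (F.psi qs)⁻¹ = F.φ qu * F.φ qr := by
      rw [← T.psi_u, ← map_inv, ← map_mul, ← map_mul, qs_facts.1, F.psi_apply, T.g_r', map_mul, ← hsu, T.psi_u]
    have hss : F.psi qs * F.psi qs = 1 := by rw [← map_mul, hqss, map_one]
    have hmem : ∀ q : Q35, InN q → q.1 = 1 → F.φ q ∈ C := by
      intro q _ hq1
      rw [Subgroup.mem_centralizer_singleton_iff, ← map_mul, ← map_mul]
      congr 1
      exact Prod.ext (by show q.1 * t3 = t3 * q.1; rw [hq1, one_mul, mul_one]) (by simp [qr])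
    have e : Nat.card ({q : Q35 // InN q ∧ q.1 = 1} × Bool) = 24 := by
      rw [Nat.card_prod, Nat.card_eq_fintype_card, cent_u_rep_card, Nat.card_eq_fintype_card, Fintype.card_bool]
    rw [← e]
    have hin : ∀ p : {q : Q35 // InN q ∧ q.1 = 1} × Bool,
        (((if p.2 then (⟨_, hs⟩ : C) else 1) * ⟨F.φ p.1, hmem _ p.1.2.1 p.1.2.2⟩ : C) : C ⧸ Z) ∈
          Subgroup.centralizer ({v} : Set (C ⧸ Z)) := by
      rintro ⟨⟨q, hqN, hq1⟩, i⟩
      rw [Subgroup.mem_centralizer_singleton_iff, ← QuotientGroup.mk_mul, ← QuotientGroup.mk_mul, eq_comm]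
      refine (hmk _ _).mpr ?_
      have hcq : F.φ q * F.φ qu = F.φ qu * F.φ q := by rw [← map_mul, inN_comm_qu q hqN, map_mul]
      have hrq : F.φ qr * F.φ q = F.φ q * F.φ qr :=
        (Subgroup.mem_centralizer_singleton_iff.mp (hmem q hqN hq1)).symm
      cases i
      · left
        show (1 : G) * F.φ q * F.φ qu = F.φ qu * ((1 : G) * F.φ q)
        rw [one_mul, hcq]
      · right
        show F.psi qs * F.φ q * F.φ qu = F.φ qu * (F.psi qs * F.φ q) * F.φ qr
        calc F.psi qs * F.φ q * F.φ qu = (F.psi qs * F.φ qu * (F.psi qs)⁻¹) * F.psi qs * F.φ q := by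
              rw [mul_assoc, hcq]; group
          _ = F.φ qu * (F.φ qr * F.psi qs) * F.φ q := by rw [hsu2]; group
          _ = F.φ qu * (F.psi qs * F.φ qr) * F.φ q := by rw [Subgroup.mem_centralizer_singleton_iff.mp hs]
          _ = F.φ qu * F.psi qs * (F.φ qr * F.φ q) := by group
          _ = _ := by rw [hrq]; group
    refine (Nat.card_congr (Equiv.ofBijective (fun p => (⟨_, hin p⟩ : Subgroup.centralizer ({v} : Set (C ⧸ Z))))
      ⟨?_, ?_⟩)).symm
    · rintro ⟨⟨q, hqN, hq1⟩, i⟩ ⟨⟨q', hqN', hq1'⟩, i'⟩ h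
      have h' := (hmk _ _).mp (congrArg Subtype.val h)
      have hur : F.φ qu * F.φ qr ≠ F.φ qu := fun e => hr1 (mul_left_cancel (e.trans (mul_one _).symm))
      have conjq : ∀ p : Q35, InN p → F.φ p * F.φ qu * (F.φ p)⁻¹ = F.φ qu := fun p hp => by
        rw [← map_mul, inN_comm_qu p hp, map_mul, mul_inv_cancel_right]
      have flag : i = i' := by
        have hcr : F.φ qr * F.φ qu * (F.φ qr)⁻¹ = F.φ qu := by rw [← hsu, mul_inv_cancel_right]
        cases i <;> cases i' <;> first | rfl | skip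
        · exfalso
          rcases h' with h'' | h''
          · change F.psi qs * F.φ q' = (1 : G) * F.φ q at h''
            apply hur
            rw [← hsu2]
            calc F.psi qs * F.φ qu * (F.psi qs)⁻¹ = (F.psi qs * F.φ q') * F.φ qu * (F.psi qs * F.φ q')⁻¹ := by
                  conv_lhs => rw [← conjq q' hqN']
                  group
              _ = F.φ qu := by rw [h'', one_mul, conjq q hqN]
          · change F.psi qs * F.φ q' = (1 : G) * F.φ q * F.φ qr at h''
            apply hur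
            rw [← hsu2]
            calc F.psi qs * F.φ qu * (F.psi qs)⁻¹ = (F.psi qs * F.φ q') * F.φ qu * (F.psi qs * F.φ q')⁻¹ := by
                  conv_lhs => rw [← conjq q' hqN']
                  group
              _ = F.φ q * (F.φ qr * F.φ qu * (F.φ qr)⁻¹) * (F.φ q)⁻¹ := by rw [h'', one_mul]; group
              _ = F.φ qu := by rw [hcr, conjq q hqN]
        · exfalso
          rcases h' with h'' | h''
          · change (1 : G) * F.φ q' = F.psi qs * F.φ q at h''
            apply hur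
            rw [← hsu2]
            calc F.psi qs * F.φ qu * (F.psi qs)⁻¹ = (F.psi qs * F.φ q) * F.φ qu * (F.psi qs * F.φ q)⁻¹ := by
                  conv_lhs => rw [← conjq q hqN]
                  group
              _ = F.φ qu := by rw [← h'', one_mul, conjq q' hqN']
          · change (1 : G) * F.φ q' = F.psi qs * F.φ q * F.φ qr at h''
            apply hur
            rw [← hsu2]
            calc F.psi qs * F.φ qu * (F.psi qs)⁻¹ =
                (F.psi qs * F.φ q * F.φ qr) * F.φ qu * (F.psi qs * F.φ q * F.φ qr)⁻¹ := by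
                  conv_lhs => rw [← conjq q hqN, ← hcr]
                  group
              _ = F.φ qu := by rw [← h'', one_mul, conjq q' hqN']
      subst flag
      have hcancel : F.φ q' = F.φ q ∨ F.φ q' = F.φ q * F.φ qr := by
        rcases h' with h'' | h'' <;> cases i
        · left
          change (1 : G) * F.φ q' = (1 : G) * F.φ q at h''
          exact mul_left_cancel h''
        · left
          change F.psi qs * F.φ q' = F.psi qs * F.φ q at h''
          exact mul_left_cancel h''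
        · right
          change (1 : G) * F.φ q' = (1 : G) * F.φ q * F.φ qr at h''
          rwa [one_mul, one_mul] at h''
        · right
          change F.psi qs * F.φ q' = F.psi qs * F.φ q * F.φ qr at h''
          rw [mul_assoc] at h''
          exact mul_left_cancel h''
      rcases hcancel with h'' | h''
      · have := F.inj h''
        subst this
        rfl
      · exfalso
        rw [← map_mul] at h''
        have := congrArg Prod.fst (F.inj h'')
        rw [show (q * qr).1 = q.1 * t3 from rfl, hq1, hq1', one_mul] at this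
        exact absurd this (by decide +kernel)
    · rintro ⟨y, hy⟩
      induction y using QuotientGroup.induction_on with
      | _ x =>
        have hy' := Subgroup.mem_centralizer_singleton_iff.mp hy
        rw [← QuotientGroup.mk_mul, ← QuotientGroup.mk_mul, eq_comm] at hy'
        have hstep : ∀ y : C, (y : G) * F.φ qu = F.φ qu * (y : G) →
            ∃ (q : {q : Q35 // InN q ∧ q.1 = 1}),
              (y : G) = F.φ q.1 ∨ (y : G) = F.φ q.1 * F.φ qr := by
          intro y hyu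
          obtain ⟨p, hp, e | e⟩ := F.mem_normalizer_D.mp (T.cu _ hyu)
          · have hpr : p * qr = qr * p := F.inj (by
              rw [map_mul, map_mul, ← e]; exact Subgroup.mem_centralizer_singleton_iff.mp y.2)
            rcases cent_r_rep p hp hpr with h1 | h1
            · exact ⟨⟨p, hp, h1⟩, Or.inl e⟩
            · refine ⟨⟨p * qr, ?_, h1⟩, Or.inr ?_⟩
              · obtain ⟨k, hk, hke | hke⟩ := F.mem_normalizer_D.mp
                  (mul_mem (F.mem_normalizer_D.mpr ⟨p, hp, Or.inl rfl⟩) (F.mem_normalizer_D.mpr ⟨qr, gens_InN.1, Or.inl rfl⟩))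
                · rw [← map_mul] at hke
                  rwa [F.inj hke]
                · exact absurd (show F.φ (p * qr * k⁻¹) = F.g by
                    rw [map_mul, map_mul, map_inv, hke, mul_inv_cancel_right]) (F.g_not_range _)
              · rw [map_mul, mul_assoc, hrr, mul_one, e]
          · exfalso
            refine hne p hp (F.inj ?_)
            have h1 := Subgroup.mem_centralizer_singleton_iff.mp y.2
            rw [e, ← mul_inv_eq_iff_eq_mul, show F.g * F.φ p * F.φ qr * (F.g * F.φ p)⁻¹ =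
              F.g * (F.φ p * F.φ qr * (F.φ p)⁻¹) * F.g⁻¹ by group] at h1
            rw [← T.tw, ← map_inv, ← map_mul, ← map_mul] at *
            conv_lhs => rw [← F.g_conj (F.φ (p * qr * p⁻¹)), h1]
        rcases (hmk _ _).mp hy' with e | e
        · obtain ⟨q, hq⟩ := hstep x e
          refine ⟨(q, false), Subtype.ext ((hmk _ _).mpr ?_)⟩
          show (x : G) = (1 : G) * F.φ q.1 ∨ (x : G) = (1 : G) * F.φ q.1 * F.φ qr
          rwa [one_mul]
        · change (x : G) * F.φ qu = F.φ qu * (x : G) * F.φ qr at e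
          have hxr := Subgroup.mem_centralizer_singleton_iff.mp x.2
          obtain ⟨q, hq⟩ := hstep (⟨_, hs⟩ * x) (by
            show F.psi qs * (x : G) * F.φ qu = F.φ qu * (F.psi qs * (x : G))
            rw [mul_assoc, e]
            calc F.psi qs * (F.φ qu * (x : G) * F.φ qr) = (F.psi qs * F.φ qu * (F.psi qs)⁻¹) * F.psi qs * ((x : G) * F.φ qr) := by group
              _ = F.φ qu * (F.φ qr * F.psi qs) * ((x : G) * F.φ qr) := by rw [hsu2]; group
              _ = F.φ qu * (F.psi qs * F.φ qr) * (F.φ qr * (x : G)) := by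
                rw [Subgroup.mem_centralizer_singleton_iff.mp hs, hxr]
              _ = F.φ qu * F.psi qs * (F.φ qr * F.φ qr) * (x : G) := by group
              _ = _ := by rw [hrr]; group)
          refine ⟨(q, true), Subtype.ext ((hmk _ _).mpr ?_)⟩
          show (x : G) = F.psi qs * F.φ q.1 ∨ (x : G) = F.psi qs * F.φ q.1 * F.φ qr
          rcases hq with h | h <;> change F.psi qs * (x : G) = _ at h
          · exact Or.inl (by rw [← h, ← mul_assoc, hss, one_mul])
          · exact Or.inr (by rw [mul_assoc (F.psi qs), ← h, ← mul_assoc, hss, one_mul])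
  obtain ⟨a, f, hf1, hpar, hle, heq⟩ := section_arith N hN24 T3 hT8 hTN hTI hT1 hgen v hv hvT hvC hpairs
  -- divisibility
  have hcard : Nat.card (C ⧸ Z) = 24 * N.index := by rw [← Subgroup.card_mul_index N, hN24]
  have h3C : ¬ 9 ∣ Nat.card C := by
    intro h9
    obtain ⟨P⟩ : Nonempty (Sylow 3 C) := inferInstance
    have := (Nat.prime_three.pow_dvd_iff_le_factorization (k := 2) Nat.card_pos.ne').mp h9
    have h := P.card_eq_multiplicity
    rw [T.sylow_cent_r P] at h
    have hlt : 3 ^ 2 ≤ 3 ^ (Nat.card C).factorization 3 := Nat.pow_le_pow_right (by norm_num) this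
    rw [← h] at hlt
    norm_num at hlt
  have hk3 : N.index % 3 = 1 := by
    let P0 : Subgroup (C ⧸ Z) := Subgroup.zpowers X
    have hXo : orderOf X = 3 := orderOf_eq_prime hX3 (fun e => hc31.1 (hfst ⟨qz, hzQ⟩ 1 (by rw [map_one]; exact e)))
    obtain ⟨P, hP⟩ := (IsPGroup.of_card (p := 3) (G := P0) (n := 1) (by rw [Nat.card_zpowers, hXo, pow_one])).exists_le_sylow
    have hPc : Nat.card (P : Subgroup (C ⧸ Z)) = 3 := by
      obtain ⟨n, hn⟩ := IsPGroup.iff_card.mp P.2
      have h1 := Subgroup.card_le_of_le hP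
      rw [Nat.card_zpowers, hXo, hn] at h1
      have hn2 : n < 2 := by
        by_contra h2
        apply h3C
        rw [hC2, show (9 : ℕ) = 3 ^ 2 by norm_num]
        exact ((pow_dvd_pow 3 (show 2 ≤ n by omega)).trans (hn ▸ Subgroup.card_subgroup_dvd_card _)).trans (dvd_mul_left _ _)
      rcases n with _ | _ | n
      · simp at h1
      · rw [hn]; norm_num
      · omega
    have hPeq : P0 = P := Subgroup.eq_of_le_of_card_ge hP (by rw [hPc, Nat.card_zpowers, hXo])
    have hNeq : Subgroup.normalizer ((P : Subgroup (C ⧸ Z)) : Set (C ⧸ Z)) = N := by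
      rw [← hPeq]
      apply le_antisymm
      · intro x hx
        refine hNX x ?_
        have h := (Subgroup.mem_normalizer_iff.mp hx X).mp (Subgroup.mem_zpowers X)
        obtain ⟨n, hn⟩ := Submonoid.mem_powers_iff _ _ |>.mp
          ((isOfFinOrder_of_finite X).mem_powers_iff_mem_zpowers.mpr h)
        rw [← Nat.mod_add_div n 3, pow_add, pow_mul, hX3, one_pow, mul_one] at hn
        have := Nat.mod_lt n (show 3 > 0 by norm_num)
        interval_cases h' : n % 3
        · rw [pow_zero, eq_comm, conj_eq_one_iff] at hn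
          rw [hn, orderOf_one] at hXo
          exact absurd hXo (by norm_num)
        · exact Or.inl (by rw [← hn, pow_one])
        · exact Or.inr (by rw [← hn]; exact eq_inv_of_mul_eq_one_right (by rw [← pow_succ', hX3]))
      · intro x hx
        obtain ⟨p, rfl⟩ := hx
        have h2 : π p * X * (π p)⁻¹ ∈ Subgroup.zpowers X := by
          rw [hX, ← map_inv, ← map_mul, ← map_mul]
          rcases qe_normal p ((hQe p).mp p.2) with e | e
          · rw [show p * ⟨qz, hzQ⟩ * p⁻¹ = (⟨qz, hzQ⟩ : Qe) from Subtype.ext e]; exact Subgroup.mem_zpowers _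
          · rw [show p * ⟨qz, hzQ⟩ * p⁻¹ = (⟨qz, hzQ⟩ : Qe)⁻¹ from Subtype.ext e, map_inv]
            exact inv_mem (Subgroup.mem_zpowers _)
        have hle' : P0.map (MulAut.conj (π p)).toMonoidHom ≤ P0 := by
          rw [Subgroup.map_le_iff_le_comap, Subgroup.zpowers_le]; exact h2
        refine Subgroup.mem_normalizer_iff.mpr fun a => ⟨fun ha => hle' ⟨a, ha, rfl⟩, fun ha => ?_⟩
        rw [← Subgroup.eq_of_le_of_card_ge hle'
          (le_of_eq (Subgroup.card_map_of_injective (MulAut.conj (π p)).injective).symm)] at ha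
        obtain ⟨b, hb, hba⟩ := ha
        rwa [show a = b from (MulAut.conj (π p)).injective hba.symm]
    have h1 := card_sylow_modEq_one 3 (C ⧸ Z)
    rw [P.card_eq_index_normalizer] at h1
    change (Subgroup.normalizer ((P : Subgroup (C ⧸ Z)) : Set (C ⧸ Z))).index ≡ 1 [MOD 3] at h1
    rw [hNeq] at h1
    exact h1
  have hk5 : 5 ∣ N.index := by
    have hm : F.φ qt ∈ C := Subgroup.mem_centralizer_singleton_iff.mpr (by rw [← map_mul, cent_r_facts.2.1, map_mul])
    have h5 := Subgroup.orderOf_dvd_natCard C hm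
    rw [orderOf_injective F.φ F.inj, orderOf_eq_prime qt_facts.2.1 qt_facts.2.2.1, hC2, hcard] at h5
    rcases (Nat.Prime.dvd_mul (by norm_num)).mp h5 with h | h
    · norm_num at h
    · rcases (Nat.Prime.dvd_mul (by norm_num)).mp h with h' | h'
      · norm_num at h'
      · exact h'
  rw [hcard] at heq
  push_cast at heq
  have heq' : 18 * (f * (f + 1)) = (N.index : ℤ) * (f - a) ^ 2 := by linarith
  have hk0 : (0 : ℤ) < N.index := by have := Subgroup.index_ne_zero_of_finite (H := N); positivity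
  have h3 : (3 : ℤ) ∣ f - a := by
    have h9 : (3 : ℤ) ∣ (N.index : ℤ) * (f - a) ^ 2 := ⟨6 * (f * (f + 1)), by linarith⟩
    rcases Int.prime_three.dvd_mul.mp h9 with h | h
    · exfalso
      have : 3 ∣ N.index := by exact_mod_cast h
      omega
    · exact Int.prime_three.dvd_of_dvd_pow h
  obtain ⟨e, he⟩ := h3
  have hfa : f = a + 3 * e := by linarith
  have hke : (N.index : ℤ) * (e * e) = 2 * f * (f + 1) := by
    rw [he] at heq'
    nlinarith
  have ha1 : -3 ≤ a ∧ a ≤ 2 := by constructor <;> nlinarith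
  have he0 : e ≠ 0 := by
    intro h
    rw [h, mul_zero, mul_zero] at hke
    nlinarith
  have hediv : e ∣ 2 * (a * (a + 1)) :=
    ⟨(N.index : ℤ) * e - 6 * (2 * a + 1) - 18 * e, by rw [hfa] at hke; linarith⟩
  have hbound : -24 ≤ e ∧ e ≤ 24 := by
    by_cases ha0 : a * (a + 1) = 0
    · have h6 : e ∣ 6 * (2 * a + 1) := ⟨(N.index : ℤ) - 18, mul_left_cancel₀ he0 (by
        rw [hfa] at hke; linear_combination ha0 * (-2 : ℤ) + hke.symm)⟩
      have h6' : 6 * (2 * a + 1) = 6 ∨ 6 * (2 * a + 1) = -6 := by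
        rcases mul_eq_zero.mp ha0 with h | h
        · left; omega
        · right; omega
      rcases h6' with h | h <;> rw [h] at h6
      · have := Int.le_of_dvd (by norm_num) h6
        have := Int.le_of_dvd (by norm_num) (Int.neg_dvd.mpr h6)
        omega
      · rw [dvd_neg] at h6
        have := Int.le_of_dvd (by norm_num) h6
        have := Int.le_of_dvd (by norm_num) (Int.neg_dvd.mpr h6)
        omega
    · have h1 : |e| ≤ |2 * (a * (a + 1))| :=
        Int.le_of_dvd (abs_pos.mpr (mul_ne_zero two_ne_zero ha0)) ((abs_dvd _ _).mpr ((dvd_abs _ _).mpr hediv))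
      have h2 : |2 * (a * (a + 1))| ≤ 24 := by
        rw [abs_le]; constructor <;> nlinarith
      exact abs_le.mp (h1.trans h2)
  have hev : e % 2 = 0 := by
    rw [he] at hpar
    obtain ⟨m, hm⟩ := hpar
    omega
  have hee : e * e ≠ 0 := mul_ne_zero he0 he0
  have hmain := six_range ⟨(a + 3).toNat, by omega⟩ ⟨(e + 24).toNat, by omega⟩
  have hi1 : (((a + 3).toNat : ℕ) : ℤ) - 3 = a := by omega
  have hi2 : (((e + 24).toNat : ℕ) : ℤ) - 24 = e := by omega
  simp only [hi1, hi2] at hmain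
  rw [← hfa] at hmain
  have hdiv : (2 * f * (f + 1)) / (e * e) = (N.index : ℤ) := by rw [← hke, Int.mul_ediv_cancel _ hee]
  have hk10 := hmain hf1 hev hle (by rw [← hke, Int.mul_emod_left]) (by rw [hdiv]; omega)
  rw [hdiv] at hk10
  rw [hC2, hcard]
  omega

end Twisted

end CfsgLib.SymEightLocal
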