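import Cfsg.Agent.Lib.SymEightLocal.Twist

/-!
Finite checks for the section of order three in `C(r)`.
-/

set_option autoImplicit false
set_option synthInstance.maxSize 4000
-- sequential checks keep the memory use moderate
set_option Elab.async false

namespace CfsgLib.SymEightLocal

open Equiv

/-- Representatives modulo `qe`. -/
def Rep (q : Q35) : Prop := q.2 = 1 ∨ q.2 = t5 ∨ q.2 = s5 ∨ q.2 = t5 * s5

instance : DecidablePred Rep := fun q => inferInstanceAs (Decidable (q.2 = 1 ∨ _))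

theorem qe_rep : ∀ q : Q35, q * qe = qe * q → (Rep q ↔ ¬ Rep (q * qe)) := by decide +kernel

theorem qe_pow_four : ∀ q : Q35, q * qe = qe * q → q.2 ^ 4 = 1 := by decide +kernel

theorem qe_card : Fintype.card {q : Q35 // q * qe = qe * q ∧ Rep q} = 24 := by decide +kernel

theorem qe_card_three :
    Fintype.card {q : Q35 // (q * qe = qe * q ∧ Rep q) ∧ (q.1 = c3 ∨ q.1 = c3⁻¹)} = 8 := by decide +kernel

theorem qe_normal : ∀ q : Q35, q * qe = qe * q → (q * qz * q⁻¹ = qz ∨ q * qz * q⁻¹ = qz⁻¹) := by decide +kernel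

theorem qe_coset : ∀ q : Q35, q * qe = qe * q → q.1 * c3 * q.1⁻¹ = c3⁻¹ → q * q = 1 →
    (q.2 = t5 ∨ q.2 = u5) ∨ (∃ h : Q35, h * qr * h⁻¹ = q) ∨ ∃ h : Q35, h * qc * h⁻¹ = q := by decide +kernel

theorem odd_count : Fintype.card {p : Perm (Fin 3) × Perm (Fin 3) //
    p.1 * c3 * p.1⁻¹ = c3⁻¹ ∧ p.2 * c3 * p.2⁻¹ = c3⁻¹ ∧ p.1 ≠ p.2} = 6 := by decide +kernel

theorem odd_prod : ∀ a b : Perm (Fin 3), a * c3 * a⁻¹ = c3⁻¹ → b * c3 * b⁻¹ = c3⁻¹ →
    (a * b = c3 ∨ a * b = c3⁻¹ ↔ a ≠ b) := by decide +kernel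

theorem odd_conj : ∀ a : Perm (Fin 3), a * c3 * a⁻¹ = c3⁻¹ → a * a = 1 ∧ ∃ h, h * t3 * h⁻¹ = a ∧ h * c3 = c3 * h := by
  decide +kernel

theorem three_val : ∀ a : Perm (Fin 3),
    2 + ((Perm.sign a : ℤˣ) : ℤ) - (Fintype.card {i // a i = i} : ℤ) = if a = c3 ∨ a = c3⁻¹ then 3 else 0 := by
  decide +kernel

theorem cent_u_rep_card : Fintype.card {q : Q35 // InN q ∧ q.1 = 1} = 12 := by decide +kernel

theorem cent_r_rep : ∀ q : Q35, InN q → q * qr = qr * q → q.1 = 1 ∨ (q * qr).1 = 1 := by decide +kernel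

theorem cent_r_facts : (∀ q : Q35, InN q → q * qr * q⁻¹ ≠ qe) ∧ qt * qr = qr * qt ∧ qs * qe = qe * qs ∧
    qs * qr = qr * qs ∧ qu * qe = qe * qu ∧ (qr * qu) * qe = qe * (qr * qu) ∧ qz * qe = qe * qz ∧
    (qr * qu).1 = t3 ∧ (qr * qu).2 = u5 ∧ u5 = t5 * e5 ∧ qe = (1, e5) ∧ qs * qs = 1 ∧ qz'.2 = c5 := by decide +kernel

/-- The arithmetic of the exceptional character. -/
theorem six_range : ∀ i : Fin 6, ∀ j : Fin 49,
    let a : ℤ := (i : ℤ) - 3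
    let e : ℤ := (j : ℤ) - 24
    let f : ℤ := a + 3 * e
    1 ≤ f → e % 2 = 0 → 1 + a ^ 2 + (1 + a) ^ 2 ≤ 24 → (2 * f * (f + 1)) % (e * e) = 0 →
      (2 * f * (f + 1)) / (e * e) % 15 = 10 → (2 * f * (f + 1)) / (e * e) = 10 := by decide +kernel

end CfsgLib.SymEightLocal
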