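import Cfsg.Agent.Lib.SymEightLocal.Model

/-!
The three-local configuration of `S₈` and of `(A₅ × A₅).4`: coordinates.
-/

set_option autoImplicit false
set_option linter.style.haveILetI false
set_option linter.unusedDecidableInType false

namespace CfsgLib.SymEightLocal

/-- Coordinates for the configuration. -/
structure Frame (G : Type*) [Group G] where
  φ : Q35 →* G
  g : G
  inj : Function.Injective φ
  range_of_conj : ∀ x : G, (x * φ qz * x⁻¹ = φ qz ∨ x * φ qz * x⁻¹ = (φ qz)⁻¹) → ∃ q, φ q = x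
  g_sq : g * g = 1
  g_z : g * φ qz * g⁻¹ = φ qz'
  g_u : g * φ qu * g⁻¹ = φ qu
  g_r : g * φ qr * g⁻¹ = φ qr' ∨ g * φ qr * g⁻¹ = φ (qr' * qu)
  cent_d : ∀ x : G, x * φ qd = φ qd * x → ∃ q, InC q ∧ (x = φ q ∨ x = g * φ q)
  three : ¬ 27 ∣ Nat.card G

theorem exists_frame {G : Type*} [Group G] [Finite G]
    (P : Sylow 3 G) (D : Subgroup G) (hDP : D = P) (y z : G) (hgen : Subgroup.closure {y, z} = D)
    (hcomm : IsMulCommutative D) (hcard : Nat.card D = 9) (hexp : ∀ a ∈ D, a ^ 3 = 1)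
    (hC : Nat.card (Subgroup.centralizer (D : Set G)) = 18)
    [hcn : ((Subgroup.centralizer (D : Set G)).subgroupOf (Subgroup.normalizer (D : Set G))).Normal]
    (eNC : Subgroup.normalizer (D : Set G) ⧸ (Subgroup.centralizer (D : Set G)).subgroupOf (Subgroup.normalizer (D : Set G)) ≃* DihedralGroup 4)
    (hycard : Nat.card (Subgroup.centralizer ({y} : Set G)) = 36)
    (hysq : ∀ g ∈ Subgroup.centralizer ({y} : Set G), g ^ 2 ∈ D)
    (eL : Subgroup.normalizer (Subgroup.zpowers z : Set G) ≃* Equiv.Perm (Fin 3) × Equiv.Perm (Fin 5)) :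
    ∃ F : Frame G, D = D0.map F.φ := by
  classical
  haveI : Fact (Nat.Prime 3) := ⟨Nat.prime_three⟩
  have hzD : z ∈ D := hgen ▸ Subgroup.subset_closure (Or.inr rfl)
  have hyD : y ∈ D := hgen ▸ Subgroup.subset_closure (Or.inl rfl)
  have hDc : ∀ a ∈ D, ∀ b ∈ D, a * b = b * a := fun a ha b hb =>
    congrArg Subtype.val (hcomm.is_comm.comm (⟨a, ha⟩ : D) ⟨b, hb⟩)
  have hz3 := hexp z hzD
  have hy3 := hexp y hyD
  have hyz : y ∉ Subgroup.zpowers z := by
    intro h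
    have hle : D ≤ Subgroup.zpowers z := by
      rw [← hgen, Subgroup.closure_le]
      rintro a (rfl | rfl)
      · exact h
      · exact Subgroup.mem_zpowers a
    have h1 := Subgroup.card_le_of_le hle
    rw [Nat.card_zpowers, hcard] at h1
    have := Nat.le_of_dvd (by norm_num) (orderOf_dvd_of_pow_eq_one hz3)
    omega
  have hz1 : z ≠ 1 := by
    intro h
    have hle : D ≤ Subgroup.zpowers y := by
      rw [← hgen, Subgroup.closure_le]
      rintro a (rfl | rfl)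
      · exact Subgroup.mem_zpowers a
      · rw [SetLike.mem_coe, h]; exact one_mem _
    have h1 := Subgroup.card_le_of_le hle
    rw [Nat.card_zpowers, hcard] at h1
    have := Nat.le_of_dvd (by norm_num) (orderOf_dvd_of_pow_eq_one hy3)
    omega
  -- the embedding of the model
  have hNz : ∀ x : G, x ∈ Subgroup.normalizer (Subgroup.zpowers z : Set G) ↔
      (x * z * x⁻¹ = z ∨ x * z * x⁻¹ = z⁻¹) := by
    intro x
    have hpow : ∀ a ∈ Subgroup.zpowers z, a = 1 ∨ a = z ∨ a = z⁻¹ := by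
      intro a ha
      obtain ⟨k, rfl⟩ := Subgroup.mem_zpowers_iff.mp ha
      have : z ^ (3 : ℤ) = 1 := by rw [show (3 : ℤ) = ((3 : ℕ) : ℤ) from rfl, zpow_natCast, hz3]
      rw [← Int.emod_add_ediv_mul k 3, zpow_add, mul_comm (k / 3) 3, zpow_mul, this, one_zpow, mul_one]
      have h0 := Int.emod_nonneg k (show (3 : ℤ) ≠ 0 by norm_num)
      have h1 := Int.emod_lt_of_pos k (show (0 : ℤ) < 3 by norm_num)
      interval_cases h : k % 3
      · exact Or.inl (zpow_zero z)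
      · exact Or.inr (Or.inl (zpow_one z))
      · refine Or.inr (Or.inr (eq_inv_of_mul_eq_one_right ?_))
        rw [← zpow_one_add, show (1 : ℤ) + 2 = 3 from rfl, this]
    constructor
    · intro hx
      rcases hpow _ ((Subgroup.mem_normalizer_iff.mp hx z).mp (Subgroup.mem_zpowers z)) with h | h | h
      · exact absurd (conj_eq_one_iff.mp h) hz1
      · exact Or.inl h
      · exact Or.inr h
    · intro hx
      have hfix : ∀ a, a ∈ Subgroup.zpowers z → x * a * x⁻¹ ∈ Subgroup.zpowers z := by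
        intro a ha
        obtain ⟨k, rfl⟩ := Subgroup.mem_zpowers_iff.mp ha
        rw [← conj_zpow]
        rcases hx with h | h <;> rw [h]
        · exact zpow_mem (Subgroup.mem_zpowers z) k
        · exact zpow_mem (inv_mem (Subgroup.mem_zpowers z)) k
      have hle : (Subgroup.zpowers z).map (MulAut.conj x).toMonoidHom ≤ Subgroup.zpowers z := by
        rintro _ ⟨a, ha, rfl⟩; exact hfix a ha
      refine Subgroup.mem_normalizer_iff.mpr fun a => ⟨hfix a, fun ha => ?_⟩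
      rw [← Subgroup.eq_of_le_of_card_ge hle (ge_of_eq (Nat.card_congr
        ((Subgroup.zpowers z).equivMapOfInjective _ (MulAut.conj x).injective).toEquiv).symm)] at ha
      obtain ⟨b, hb, hba⟩ := ha
      rwa [show a = b from (MulAut.conj x).injective hba.symm]
  let N := Subgroup.normalizer (Subgroup.zpowers z : Set G)
  let ψ0 : Q35 →* G := N.subtype.comp eL.symm.toMonoidHom
  have hψ0 : Function.Injective ψ0 := N.subtype_injective.comp eL.symm.injective
  have hψ0r : ∀ x, x ∈ N ↔ ∃ q, ψ0 q = x := fun x =>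
    ⟨fun hx => ⟨eL ⟨x, hx⟩, by simp [ψ0]⟩, by rintro ⟨q, rfl⟩; exact (eL.symm q).2⟩
  obtain ⟨zq, hzq⟩ := (hψ0r z).mp ((hNz z).mpr (Or.inl (by group)))
  have hzq3 : zq ^ 3 = 1 := hψ0 (by rw [map_pow, hzq, hz3, map_one])
  have hzq1 : zq ≠ 1 := fun h => hz1 (by rw [← hzq, h, map_one])
  have hzn : ∀ q : Q35, q * zq * q⁻¹ = zq ∨ q * zq * q⁻¹ = zq⁻¹ := by
    intro q
    rcases (hNz _).mp ((hψ0r _).mpr ⟨q, rfl⟩) with h | h
    · exact Or.inl (hψ0 (by rw [map_mul, map_mul, map_inv, hzq, h]))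
    · exact Or.inr (hψ0 (by rw [map_mul, map_mul, map_inv, map_inv, hzq, h]))
  obtain ⟨φ1, hφ1, hφ1r, hφ1z⟩ : ∃ φ1 : Q35 →* G, Function.Injective φ1 ∧
      (∀ x, x ∈ N ↔ ∃ q, φ1 q = x) ∧ φ1 qz = z := by
    rcases normal_three zq hzq3 hzq1 (hzn _) (hzn _) with h | h
    · exact ⟨ψ0, hψ0, hψ0r, by rw [← h, hzq]⟩
    · refine ⟨ψ0.comp (MulAut.conj qr).toMonoidHom, hψ0.comp (MulAut.conj qr).injective, fun x => ?_, ?_⟩
      · rw [hψ0r]
        exact ⟨fun ⟨q, hq⟩ => ⟨(MulAut.conj qr).symm q, by simpa [mul_assoc] using hq⟩,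
          fun ⟨q, hq⟩ => ⟨_, hq⟩⟩
      · show ψ0 (qr * qz * qr⁻¹) = z
        rw [qr_facts.1, ← h, hzq]
  -- adjust the second coordinate
  have hDN : ∀ a ∈ D, ∃ q, φ1 q = a ∧ q * qz = qz * q ∧ q ^ 3 = 1 := by
    intro a ha
    obtain ⟨q, hq⟩ := (hφ1r a).mp ((hNz a).mpr (Or.inl (by rw [hDc a ha z hzD]; group)))
    exact ⟨q, hq, hφ1 (by rw [map_mul, map_mul, hq, hφ1z, hDc a ha z hzD]),
      hφ1 (by rw [map_pow, hq, hexp a ha, map_one])⟩
  obtain ⟨qy, hqy, hqyc, hqy3⟩ := hDN y hyD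
  have hqy2 : qy.2 ≠ 1 := by
    intro h
    apply hyz
    have h2 : qy = 1 ∨ qy = qz ∨ qy = qz⁻¹ := by
      rcases cent_qz_cube qy hqyc hqy3 with h1 | h1 | h1
      · exact Or.inl (Prod.ext h1 h)
      · exact Or.inr (Or.inl (Prod.ext h1 h))
      · exact Or.inr (Or.inr (Prod.ext h1 (h.trans (by simp [qz]))))
    rw [← hqy]
    rcases h2 with rfl | rfl | rfl
    · rw [map_one]; exact one_mem _
    · rw [hφ1z]; exact Subgroup.mem_zpowers z
    · rw [map_inv, hφ1z]; exact inv_mem (Subgroup.mem_zpowers z)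
  obtain ⟨h, hh⟩ := conj_c5 qy.2 (congrArg Prod.snd hqy3) hqy2
  let φ : Q35 →* G := φ1.comp (MulAut.conj ((1, h) : Q35)⁻¹).toMonoidHom
  have hinj : Function.Injective φ := hφ1.comp (MulAut.conj ((1, h) : Q35)⁻¹).injective
  have hφapp : ∀ q, φ ((1, h) * q * (1, h)⁻¹) = φ1 q := fun q => by
    show φ1 (((1, h) : Q35)⁻¹ * ((1, h) * q * (1, h)⁻¹) * (((1, h) : Q35)⁻¹)⁻¹) = φ1 q
    congr 1
    group
  have hφr : ∀ x, x ∈ N ↔ ∃ q, φ q = x := fun x => by
    rw [hφ1r]
    exact ⟨fun ⟨q, hq⟩ => ⟨(1, h) * q * (1, h)⁻¹, (hφapp q).trans hq⟩, fun ⟨q, hq⟩ => ⟨_, hq⟩⟩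
  have hφz : φ qz = z := by
    rw [← hφ1z]
    show φ1 ((1, h)⁻¹ * qz * ((1, h)⁻¹)⁻¹) = φ1 qz
    congr 1
    exact Prod.ext (by simp [qz]) (by simp [qz])
  have hqyD : InD ((1, h) * qy * (1, h)⁻¹) := by
    refine ⟨?_, Or.inr (Or.inl hh)⟩
    show (1 : Equiv.Perm (Fin 3)) * qy.1 * 1⁻¹ = 1 ∨ _
    simpa using cent_qz_cube qy hqyc hqy3
  have hDle : ∀ a ∈ D, ∃ q, InD q ∧ φ q = a := by
    have hle : D ≤ D0.map φ := by
      rw [← hgen, Subgroup.closure_le]
      rintro a (rfl | rfl)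
      · exact ⟨_, hqyD, (hφapp qy).trans hqy⟩
      · exact ⟨qz, qd_facts.1, hφz⟩
    exact fun a ha => hle ha
  have hD : D = D0.map φ := by
    refine Subgroup.eq_of_le_of_card_ge (fun a ha => hDle a ha) ?_
    rw [hcard, Subgroup.card_map_of_injective hinj]
    exact le_of_eq ((Nat.card_congr (Equiv.subtypeEquivRight fun q => mem_D0)).trans
      ((Nat.card_eq_fintype_card).trans inD_count))
  have hmemD : ∀ q, φ q ∈ D ↔ InD q := fun q => by
    rw [hD]
    exact ⟨fun ⟨q', hq', e⟩ => hinj e ▸ hq', fun hq => ⟨q, hq, rfl⟩⟩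
  have hCD : ∀ x, x * z = z * x → x * φ qz' = φ qz' * x → ∃ q, InC q ∧ φ q = x := by
    intro x h1 h2
    obtain ⟨q, hq⟩ := (hφr x).mp ((hNz x).mpr (Or.inl (by rw [h1]; group)))
    exact ⟨q, ⟨hinj (by rw [map_mul, map_mul, hq, hφz, h1]),
      hinj (by rw [map_mul, map_mul, hq, h2])⟩, hq⟩
  -- the normalizer of `D`
  let ND := Subgroup.normalizer (D : Set G)
  have hND : Nat.card ND = 144 := by
    rw [← Subgroup.card_mul_index ((Subgroup.centralizer (D : Set G)).subgroupOf ND),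
      Nat.card_congr (Subgroup.subgroupOfEquivOfLe (Subgroup.centralizer_le_normalizer (D : Set G))).toEquiv,
      hC, Subgroup.index, Nat.card_congr eNC.toEquiv, DihedralGroup.nat_card]
  have hInN : ∀ q, φ q ∈ ND ↔ InN q := by
    intro q
    constructor
    · intro hq
      refine inN_of_conj q ((hmemD _).mp ?_)
      rw [map_mul, map_mul, map_inv]
      exact (Subgroup.mem_normalizer_iff.mp hq _).mp ((hmemD _).mpr qd_facts.2.1)
    · intro hq
      have hle : D.map (MulAut.conj (φ q)).toMonoidHom ≤ D := by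
        rw [Subgroup.map_le_iff_le_comap, ← hgen, Subgroup.closure_le]
        intro a ha
        have haD : a ∈ D := hgen ▸ Subgroup.subset_closure ha
        obtain ⟨q', hq', rfl⟩ := hDle a haD
        rw [hgen]
        show φ q * φ q' * (φ q)⁻¹ ∈ D
        rw [← map_inv, ← map_mul, ← map_mul, hmemD]
        obtain ⟨hA, hB⟩ := inN_conj_inD q hq
        have hmem : ∀ d, InD d → d ∈ Subgroup.comap (MulAut.conj q).toMonoidHom D0 := by
          have hgen' : qz ∈ Subgroup.comap (MulAut.conj q).toMonoidHom D0 ∧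
              qz' ∈ Subgroup.comap (MulAut.conj q).toMonoidHom D0 := ⟨hA, hB⟩
          intro d hd
          have hd' : d = (d.1, 1) * (1, d.2) := by simp
          rw [hd']
          refine mul_mem ?_ ?_
          · rcases hd.1 with e | e | e <;> rw [e]
            · exact one_mem _
            · exact hgen'.1
            · exact (show (c3⁻¹, (1 : Equiv.Perm (Fin 5))) = qz⁻¹ by simp [qz]) ▸ inv_mem hgen'.1
          · rcases hd.2 with e | e | e <;> rw [e]
            · exact one_mem _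
            · exact hgen'.2
            · exact (show ((1 : Equiv.Perm (Fin 3)), c5⁻¹) = qz'⁻¹ by simp [qz']) ▸ inv_mem hgen'.2
        exact hmem q' hq'
      refine Subgroup.mem_normalizer_iff.mpr fun a => ⟨fun ha => hle ⟨a, ha, rfl⟩, fun ha => ?_⟩
      rw [← Subgroup.eq_of_le_of_card_ge hle
        (le_of_eq (Subgroup.card_map_of_injective (MulAut.conj (φ q)).injective).symm)] at ha
      obtain ⟨b, hb, hba⟩ := ha
      rwa [show a = b from (MulAut.conj (φ q)).injective hba.symm]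
  let H := N ⊓ ND
  have hH : Nat.card H = 72 := by
    let f : {q : Q35 // InN q} → H := fun q => ⟨φ q, (hφr _).mpr ⟨q, rfl⟩, (hInN _).mpr q.2⟩
    have hf : Function.Bijective f :=
      ⟨fun a b e => Subtype.ext (hinj (congrArg Subtype.val e)), fun ⟨x, hx1, hx2⟩ => by
        obtain ⟨q, hq⟩ := (hφr x).mp hx1
        exact ⟨⟨q, (hInN q).mp (hq ▸ hx2)⟩, Subtype.ext hq⟩⟩
    rw [← Nat.card_congr (Equiv.ofBijective f hf), Nat.card_eq_fintype_card, inN_count]
  have hidx : (H.subgroupOf ND).index = 2 := by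
    have := Subgroup.card_mul_index (H.subgroupOf ND)
    rw [Nat.card_congr (Subgroup.subgroupOfEquivOfLe (inf_le_right : H ≤ ND)).toEquiv, hH, hND] at this
    omega
  have htwo : ∀ a ∈ ND, ∀ b ∈ ND, a ∉ N → b ∉ N → a * b ∈ N := by
    intro a ha b hb h1 h2
    have := (Subgroup.mul_mem_iff_of_index_two hidx (a := ⟨a, ha⟩) (b := ⟨b, hb⟩)).mpr
      (iff_of_false (fun h => h1 h.1) (fun h => h2 h.1))
    exact this.1
  obtain ⟨x0, hx0, hx0N⟩ : ∃ x ∈ ND, x ∉ N := by
    by_contra hall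
    push Not at hall
    have h1 : Nat.card ND ≤ Nat.card H := Subgroup.card_le_of_le fun x hx => ⟨hall x hx, hx⟩
    omega
  have hconjD : ∀ x ∈ ND, ∀ q, InD q → ∃ q', InD q' ∧ x * φ q * x⁻¹ = φ q' := by
    intro x hx q hq
    obtain ⟨q', hq', e⟩ := hDle _ ((Subgroup.mem_normalizer_iff.mp hx _).mp ((hmemD q).mpr hq))
    exact ⟨q', hq', e.symm⟩
  have hqN : ∀ q, InN q → φ q ∈ ND ∧ φ q ∈ N := fun q hq => ⟨(hInN q).mpr hq, (hφr _).mpr ⟨q, rfl⟩⟩
  -- the image of `z`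
  obtain ⟨x1, hx1, hx1N, hx1z⟩ : ∃ x ∈ ND, x ∉ N ∧ x * φ qz * x⁻¹ = φ qz' := by
    obtain ⟨q, hq, hqe⟩ := hconjD x0 hx0 qz qd_facts.1
    have hnz : ¬ (q = qz ∨ q = qz⁻¹) := by
      intro h'
      refine hx0N ((hNz x0).mpr ?_)
      rw [← hφz, hqe]
      rcases h' with rfl | rfl
      · exact Or.inl rfl
      · exact Or.inr (map_inv φ qz)
    have hq1 : q ≠ 1 := by
      intro h'
      rw [h', map_one, conj_eq_one_iff, hφz] at hqe
      exact hz1 hqe
    have hnd : ¬ (q.1 ≠ 1 ∧ q.2 ≠ 1) := by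
      rintro ⟨ha, hb⟩
      obtain ⟨hrN, hrz⟩ := hqN qr gens_InN.1
      have h1 : φ qr * x0 ∉ N := fun h' => hx0N (by simpa using mul_mem (inv_mem hrz) h')
      have h2 := htwo _ (inv_mem hx0) _ (mul_mem hrN hx0) (fun h' => hx0N (by simpa using inv_mem h')) h1
      obtain ⟨hm1, hm2⟩ := diag_moved q hq ha hb
      rw [hNz, ← hφz] at h2
      rcases h2 with e | e
      · refine hm1 (hinj ?_)
        rw [map_mul, map_mul, map_inv, ← hqe]
        calc φ qr * (x0 * φ qz * x0⁻¹) * (φ qr)⁻¹ =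
            x0 * (x0⁻¹ * (φ qr * x0) * φ qz * (x0⁻¹ * (φ qr * x0))⁻¹) * x0⁻¹ := by group
          _ = _ := by rw [e]
      · refine hm2 (hinj ?_)
        rw [map_mul, map_mul, map_inv, map_inv, ← hqe]
        calc φ qr * (x0 * φ qz * x0⁻¹) * (φ qr)⁻¹ =
            x0 * (x0⁻¹ * (φ qr * x0) * φ qz * (x0⁻¹ * (φ qr * x0))⁻¹) * x0⁻¹ := by group
          _ = _ := by rw [e]; group
    have h' : q = qz' ∨ q = qz'⁻¹ := by
      obtain ⟨q1, q2⟩ := q
      simp only [Prod.ext_iff, qz, qz'] at hnz hq1 ⊢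
      by_cases ha : q1 = 1
      · subst ha
        rcases hq.2 with e | e | e
        · exact absurd (Prod.ext rfl e : ((1 : Equiv.Perm (Fin 3)), q2) = 1) (by simpa [Prod.ext_iff] using hq1)
        · exact Or.inl ⟨rfl, e⟩
        · exact Or.inr ⟨by simp, by simpa using e⟩
      · have hb : q2 = 1 := by
          by_contra hb
          exact hnd ⟨ha, hb⟩
        subst hb
        rcases hq.1 with e | e | e
        · exact absurd e ha
        · exact absurd (Or.inl ⟨e, rfl⟩) hnz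
        · exact absurd (Or.inr ⟨by simpa using e, by simp⟩) hnz
    rcases h' with rfl | rfl
    · exact ⟨x0, hx0, hx0N, hqe⟩
    · obtain ⟨hrN, hrz⟩ := hqN qr' gens_InN.2.1
      refine ⟨φ qr' * x0, mul_mem hrN hx0, fun h' => hx0N (by simpa using mul_mem (inv_mem hrz) h'), ?_⟩
      calc φ qr' * x0 * φ qz * (φ qr' * x0)⁻¹ = φ qr' * (x0 * φ qz * x0⁻¹) * (φ qr')⁻¹ := by group
        _ = φ (qr' * qz'⁻¹ * qr'⁻¹) := by rw [hqe, map_mul, map_mul, map_inv φ qr']
        _ = φ qz' := by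
          congr 1
          calc qr' * qz'⁻¹ * qr'⁻¹ = (qr' * qz' * qr'⁻¹)⁻¹ := by group
            _ = qz' := by rw [qr_facts.2.2.1, inv_inv]
  obtain ⟨x2, hx2, hx2N, hx2z, hx2z'⟩ : ∃ x ∈ ND, x ∉ N ∧ x * φ qz * x⁻¹ = φ qz' ∧
      x * φ qz' * x⁻¹ = φ qz := by
    have h2 := htwo x1 hx1 x1 hx1 hx1N hx1N
    rw [hNz, ← hφz] at h2
    rcases h2 with e | e
    · refine ⟨x1, hx1, hx1N, hx1z, ?_⟩
      rw [← hx1z]
      exact (show x1 * (x1 * φ qz * x1⁻¹) * x1⁻¹ = x1 * x1 * φ qz * (x1 * x1)⁻¹ by group).trans e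
    · obtain ⟨hrN, hrz⟩ := hqN qr gens_InN.1
      refine ⟨φ qr * x1, mul_mem hrN hx1, fun h' => hx1N (by simpa using mul_mem (inv_mem hrz) h'), ?_, ?_⟩
      · calc φ qr * x1 * φ qz * (φ qr * x1)⁻¹ = φ qr * (x1 * φ qz * x1⁻¹) * (φ qr)⁻¹ := by group
          _ = φ (qr * qz' * qr⁻¹) := by rw [hx1z, map_mul, map_mul, map_inv]
          _ = φ qz' := by rw [qr_facts.2.1]
      · have e' : x1 * φ qz' * x1⁻¹ = (φ qz)⁻¹ := by
          rw [← hx1z]
          exact (show x1 * (x1 * φ qz * x1⁻¹) * x1⁻¹ = x1 * x1 * φ qz * (x1 * x1)⁻¹ by group).trans e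
        calc φ qr * x1 * φ qz' * (φ qr * x1)⁻¹ = φ qr * (x1 * φ qz' * x1⁻¹) * (φ qr)⁻¹ := by group
          _ = φ (qr * qz * qr⁻¹)⁻¹ := by rw [e', map_inv, map_mul, map_mul, map_inv]; group
          _ = φ qz := by rw [qr_facts.1, inv_inv]
  -- transport of commuting and inverting
  have hcj : ∀ {x a b a' b' : G}, x * a * x⁻¹ = a' → x * b * x⁻¹ = b' → a * b = b * a → a' * b' = b' * a' := by
    intro x a b a' b' ha hb hab
    rw [← ha, ← hb, show x * a * x⁻¹ * (x * b * x⁻¹) = x * (a * b) * x⁻¹ by group, hab]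
    group
  have hφc : ∀ {a b : Q35}, a * b = b * a → φ a * φ b = φ b * φ a := fun h => by
    rw [← map_mul, h, map_mul]
  have hrange : ∀ x, x * φ qz = φ qz * x → ∃ q, φ q = x ∧ q * qz = qz * q := by
    intro x hx
    obtain ⟨q, hq⟩ := (hφr x).mp ((hNz x).mpr (Or.inl (by rw [← hφz, hx]; group)))
    exact ⟨q, hq, hinj (by rw [map_mul, map_mul, hq, hx])⟩
  have hx2u : x2 * φ qu * x2⁻¹ = φ qu := by
    obtain ⟨q, hqC, hq⟩ := hCD (x2 * φ qu * x2⁻¹)
      (by rw [← hφz]; exact hcj rfl hx2z' (hφc qr_facts.2.2.2.2.2.2.2.2.2.1))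
      (hcj rfl hx2z (hφc qr_facts.2.2.2.2.2.2.2.2.1))
    have h2 : q * q = 1 := hinj (by
      rw [map_mul, hq, map_one, show x2 * φ qu * x2⁻¹ * (x2 * φ qu * x2⁻¹) = x2 * (φ qu * φ qu) * x2⁻¹ by group,
        ← map_mul, qr_facts.2.2.2.2.2.2.2.2.2.2.2.2, map_one]
      group)
    rcases inN_inC_unique q hqC h2 with e | e
    · rw [e, map_one] at hq
      exact absurd (hinj ((conj_eq_one_iff.mp hq.symm).trans (map_one φ).symm)) qd_facts.2.2.2.2.2
    · rw [← hq, e]
  obtain ⟨x3, hx3, hx3N, hx3z, hx3z', hx3u, hx3r⟩ : ∃ x ∈ ND, x ∉ N ∧ x * φ qz * x⁻¹ = φ qz' ∧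
      x * φ qz' * x⁻¹ = φ qz ∧ x * φ qu * x⁻¹ = φ qu ∧
      (x * φ qr * x⁻¹ = φ qr' ∨ x * φ qr * x⁻¹ = φ (qr' * qu)) := by
    obtain ⟨q, hq, hqz⟩ := hrange (x2 * φ qr * x2⁻¹)
      (hcj rfl hx2z' (hφc (by
        have := qr_facts.2.1
        rwa [mul_inv_eq_iff_eq_mul] at this)))
    obtain ⟨d, hdD, hd1, hd⟩ := gr_options q hqz (hinj (by
        rw [map_mul, map_mul, map_inv, map_inv, hq, ← hx2z]
        calc x2 * φ qr * x2⁻¹ * (x2 * φ qz * x2⁻¹) * (x2 * φ qr * x2⁻¹)⁻¹ =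
            x2 * (φ qr * φ qz * (φ qr)⁻¹) * x2⁻¹ := by group
          _ = (x2 * φ qz * x2⁻¹)⁻¹ := by rw [← map_inv, ← map_mul, ← map_mul, qr_facts.1, map_inv]; group))
      (hinj (by rw [map_mul, map_mul, hq]; exact hcj rfl hx2u (hφc qr_facts.2.2.2.2.2.2.1)))
      (hinj (by
        rw [map_mul, hq, map_one, show x2 * φ qr * x2⁻¹ * (x2 * φ qr * x2⁻¹) = x2 * (φ qr * φ qr) * x2⁻¹ by group,
          ← map_mul, qr_facts.2.2.2.2.2.2.2.2.2.2.1, map_one]
        group))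
    obtain ⟨c1, c2, c3', c4⟩ := fst_one_comm d hdD hd1
    have hdN : φ d ∈ ND := Subgroup.le_normalizer ((hmemD d).mpr hdD)
    have hdz : φ d ∈ N := (hφr _).mpr ⟨d, rfl⟩
    have key : ∀ a b, x2 * φ a * x2⁻¹ = φ b → φ d * x2 * φ a * (φ d * x2)⁻¹ = φ (d * b * d⁻¹) := by
      intro a b e
      rw [map_mul, map_mul, map_inv, ← e]; group
    refine ⟨φ d * x2, mul_mem hdN hx2, fun h' => hx2N (by simpa using mul_mem (inv_mem hdz) h'), ?_, ?_, ?_, ?_⟩
    · rw [key _ _ hx2z, c2, mul_inv_cancel_right]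
    · rw [key _ _ hx2z', c1, mul_inv_cancel_right]
    · rw [key _ _ hx2u, c3', mul_inv_cancel_right]
    · rcases hd with e | e
      · exact Or.inl (by rw [key _ _ hq.symm, e])
      · exact Or.inr (by rw [key _ _ hq.symm, e])
  obtain ⟨x, hx, hxN, hxz, hxz', hxu, hxr, hxr'⟩ : ∃ x ∈ ND, x ∉ N ∧ x * φ qz * x⁻¹ = φ qz' ∧
      x * φ qz' * x⁻¹ = φ qz ∧ x * φ qu * x⁻¹ = φ qu ∧
      (x * φ qr * x⁻¹ = φ qr' ∨ x * φ qr * x⁻¹ = φ (qr' * qu)) ∧
      (x * φ qr' * x⁻¹ = φ qr ∨ x * φ qr' * x⁻¹ = φ (qr * qu)) := by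
    have hc : φ qr' * φ qz = φ qz * φ qr' := hφc (mul_inv_eq_iff_eq_mul.mp qr_facts.2.2.2.1)
    obtain ⟨q, hq⟩ := (hφr (x3 * φ qr' * x3⁻¹)).mp ((hNz _).mpr (Or.inr (by
      rw [← hφz, ← hx3z']
      calc x3 * φ qr' * x3⁻¹ * (x3 * φ qz' * x3⁻¹) * (x3 * φ qr' * x3⁻¹)⁻¹ =
          x3 * (φ qr' * φ qz' * (φ qr')⁻¹) * x3⁻¹ := by group
        _ = (x3 * φ qz' * x3⁻¹)⁻¹ := by rw [← map_inv, ← map_mul, ← map_mul, qr_facts.2.2.1, map_inv]; group)))
    obtain ⟨d, hdD, hd2, hd⟩ := gr'_options q (hinj (by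
        rw [map_mul, map_mul, hq]; exact hcj rfl hx3z hc))
      (hinj (by
        rw [map_mul, map_mul, map_inv, map_inv, hq, ← hx3z']
        calc x3 * φ qr' * x3⁻¹ * (x3 * φ qz' * x3⁻¹) * (x3 * φ qr' * x3⁻¹)⁻¹ =
            x3 * (φ qr' * φ qz' * (φ qr')⁻¹) * x3⁻¹ := by group
          _ = (x3 * φ qz' * x3⁻¹)⁻¹ := by rw [← map_inv, ← map_mul, ← map_mul, qr_facts.2.2.1, map_inv]; group))
      (hinj (by rw [map_mul, map_mul, hq]; exact hcj rfl hx3u (hφc qr_facts.2.2.2.2.2.2.2.1)))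
      (hinj (by
        rw [map_mul, hq, map_one, show x3 * φ qr' * x3⁻¹ * (x3 * φ qr' * x3⁻¹) = x3 * (φ qr' * φ qr') * x3⁻¹ by group,
          ← map_mul, qr_facts.2.2.2.2.2.2.2.2.2.2.2.1, map_one]
        group))
    obtain ⟨c1, c2, c3', c4⟩ := snd_one_comm d hdD hd2
    have hdN : φ d ∈ ND := Subgroup.le_normalizer ((hmemD d).mpr hdD)
    have hdz : φ d ∈ N := (hφr _).mpr ⟨d, rfl⟩
    have key : ∀ a b, x3 * φ a * x3⁻¹ = φ b → φ d * x3 * φ a * (φ d * x3)⁻¹ = φ (d * b * d⁻¹) := by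
      intro a b e
      rw [map_mul, map_mul, map_inv, ← e]; group
    have c5' : d * (qr' * qu) = qr' * qu * d := by rw [← mul_assoc, c4, mul_assoc, c3', ← mul_assoc]
    refine ⟨φ d * x3, mul_mem hdN hx3, fun h' => hx3N (by simpa using mul_mem (inv_mem hdz) h'), ?_, ?_, ?_, ?_, ?_⟩
    · rw [key _ _ hx3z, c2, mul_inv_cancel_right]
    · rw [key _ _ hx3z', c1, mul_inv_cancel_right]
    · rw [key _ _ hx3u, c3', mul_inv_cancel_right]
    · rcases hx3r with e | e
      · exact Or.inl (by rw [key _ _ e, c4, mul_inv_cancel_right])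
      · exact Or.inr (by rw [key _ _ e, c5', mul_inv_cancel_right])
    · rcases hd with e | e
      · exact Or.inl (by rw [key _ _ hq.symm, e])
      · exact Or.inr (by rw [key _ _ hq.symm, e])
  -- the element of the centralizer of the diagonal
  have hycases : ∃ k : Q35, InN k ∧ y = φ (k * qd * k⁻¹) := by
    obtain ⟨q, hq, hqe⟩ := hDle y hyD
    have hyne : ∀ a, q = a → φ a ∈ Subgroup.zpowers z → False := fun a e ha => hyz (by rwa [← hqe, e])
    have hcz' : ∀ a : G, (∃ t, t * φ qz * t⁻¹ = a ∨ t * φ qz * t⁻¹ = a⁻¹) →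
        Nat.card (Subgroup.centralizer ({a} : Set G)) ≠ 36 := by
      rintro a ⟨t, ht⟩ h36
      let f : {p : Q35 // p * qz = qz * p} → Subgroup.centralizer ({a} : Set G) := fun p =>
        ⟨t * φ p * t⁻¹, Subgroup.mem_centralizer_singleton_iff.mpr (by
          rcases ht with e | e
          · exact hcj rfl e (hφc p.2)
          · have := hcj (x := t) rfl e (hφc p.2)
            calc t * φ p * t⁻¹ * a = a * (a⁻¹ * (t * φ p * t⁻¹)) * a := by group
              _ = a * ((t * φ p * t⁻¹) * a⁻¹) * a := by rw [this]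
              _ = _ := by group)⟩
      have hf : Function.Injective f := fun p p' e => Subtype.ext (hinj (by
        have := congrArg Subtype.val e
        exact mul_left_cancel (mul_right_cancel (b := t⁻¹) this)))
      have := Nat.card_le_card_of_injective f hf
      rw [h36, Nat.card_eq_fintype_card, cent_qz_count] at this
      omega
    rcases inD_cases q hq with e | e | e | e | e | e | e | e | e
    · exact (hyne _ e (by rw [map_one]; exact one_mem _)).elim
    · exact (hyne _ e (by rw [hφz]; exact Subgroup.mem_zpowers z)).elim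
    · exact (hyne _ e (by rw [map_inv, hφz]; exact inv_mem (Subgroup.mem_zpowers z))).elim
    · exact absurd hycard (hcz' y ⟨x, Or.inl (by rw [← hqe, e, hxz])⟩)
    · exact absurd hycard (hcz' y ⟨x, Or.inr (by rw [← hqe, e, map_inv, inv_inv, hxz])⟩)
    · exact ⟨1, inN_inv_inC 1 (by decide +kernel), by rw [← hqe, e]; simp⟩
    · exact ⟨qr, gens_InN.1, by rw [← hqe, e]⟩
    · exact ⟨qr', gens_InN.2.1, by rw [← hqe, e]⟩
    · exact ⟨qr * qr', gens_InN.2.2.2, by rw [← hqe, e]⟩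
  obtain ⟨k, hk, hky⟩ := hycases
  have hkN := (hInN k).mpr hk
  have hiff : ∀ a, a * φ qd = φ qd * a ↔ φ k * a * (φ k)⁻¹ ∈ Subgroup.centralizer ({y} : Set G) := by
    intro a
    rw [Subgroup.mem_centralizer_singleton_iff, hky, map_mul, map_mul, map_inv]
    constructor
    · intro e
      rw [show φ k * a * (φ k)⁻¹ * (φ k * φ qd * (φ k)⁻¹) = φ k * (a * φ qd) * (φ k)⁻¹ by group, e]
      group
    · intro e
      have := congrArg (fun w => (φ k)⁻¹ * w * φ k) e
      simpa [mul_assoc] using this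
  have hxd : x * φ qd = φ qd * x := by
    have : x * φ qd * x⁻¹ = φ qd := by
      rw [← qr_facts.2.2.2.2.1, map_mul]
      calc x * (φ qz * φ qz') * x⁻¹ = x * φ qz * x⁻¹ * (x * φ qz' * x⁻¹) := by group
        _ = _ := by rw [hxz, hxz', ← map_mul, ← map_mul, qr_facts.2.2.2.2.1, qr_facts.2.2.2.2.2.1]
    rwa [mul_inv_eq_iff_eq_mul] at this
  have hxx : x * x = 1 := by
    have hsq : ∀ a b, x * φ a * x⁻¹ = φ b → x * x * φ a * (x * x)⁻¹ = x * φ b * x⁻¹ := by
      intro a b e; rw [← e]; group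
    obtain ⟨q, hqC, hq⟩ := hCD (x * x)
      (by rw [← hφz, ← mul_inv_eq_iff_eq_mul, hsq _ _ hxz, hxz'])
      (by rw [← mul_inv_eq_iff_eq_mul, hsq _ _ hxz', hxz])
    have hqconj : ∀ a b, x * x * φ a * (x * x)⁻¹ = φ b → q * a * q⁻¹ = b := fun a b e =>
      hinj (by rw [map_mul, map_mul, map_inv, hq, e])
    have hru : ∀ a, x * φ (a * qu) * x⁻¹ = x * φ a * x⁻¹ * φ qu := by
      intro a; rw [map_mul]
      calc x * (φ a * φ qu) * x⁻¹ = x * φ a * x⁻¹ * (x * φ qu * x⁻¹) := by group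
        _ = _ := by rw [hxu]
    have hfix : q * qr = qr * q ∧ q * qr' = qr' * q := by
      rcases hxr with e1 | e1 <;> rcases hxr' with e2 | e2
      · exact ⟨mul_inv_eq_iff_eq_mul.mp (hqconj _ _ (by rw [hsq _ _ e1, e2])),
          mul_inv_eq_iff_eq_mul.mp (hqconj _ _ (by rw [hsq _ _ e2, e1]))⟩
      · exact absurd (hqconj _ _ (by rw [hsq _ _ e1, e2])) (conjC_qr q hqC)
      · exact absurd (hqconj qr (qr * qu) (by rw [hsq _ _ e1, hru, e2, map_mul])) (conjC_qr q hqC)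
      · exact ⟨mul_inv_eq_iff_eq_mul.mp (hqconj _ _ (by
            rw [hsq _ _ e1, hru, e2, map_mul, mul_assoc, ← map_mul, qr_facts.2.2.2.2.2.2.2.2.2.2.2.2, map_one, mul_one])),
          mul_inv_eq_iff_eq_mul.mp (hqconj _ _ (by
            rw [hsq _ _ e2, hru, e1, map_mul, mul_assoc, ← map_mul, qr_facts.2.2.2.2.2.2.2.2.2.2.2.2, map_one, mul_one]))⟩
    rcases fix_qr_qr' q hqC hfix.1 hfix.2 with e | e
    · rw [← hq, e, map_one]
    · exfalso
      have hm := hysq _ ((hiff x).mp hxd)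
      rw [conj_pow] at hm
      have hm' : x ^ 2 ∈ D := (Subgroup.mem_normalizer_iff.mp hkN _).mpr hm
      rw [pow_two, ← hq, e, hmemD] at hm'
      exact qd_facts.2.2.2.2.1 hm'
  refine ⟨⟨φ, x, hinj, fun a ha => (hφr a).mp ((hNz a).mpr (by rwa [hφz] at ha)), hxx, hxz, hxu, hxr, ?_, ?_⟩, hD⟩
  · intro a ha
    have hcd : Nat.card (Subgroup.centralizer ({φ qd} : Set G)) = 36 := by
      rw [← hycard]
      have : Subgroup.centralizer ({y} : Set G) =
          (Subgroup.centralizer ({φ qd} : Set G)).map (MulAut.conj (φ k)).toMonoidHom := by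
        ext w
        rw [Subgroup.mem_map_equiv, MulAut.conj_symm_apply]
        refine Iff.trans ?_ Subgroup.mem_centralizer_singleton_iff.symm
        rw [hiff]
        simp [mul_assoc]
      rw [this, Subgroup.card_map_of_injective (MulAut.conj (φ k)).injective]
    have hInCd : ∀ q, InC q → φ q * φ qd = φ qd * φ q := by
      intro q hq
      refine hφc ?_
      rw [← qr_facts.2.2.2.2.1, ← mul_assoc, hq.1, mul_assoc, hq.2, ← mul_assoc]
    let f : {q : Q35 // InC q} × Bool → Subgroup.centralizer ({φ qd} : Set G) := fun p =>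
      ⟨(if p.2 then x else 1) * φ p.1, Subgroup.mem_centralizer_singleton_iff.mpr (by
        cases p.2
        · simpa using hInCd _ p.1.2
        · simp only [if_true]
          rw [mul_assoc, hInCd _ p.1.2, ← mul_assoc, hxd, mul_assoc])⟩
    have hf : Function.Injective f := by
      rintro ⟨q, i⟩ ⟨q', i'⟩ e
      have e' : (if i then x else 1) * φ q = (if i' then x else 1) * φ q' := congrArg Subtype.val e
      have hxin : ∀ q q' : Q35, x * φ q = φ q' → False := fun q q' e =>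
        hxN ((hφr x).mpr ⟨q' * q⁻¹, by rw [map_mul, map_inv, ← e, mul_inv_cancel_right]⟩)
      cases i <;> cases i' <;>
        simp only [Bool.false_eq_true, if_false, if_true, one_mul, mul_right_inj] at e'
      · rw [Subtype.ext (hinj e')]
      · exact (hxin _ _ e'.symm).elim
      · exact (hxin _ _ e').elim
      · rw [Subtype.ext (hinj e')]
    have hbij : Function.Bijective f := (Nat.bijective_iff_injective_and_card f).mpr ⟨hf, by
      rw [hcd, Nat.card_prod, Nat.card_eq_fintype_card, inC_count, Nat.card_eq_fintype_card, Fintype.card_bool]⟩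
    obtain ⟨⟨q, i⟩, hqi⟩ := hbij.2 ⟨a, Subgroup.mem_centralizer_singleton_iff.mpr ha⟩
    have e' : (if i then x else 1) * φ q = a := congrArg Subtype.val hqi
    refine ⟨q, q.2, ?_⟩
    cases i
    · exact Or.inl (by simpa using e'.symm)
    · exact Or.inr (by simpa using e'.symm)
  · intro h27
    have hP : Nat.card (P : Subgroup G) = 9 := by rw [← hDP, hcard]
    rw [← Subgroup.card_mul_index (P : Subgroup G), hP, show (27 : ℕ) = 9 * 3 by norm_num] at h27
    exact P.not_dvd_index (Nat.dvd_of_mul_dvd_mul_left (by norm_num) h27)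

end CfsgLib.SymEightLocal
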