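import Cfsg.Agent.Lib.InvolChar.LargeExtraTransfer
import Mathlib

/-!
The sign of an involution on the cosets of an index two subgroup of its centralizer.

If `u` is an involution, `H = C(u)`, `lam : H → {±1}`, and an odd number of conjugates of `u`
in `H` have value `-1`, then `u` acts as an odd permutation on the cosets of the kernel of `lam`.
-/

set_option autoImplicit false
set_option linter.style.haveILetI false

namespace CfsgLib.SymEightLocal

open scoped Classical in
theorem exists_hom_neg {G : Type*} [Group G] [Finite G] {u : G} (hu : u * u = 1) (H : Subgroup G)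
    (hH : H = Subgroup.centralizer ({u} : Set G)) (lam : ↥H →* ℤˣ)
    (hodd : Odd (Nat.card {x : ↥H // IsConj u (x : G) ∧ lam x = -1})) :
    ∃ f : G →* ℤˣ, f u = -1 := by
  haveI := Fintype.ofFinite G
  haveI : Fact (Nat.Prime 2) := ⟨Nat.prime_two⟩
  have huH : u ∈ H := by rw [hH, Subgroup.mem_centralizer_singleton_iff]
  let K : Subgroup G := lam.ker.map H.subtype
  have hKcard : Nat.card H = 2 * Nat.card K := by
    have hs : Function.Surjective lam := by
      obtain ⟨⟨x, -, hx⟩⟩ : Nonempty {x : ↥H // IsConj u (x : G) ∧ lam x = -1} :=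
        (Nat.card_pos_iff.mp hodd.pos).1
      intro y
      rcases Int.units_eq_one_or y with rfl | rfl
      · exact ⟨1, map_one lam⟩
      · exact ⟨x, hx⟩
    rw [Subgroup.card_map_of_injective H.subtype_injective, ← Subgroup.card_mul_index lam.ker,
      Subgroup.index_ker, MonoidHom.range_eq_top.mpr hs, Subgroup.card_top,
      show Nat.card ℤˣ = 2 by simp, mul_comm]
  have hK : ∀ g : G, g ∈ K ↔ ∃ h : g ∈ H, lam ⟨g, h⟩ = 1 := fun g =>
    ⟨fun ⟨x, hx, e⟩ => e ▸ ⟨x.2, hx⟩, fun ⟨h, e⟩ => ⟨⟨g, h⟩, e, rfl⟩⟩
  -- cosets of the centralizer are the conjugates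
  let c : G ⧸ H → {x : G // IsConj u x} := fun q => ⟨q.out * u * q.out⁻¹, isConj_iff.mpr ⟨_, rfl⟩⟩
  have hcs : ∀ g : G, (c (g : G ⧸ H) : G) = g * u * g⁻¹ := by
    intro g
    obtain ⟨h, hh⟩ := QuotientGroup.mk_out_eq_mul H g
    have hm : (h : G) ∈ Subgroup.centralizer ({u} : Set G) := hH ▸ h.2
    show (g : G ⧸ H).out * u * (g : G ⧸ H).out⁻¹ = _
    rw [hh, show g * (h : G) * u * (g * h)⁻¹ = g * (h * u) * (h : G)⁻¹ * g⁻¹ by group,
      Subgroup.mem_centralizer_singleton_iff.mp hm]
    group
  have hcb : Function.Bijective c := by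
    constructor
    · intro q q' e
      induction q using QuotientGroup.induction_on with
      | _ g =>
        induction q' using QuotientGroup.induction_on with
        | _ g' =>
          have e' := congrArg Subtype.val e
          rw [hcs, hcs] at e'
          apply QuotientGroup.eq.mpr
          rw [hH, Subgroup.mem_centralizer_singleton_iff]
          calc g⁻¹ * g' * u = g⁻¹ * (g' * u * g'⁻¹) * g' := by group
            _ = _ := by rw [← e']; group
    · rintro ⟨x, hx⟩
      obtain ⟨g, rfl⟩ := isConj_iff.mp hx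
      exact ⟨g, Subtype.ext (hcs g)⟩
  set n := Nat.card {x : G // IsConj u x}
  set m := Nat.card {x : G // IsConj u x ∧ x ∈ K}
  -- all points
  have hall : Nat.card (G ⧸ K) = 2 * n := by
    have h1 : Nat.card G = n * Nat.card H := by
      rw [show n = Nat.card (G ⧸ H) from (Nat.card_congr (Equiv.ofBijective c hcb)).symm]
      exact Subgroup.card_eq_card_quotient_mul_card_subgroup H
    have h2 := Subgroup.card_eq_card_quotient_mul_card_subgroup K
    rw [h1, hKcard] at h2
    exact Nat.eq_of_mul_eq_mul_right Nat.card_pos (show Nat.card (G ⧸ K) * Nat.card K = 2 * n * Nat.card K by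
      rw [← h2]; ring)
  -- fixed points
  let σ : Equiv.Perm (G ⧸ K) := MulAction.toPerm u
  have hσ : σ * σ = 1 := Equiv.ext fun q => by
    show u • u • q = q
    rw [← mul_smul, hu, one_smul]
  have hfixiff : ∀ g : G, σ (g : G ⧸ K) = g ↔ g⁻¹ * u * g ∈ K := by
    intro g
    show ((u * g : G) : G ⧸ K) = g ↔ _
    rw [eq_comm, QuotientGroup.eq]
    simp [mul_assoc]
  have hfix : Nat.card {q : G ⧸ K // σ q = q} = 2 * m := by
    have e1 : Nat.card {g : G // g⁻¹ * u * g ∈ K} = Nat.card K * Nat.card {q : G ⧸ K // σ q = q} := by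
      rw [← Nat.card_prod]
      refine Nat.card_congr ((Equiv.subtypeEquivRight fun g => ?_).trans
        (QuotientGroup.preimageMkEquivSubgroupProdSet K {q | σ q = q}))
      exact (hfixiff g).symm
    have e2 : Nat.card {g : G // g * u * g⁻¹ ∈ K} = Nat.card H * m := by
      have : Nat.card ({q : G ⧸ H | (c q : G) ∈ K} : Set (G ⧸ H)) = m := by
        refine Nat.card_congr ((Equiv.ofBijective c hcb).subtypeEquiv (fun q => ?_) |>.trans
          (Equiv.subtypeSubtypeEquivSubtypeInter (fun x => IsConj u x) (fun x => x ∈ K)))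
        exact Iff.rfl
      rw [← this, ← Nat.card_prod]
      refine Nat.card_congr ((Equiv.subtypeEquivRight fun g => ?_).trans
        (QuotientGroup.preimageMkEquivSubgroupProdSet H {q | (c q : G) ∈ K}))
      show _ ↔ (c (g : G ⧸ H) : G) ∈ K
      rw [hcs]
    have e3 : Nat.card {g : G // g * u * g⁻¹ ∈ K} = Nat.card {g : G // g⁻¹ * u * g ∈ K} :=
      Nat.card_congr ((Equiv.inv G).subtypeEquiv fun g => by simp)
    rw [e1, e2, hKcard] at e3
    exact Nat.eq_of_mul_eq_mul_left (Nat.card_pos (α := K)) (by rw [← e3]; ring)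
  -- parity
  have hcard_eq : Nat.card (G ⧸ K) = σ.support.card + Nat.card {q : G ⧸ K // σ q = q} := by
    rw [Nat.card_eq_fintype_card, Nat.card_eq_fintype_card, Fintype.card_subtype,
      ← Finset.card_univ, ← Finset.card_filter_add_card_filter_not (fun q => σ q ≠ q)]
    congr 1
    simp
  have hHout : Nat.card {x : G // IsConj u x ∧ x ∉ H} % 2 = 0 := by
    let τ : Equiv.Perm {x : G // IsConj u x ∧ x ∉ H} :=
      { toFun := fun x => ⟨u * x * u⁻¹, (x.2.1.trans (isConj_iff.mpr ⟨u, rfl⟩)), fun h => x.2.2 (by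
          simpa [mul_assoc] using mul_mem (mul_mem (inv_mem huH) h) huH)⟩
        invFun := fun x => ⟨u * x * u⁻¹, (x.2.1.trans (isConj_iff.mpr ⟨u, rfl⟩)), fun h => x.2.2 (by
          simpa [mul_assoc] using mul_mem (mul_mem (inv_mem huH) h) huH)⟩
        left_inv := fun x => Subtype.ext (by
          show u * (u * x * u⁻¹) * u⁻¹ = (x : G)
          rw [inv_eq_of_mul_eq_one_right hu, show u * (u * (x : G) * u) * u = (u * u) * x * (u * u) by group, hu]
          group)
        right_inv := fun x => Subtype.ext (by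
          show u * (u * x * u⁻¹) * u⁻¹ = (x : G)
          rw [inv_eq_of_mul_eq_one_right hu, show u * (u * (x : G) * u) * u = (u * u) * x * (u * u) by group, hu]
          group) }
    have hτ : τ.support = Finset.univ := by
      ext x
      simp only [Equiv.Perm.mem_support, Finset.mem_univ, iff_true]
      intro h
      apply x.2.2
      refine (SetLike.ext_iff.mp hH _).mpr (Subgroup.mem_centralizer_singleton_iff.mpr ?_)
      exact (mul_inv_eq_iff_eq_mul.mp (congrArg Subtype.val h : u * (x : G) * u⁻¹ = x)).symm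
    have hττ : τ * τ = 1 := Equiv.ext fun x => τ.left_inv x
    have hd : 2 ∣ τ.support.card := by
      by_cases h1 : τ = 1
      · simp [h1]
      rw [← Equiv.Perm.sum_cycleType]
      refine Multiset.dvd_sum fun k hk => ?_
      have hk1 : k ∣ 2 := (Equiv.Perm.dvd_of_mem_cycleType hk).trans
        (orderOf_dvd_of_pow_eq_one (by rw [sq, hττ]))
      have hk2 := Equiv.Perm.two_le_of_mem_cycleType hk
      have := Nat.le_of_dvd (by norm_num) hk1
      omega
    rw [hτ, Finset.card_univ, ← Nat.card_eq_fintype_card] at hd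
    omega
  have hsplit : n = m + Nat.card {x : ↥H // IsConj u (x : G) ∧ lam x = -1} +
      Nat.card {x : G // IsConj u x ∧ x ∉ H} := by
    have hA : Nat.card {x : ↥H // IsConj u (x : G) ∧ lam x = -1} =
        Nat.card {x : G // IsConj u x ∧ x ∈ H ∧ x ∉ K} := by
      refine Nat.card_congr
        { toFun := fun x => ⟨x.1, x.2.1, x.1.2, fun h => ?_⟩
          invFun := fun x => ⟨⟨x.1, x.2.2.1⟩, x.2.1, ?_⟩
          left_inv := fun x => rfl
          right_inv := fun x => rfl }
      · obtain ⟨_, e⟩ := (hK _).mp h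
        rw [x.2.2] at e
        exact absurd e (by decide)
      · rcases Int.units_eq_one_or (lam ⟨x.1, x.2.2.1⟩) with e | e
        · exact absurd ((hK _).mpr ⟨_, e⟩) x.2.2.2
        · exact e
    rw [hA, show n = Nat.card {x : G // IsConj u x} from rfl, show m = Nat.card {x : G // IsConj u x ∧ x ∈ K} from rfl]
    simp only [Nat.card_eq_fintype_card, Fintype.card_subtype]
    rw [← Finset.card_union_of_disjoint, ← Finset.card_union_of_disjoint]
    · congr 1
      ext x
      simp only [Finset.mem_union, Finset.mem_filter, Finset.mem_univ, true_and]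
      constructor
      · intro h
        by_cases hxK : x ∈ K
        · exact Or.inl (Or.inl ⟨h, hxK⟩)
        · by_cases hxH : x ∈ H
          · exact Or.inl (Or.inr ⟨h, hxH, hxK⟩)
          · exact Or.inr ⟨h, hxH⟩
      · rintro ((h | h) | h) <;> exact h.1
    · rw [Finset.disjoint_left]
      intro x h1 h2
      simp only [Finset.mem_union, Finset.mem_filter, Finset.mem_univ, true_and] at h1 h2
      rcases h1 with ⟨-, h⟩ | ⟨-, h, -⟩
      · exact h2.2 ((hK x).mp h).1
      · exact h2.2 h
    · rw [Finset.disjoint_left]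
      intro x h1 h2
      simp only [Finset.mem_filter, Finset.mem_univ, true_and] at h1 h2
      exact h2.2.2 h1.2
  refine ⟨Equiv.Perm.sign.comp (MulAction.toPermHom G (G ⧸ K)), ?_⟩
  show Equiv.Perm.sign σ = -1
  rw [CfsgLib.InvolChar.LargeExtraTransfer.sign_of_sq σ hσ]
  refine Odd.neg_one_pow ?_
  obtain ⟨j, hj⟩ := hodd
  rw [Nat.odd_iff]
  omega

end CfsgLib.SymEightLocal
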