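import Mathlib

/-!
Finite checks in `S₆`: involutions, their classes and commuting triples.
-/

set_option autoImplicit false
set_option synthInstance.maxSize 4000
-- sequential checks keep the memory use moderate
set_option Elab.async false

namespace CfsgLib.SymEightLocal.SixModel

open Equiv

/-- A transposition. -/
def a1 : Perm (Fin 6) := swap 0 1
/-- A product of three disjoint transpositions. -/
def a3 : Perm (Fin 6) := swap 0 1 * swap 2 3 * swap 4 5

/-- A product of two disjoint transpositions. -/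
def a2 : Perm (Fin 6) := swap 0 1 * swap 2 3

theorem support_two : ∀ {a : Perm (Fin 6)}, a * a = 1 → a ≠ 1 →
    a.cycleType = Multiset.replicate (a.support.card / 2) 2 ∧
      (a.support.card = 2 ∨ a.support.card = 4 ∨ a.support.card = 6) := by
  intro a ha ha1
  have ho : orderOf a = 2 := orderOf_eq_prime (by rw [sq, ha]) ha1
  obtain ⟨m, hm⟩ := Perm.cycleType_prime_order (σ := a) (ho ▸ Nat.prime_two)
  rw [ho] at hm
  have hs : a.support.card = (m + 1) * 2 := by
    rw [← Perm.sum_cycleType, hm, Multiset.sum_replicate, smul_eq_mul]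
  refine ⟨by rw [hs, Nat.mul_div_cancel _ (by norm_num), hm], ?_⟩
  have h6 : a.support.card ≤ 6 := (Finset.card_le_univ _).trans (le_of_eq (Fintype.card_fin 6))
  omega

theorem conj_of_support {a b : Perm (Fin 6)} (ha : a * a = 1) (ha1 : a ≠ 1) (hb : b * b = 1) (hb1 : b ≠ 1)
    (h : a.support.card = b.support.card) : IsConj a b :=
  Perm.isConj_iff_cycleType_eq.mpr (by rw [(support_two ha ha1).1, (support_two hb hb1).1, h])

theorem rep_facts : (a1 * a1 = 1 ∧ a1 ≠ 1 ∧ a1.support.card = 2) ∧ (a2 * a2 = 1 ∧ a2 ≠ 1 ∧ a2.support.card = 4) ∧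
    (a3 * a3 = 1 ∧ a3 ≠ 1 ∧ a3.support.card = 6) := by decide +kernel

theorem sign_support {a : Perm (Fin 6)} (ha : a * a = 1) (ha1 : a ≠ 1) :
    Perm.sign a = if a.support.card = 4 then 1 else -1 := by
  obtain ⟨hc, h⟩ := support_two ha ha1
  rw [Perm.sign_of_cycleType, hc, Multiset.sum_replicate, Multiset.card_replicate, smul_eq_mul]
  rcases h with h | h | h <;> rw [h] <;> rfl

theorem odd_invol (a : Perm (Fin 6)) (ha : a * a = 1) (hs : Perm.sign a = -1) :
    ∃ h, h * a * h⁻¹ = a1 ∨ h * a * h⁻¹ = a3 := by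
  have ha1 : a ≠ 1 := fun e => by rw [e, map_one] at hs; exact absurd hs (by decide)
  rw [sign_support ha ha1] at hs
  obtain ⟨⟨p1, q1, r1⟩, -, p3, q3, r3⟩ := rep_facts
  rcases (support_two ha ha1).2 with h | h | h
  · obtain ⟨t, ht⟩ := isConj_iff.mp (conj_of_support ha ha1 p1 q1 (h.trans r1.symm))
    exact ⟨t, Or.inl ht⟩
  · rw [if_pos h] at hs; exact absurd hs (by decide)
  · obtain ⟨t, ht⟩ := isConj_iff.mp (conj_of_support ha ha1 p3 q3 (h.trans r3.symm))
    exact ⟨t, Or.inr ht⟩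

theorem even_invol (a : Perm (Fin 6)) (ha : a * a = 1) (ha1 : a ≠ 1) (hs : Perm.sign a = 1) :
    ∃ h, h * a * h⁻¹ = a2 := by
  obtain ⟨-, ⟨p2, q2, r2⟩, -⟩ := rep_facts
  rw [sign_support ha ha1] at hs
  have h : a.support.card = 4 := by
    by_contra h
    rw [if_neg h] at hs
    exact absurd hs (by decide)
  exact isConj_iff.mp (conj_of_support ha ha1 p2 q2 (h.trans r2.symm))

theorem a2_three : ∀ b : Perm (Fin 6), a2 * b = b * a2 → b * (b * b) = 1 → b = 1 := by decide +kernel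

theorem cent_three_odd (a : Perm (Fin 6)) (ha : a * a = 1) (ha1 : a ≠ 1) (hs : Perm.sign a = 1)
    (b : Perm (Fin 6)) (hb : a * b = b * a) (h3 : b * (b * b) = 1) : b = 1 := by
  obtain ⟨h, hh⟩ := even_invol a ha ha1 hs
  have := a2_three (h * b * h⁻¹) (by
      rw [← hh, show h * a * h⁻¹ * (h * b * h⁻¹) = h * (a * b) * h⁻¹ by group, hb]; group)
    (by rw [show h * b * h⁻¹ * (h * b * h⁻¹ * (h * b * h⁻¹)) = h * (b * (b * b)) * h⁻¹ by group, h3]; group)
  exact conj_eq_one_iff.mp this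

theorem count_a1 : Fintype.card {x : Perm (Fin 6) // x * a1 = a1 * x} = 48 := by decide +kernel

theorem count_a3 : Fintype.card {x : Perm (Fin 6) // x * a3 = a3 * x} = 48 := by decide +kernel

/-- The second transposition. -/
def b1 : Perm (Fin 6) := swap 2 3
/-- The third transposition. -/
def k1 : Perm (Fin 6) := swap 4 5
/-- A second triple product commuting with the first. -/
def b3 : Perm (Fin 6) := swap 0 1 * swap 2 4 * swap 3 5
/-- The third triple product. -/
def k3 : Perm (Fin 6) := swap 0 1 * swap 2 5 * swap 3 4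

theorem pair_a1_conj : ∀ b : Perm (Fin 6), b * a1 = a1 * b → b ≠ a1 → b * b = 1 → b.support.card = 2 →
    ∃ h, h * a1 = a1 * h ∧ h * b * h⁻¹ = b1 := by decide +kernel

theorem pair_a3_conj : ∀ b : Perm (Fin 6), b * a3 = a3 * b → b ≠ a3 → b * b = 1 → b.support.card = 6 →
    ∃ h, h * a3 = a3 * h ∧ h * b * h⁻¹ = b3 := by decide +kernel

theorem pair_a1 (b : Perm (Fin 6)) (hb : b * b = 1) (hs : Perm.sign b = -1) (hc : b * a1 = a1 * b) (hne : b ≠ a1) :
    (∃ h, h * b * h⁻¹ = a3) ∨ ∃ h, h * a1 = a1 * h ∧ h * b * h⁻¹ = b1 := by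
  obtain ⟨t, ht | ht⟩ := odd_invol b hb hs
  · refine Or.inr (pair_a1_conj b hc hne hb ?_)
    have := Perm.card_support_conj (σ := t) (τ := b)
    rw [ht, rep_facts.1.2.2] at this
    exact this.symm
  · exact Or.inl ⟨t, ht⟩

theorem pair_a3 (b : Perm (Fin 6)) (hb : b * b = 1) (hs : Perm.sign b = -1) (hc : b * a3 = a3 * b) (hne : b ≠ a3) :
    (∃ h, h * b * h⁻¹ = a1) ∨ ∃ h, h * a3 = a3 * h ∧ h * b * h⁻¹ = b3 := by
  obtain ⟨t, ht | ht⟩ := odd_invol b hb hs
  · exact Or.inl ⟨t, ht⟩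
  · refine Or.inr (pair_a3_conj b hc hne hb ?_)
    have := Perm.card_support_conj (σ := t) (τ := b)
    rw [ht, rep_facts.2.2.2.2] at this
    exact this.symm

theorem not_conj13 : ∀ h : Perm (Fin 6), h * a1 * h⁻¹ ≠ a3 := by decide +kernel

/-- Properties of a commuting triple in one class of odd involutions. -/
def Triple (a b k τ σ : Perm (Fin 6)) : Prop :=
  τ * a * τ⁻¹ = k ∧ τ * b * τ⁻¹ = b ∧ σ * a * σ⁻¹ = a ∧ σ * b * σ⁻¹ = k ∧
  a * a = 1 ∧ b * b = 1 ∧ k * k = 1 ∧ a * b = b * a ∧ a * k = k * a ∧ b * k = k * b ∧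
  Perm.sign (a * b) = 1 ∧ Perm.sign (a * k) = 1 ∧ Perm.sign (b * k) = 1 ∧
  a * b ≠ 1 ∧ a * k ≠ 1 ∧ b * k ≠ 1 ∧
  (∀ h, h * a * h⁻¹ ≠ a * b * k) ∧
  ∀ x, x * a = a * x → x * b = b * x →
    x = 1 ∨ x = a ∨ x = b ∨ x = k ∨ x = a * b ∨ x = a * k ∨ x = b * k ∨ x = a * b * k

theorem triple1 : Triple a1 b1 k1 (swap 0 4 * swap 1 5) (swap 2 4 * swap 3 5) := by
  unfold Triple
  decide +kernel

theorem triple3 : Triple a3 b3 k3 (swap 3 5) (swap 4 5) := by
  unfold Triple
  decide +kernel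

end CfsgLib.SymEightLocal.SixModel
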