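import Cfsg.Agent.Lib.SymEightLocal.Basic
import Cfsg.Agent.Lib.SymEightLocal.SixModel
import Cfsg.Agent.Lib.SymEightLocal.SignTrick
import Cfsg.Agent.Lib.SmallGroups.NineLocal.SymSix
import Cfsg.Agent.Lib.Invol.Counting

/-!
The centralizer of the involution centralizing the Sylow 3-subgroup: `N(D)`, or `2 × S₆`.
-/

set_option autoImplicit false
set_option linter.style.haveILetI false

namespace CfsgLib.SymEightLocal

universe u

variable {G : Type u} [Group G] [Finite G]

/-- Projection of `C(u)` onto `S₆` with kernel `⟨u⟩`. -/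
structure Proj (F : Frame G) where
  p : ↥(Subgroup.centralizer ({F.φ qu} : Set G)) →* Equiv.Perm (Fin 6)
  surj : Function.Surjective p
  ker : ∀ x, p x = 1 ↔ (x : G) = 1 ∨ (x : G) = F.φ qu

namespace Frame

variable (F : Frame G)

theorem u_sq : F.φ qu * F.φ qu = 1 := by rw [← map_mul, qr_facts.2.2.2.2.2.2.2.2.2.2.2.2, map_one]

omit [Finite G] in
theorem u_ne_one : F.φ qu ≠ 1 := fun h => qd_facts.2.2.2.2.2 (F.inj (h.trans (map_one F.φ).symm))

theorem D_le_cent_u : F.D ≤ Subgroup.centralizer ({F.φ qu} : Set G) := fun _ hx =>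
  Subgroup.mem_centralizer_singleton_iff.mpr (F.normalizer_comm_u (Subgroup.le_normalizer hx))

theorem cent2_le_normalizer {q : Q35} (hq : InD q) (h1 : q ≠ 1) {x : G} (hxu : x * F.φ qu = F.φ qu * x)
    (hxq : x * F.φ q = F.φ q * x) : x ∈ Subgroup.normalizer (F.D : Set G) := by
  obtain ⟨h, ⟨hu, k, hk, hh⟩, hc⟩ := F.inD_conj hq h1
  have hN : h ∈ Subgroup.normalizer (F.D : Set G) := F.mem_normalizer_D.mpr ⟨k, hk, hh⟩
  have hy : h * x * h⁻¹ * (h * F.φ qu * h⁻¹) = h * F.φ qu * h⁻¹ * (h * x * h⁻¹) ∧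
      h * x * h⁻¹ * (h * F.φ q * h⁻¹) = h * F.φ q * h⁻¹ * (h * x * h⁻¹) := by
    refine ⟨?_, ?_⟩
    · rw [show h * x * h⁻¹ * (h * F.φ qu * h⁻¹) = h * (x * F.φ qu) * h⁻¹ by group, hxu]; group
    · rw [show h * x * h⁻¹ * (h * F.φ q * h⁻¹) = h * (x * F.φ q) * h⁻¹ by group, hxq]; group
  rw [hu] at hy
  have hym : h * x * h⁻¹ ∈ Subgroup.normalizer (F.D : Set G) := by
    rcases hc with e | e
    · rw [e] at hy
      obtain ⟨p, hp, hpe⟩ := F.comm_z.mp hy.2
      rw [← hpe]
      exact F.mem_normalizer_D.mpr ⟨p, cent_qz_qu p hp (F.inj (by rw [map_mul, map_mul, hpe, hy.1])), Or.inl rfl⟩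
    · rw [e] at hy
      obtain ⟨p, hp, hpe⟩ := F.cent_d _ hy.2
      exact F.mem_normalizer_D.mpr ⟨p, inN_inv_inC p hp, hpe⟩
  have := mul_mem (mul_mem (inv_mem hN) hym) hN
  rwa [show h⁻¹ * (h * x * h⁻¹) * h = x by group] at this

theorem mem_centralizer_D {x : G} : x ∈ Subgroup.centralizer (F.D : Set G) ↔ ∃ q, InC q ∧ F.φ q = x := by
  rw [Subgroup.mem_centralizer_iff]
  constructor
  · intro h
    have h1 := h _ (F.phi_mem_D.mpr qd_facts.1)
    obtain ⟨q, hq, rfl⟩ := F.comm_z.mp h1.symm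
    exact ⟨q, ⟨hq, F.inj (by rw [map_mul, map_mul, ← h _ (F.phi_mem_D.mpr qd_facts.2.1)])⟩, rfl⟩
  · rintro ⟨q, hq, rfl⟩ _ ⟨d, hd, rfl⟩
    rw [← map_mul, ← map_mul]
    congr 1
    have hA : qz ∈ Subgroup.centralizer ({q} : Set Q35) := Subgroup.mem_centralizer_singleton_iff.mpr hq.1.symm
    have hB : qz' ∈ Subgroup.centralizer ({q} : Set Q35) := Subgroup.mem_centralizer_singleton_iff.mpr hq.2.symm
    have hd' : d = (d.1, 1) * (1, d.2) := by simp
    refine (Subgroup.mem_centralizer_singleton_iff (k := d)).mp ?_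
    rw [hd']
    refine mul_mem ?_ ?_
    · rcases hd.1 with e | e | e <;> rw [e]
      · exact one_mem _
      · exact hA
      · rw [show ((c3⁻¹, 1) : Q35) = qz⁻¹ by simp [qz]]; exact inv_mem hA
    · rcases hd.2 with e | e | e <;> rw [e]
      · exact one_mem _
      · exact hB
      · rw [show ((1, c5⁻¹) : Q35) = qz'⁻¹ by simp [qz']]; exact inv_mem hB

set_option maxHeartbeats 800000 in
theorem cent_u_cases
    [hcn : ((Subgroup.centralizer (F.D : Set G)).subgroupOf (Subgroup.normalizer (F.D : Set G))).Normal]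
    (eNC : Subgroup.normalizer (F.D : Set G) ⧸ (Subgroup.centralizer (F.D : Set G)).subgroupOf (Subgroup.normalizer (F.D : Set G)) ≃* DihedralGroup 4) :
    (∀ x : G, x * F.φ qu = F.φ qu * x → x ∈ Subgroup.normalizer (F.D : Set G)) ∨ Nonempty (Proj F) := by
  classical
  haveI : Fact (Nat.Prime 3) := ⟨Nat.prime_three⟩
  set H := Subgroup.centralizer ({F.φ qu} : Set G) with hH
  have huH : F.φ qu ∈ H := Subgroup.mem_centralizer_singleton_iff.mpr rfl
  let U : Subgroup H := (Subgroup.zpowers (F.φ qu)).subgroupOf H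
  have hUmem : ∀ x : H, x ∈ U ↔ (x : G) = 1 ∨ (x : G) = F.φ qu := by
    intro x
    rw [Subgroup.mem_subgroupOf]
    constructor
    · intro h
      obtain ⟨k, hk⟩ := Subgroup.mem_zpowers_iff.mp h
      rcases Int.even_or_odd k with ⟨j, rfl⟩ | ⟨j, rfl⟩
      · left; rw [← hk, ← two_mul, zpow_mul, zpow_two, F.u_sq, one_zpow]
      · right; rw [← hk, zpow_add, zpow_mul, zpow_two, F.u_sq, one_zpow, one_mul, zpow_one]
    · rintro (h | h) <;> rw [h]
      · exact one_mem _
      · exact Subgroup.mem_zpowers _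
  haveI hUn : U.Normal := ⟨fun n hn g => by
    have : g * n * g⁻¹ = n := by
      apply Subtype.ext
      show (g : G) * n * (g : G)⁻¹ = n
      rcases (hUmem n).mp hn with e | e <;> rw [e]
      · group
      · rw [Subgroup.mem_centralizer_singleton_iff.mp g.2, mul_inv_cancel_right]
    rwa [this]⟩
  have hmk : ∀ x y : H, (x : H ⧸ U) = y ↔ (y : G) = x ∨ (y : G) = x * F.φ qu := by
    intro x y
    rw [QuotientGroup.eq, hUmem, Subgroup.coe_mul, Subgroup.coe_inv, inv_mul_eq_one, eq_comm,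
      inv_mul_eq_iff_eq_mul]
  let mk : H →* H ⧸ U := QuotientGroup.mk' U
  have hDH := F.D_le_cent_u
  let M : Subgroup (H ⧸ U) := (F.D.subgroupOf H).map mk
  have hcube : ∀ d e : G, d ^ 3 = 1 → e ^ 3 = 1 → e = d * F.φ qu → d * F.φ qu = F.φ qu * d → False := by
    intro d e hd he hde hc
    rw [hde, (show Commute d (F.φ qu) from hc).mul_pow, hd, one_mul, pow_succ, pow_two, F.u_sq, one_mul] at he
    exact F.u_ne_one he
  have hDcomm : ∀ d ∈ F.D, d * F.φ qu = F.φ qu * d := fun d hd =>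
    Subgroup.mem_centralizer_singleton_iff.mp (hDH hd)
  have hMmem : ∀ x : H, (x : H ⧸ U) ∈ M ↔ (x : G) ∈ F.D ∨ (x : G) * F.φ qu ∈ F.D := by
    intro x
    constructor
    · rintro ⟨d, hd, hdx⟩
      rcases (hmk d x).mp hdx with e | e <;> rw [e]
      · exact Or.inl hd
      · exact Or.inr (by rw [mul_assoc, F.u_sq, mul_one]; exact hd)
    · rintro (h | h)
      · exact ⟨x, h, rfl⟩
      · exact ⟨x * ⟨_, huH⟩, h, ((hmk x _).mpr (Or.inr rfl)).symm⟩
  have hM9 : Nat.card M = 9 := by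
    rw [← F.card_D, ← Nat.card_congr (Subgroup.subgroupOfEquivOfLe hDH).toEquiv]
    refine (Nat.card_congr (Equiv.ofBijective (fun d : F.D.subgroupOf H =>
      (⟨mk d, Subgroup.mem_map_of_mem _ d.2⟩ : M)) ⟨?_, ?_⟩)).symm
    · intro a b h
      rcases (hmk a b).mp (congrArg Subtype.val h) with e | e
      · exact Subtype.ext (Subtype.ext e.symm)
      · exact (hcube _ _ (F.D_cube a.2) (F.D_cube b.2) e (hDcomm _ a.2)).elim
    · rintro ⟨_, d, hd, rfl⟩
      exact ⟨⟨d, hd⟩, rfl⟩
  have hMp : IsPGroup 3 M := IsPGroup.of_card (n := 2) (by rw [hM9]; norm_num)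
  have hMidx : ¬ 3 ∣ M.index := by
    intro h3
    apply F.three
    have h1 := Subgroup.card_mul_index M
    rw [hM9] at h1
    have h2 : 27 ∣ Nat.card (H ⧸ U) := by
      rw [← h1, show (27 : ℕ) = 9 * 3 by norm_num]
      exact Nat.mul_dvd_mul_left 9 h3
    exact (h2.trans (U.card_quotient_dvd_card)).trans (Subgroup.card_subgroup_dvd_card H)
  let S : Sylow 3 (H ⧸ U) := hMp.toSylow hMidx
  have hS : (S : Subgroup (H ⧸ U)) = M := rfl
  have hconjD : ∀ x : H, (x : H ⧸ U) ∈ Subgroup.normalizer (M : Set (H ⧸ U)) →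
      (x : G) ∈ Subgroup.normalizer (F.D : Set G) := by
    intro x hx
    have hle : ∀ d ∈ F.D, (x : G) * d * (x : G)⁻¹ ∈ F.D := by
      intro d hd
      have h1 := (Subgroup.mem_normalizer_iff.mp hx _).mp ((hMmem ⟨d, hDH hd⟩).mpr (Or.inl hd))
      rw [← QuotientGroup.mk_inv, ← QuotientGroup.mk_mul, ← QuotientGroup.mk_mul, hMmem] at h1
      rcases h1 with h1 | h1
      · exact h1
      · exfalso
        have h3 : ((x : G) * d * (x : G)⁻¹) ^ 3 = 1 := by rw [conj_pow, F.D_cube hd]; group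
        refine hcube _ _ h3 (F.D_cube h1) rfl ?_
        exact Subgroup.mem_centralizer_singleton_iff.mp (mul_mem (mul_mem x.2 (hDH hd)) (inv_mem x.2))
    have hle' : F.D.map (MulAut.conj (x : G)).toMonoidHom ≤ F.D := by
      rintro _ ⟨d, hd, rfl⟩; exact hle d hd
    refine Subgroup.mem_normalizer_iff.mpr fun a => ⟨hle a, fun ha => ?_⟩
    rw [← Subgroup.eq_of_le_of_card_ge hle'
      (le_of_eq (Subgroup.card_map_of_injective (MulAut.conj (x : G)).injective).symm)] at ha
    obtain ⟨b, hb, hba⟩ := ha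
    rwa [show a = b from (MulAut.conj (x : G)).injective hba.symm]
  have hconjD' : ∀ x : H, (x : G) ∈ Subgroup.normalizer (F.D : Set G) →
      (x : H ⧸ U) ∈ Subgroup.normalizer (M : Set (H ⧸ U)) := by
    intro x hx
    rw [Subgroup.mem_normalizer_iff]
    intro a
    induction a using QuotientGroup.induction_on with
    | _ a =>
      rw [← QuotientGroup.mk_inv, ← QuotientGroup.mk_mul, ← QuotientGroup.mk_mul, hMmem, hMmem,
        Subgroup.mem_normalizer_iff.mp hx (a : G), Subgroup.mem_normalizer_iff.mp hx ((a : G) * F.φ qu)]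
      have : (x : G) * ((a : G) * F.φ qu) * (x : G)⁻¹ = (x : G) * a * (x : G)⁻¹ * F.φ qu := by
        rw [show (x : G) * ((a : G) * F.φ qu) * (x : G)⁻¹ = x * a * (x : G)⁻¹ * ((x : G) * F.φ qu) * (x : G)⁻¹ by group,
          Subgroup.mem_centralizer_singleton_iff.mp x.2]
        group
      rw [this]; rfl
  have hyp : CfsgLib.SmallGroups.NineLocal.Hyp S := by
    refine ⟨by rw [hS]; exact hM9, ?_, ?_, ?_⟩
    · rintro _ ⟨d, hd, rfl⟩
      rw [← map_pow, show d ^ 3 = 1 from Subtype.ext (F.D_cube hd), map_one]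
    · rw [hS]
      refine le_antisymm ?_ ?_
      · intro a ha
        induction a using QuotientGroup.induction_on with
        | _ x =>
          have hc : (x : G) ∈ Subgroup.centralizer (F.D : Set G) := by
            rw [Subgroup.mem_centralizer_iff]
            intro d hd
            have h1 := Subgroup.mem_centralizer_iff.mp ha _ ((hMmem ⟨d, hDH hd⟩).mpr (Or.inl hd))
            rw [← QuotientGroup.mk_mul, ← QuotientGroup.mk_mul] at h1
            rcases (hmk _ _).mp h1 with e | e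
            · exact e.symm
            · exfalso
              have e' : (x : G) * d * (x : G)⁻¹ = d * F.φ qu := by
                rw [mul_inv_eq_iff_eq_mul]
                exact e.trans (by
                  show d * (x : G) * F.φ qu = d * F.φ qu * x
                  rw [mul_assoc, Subgroup.mem_centralizer_singleton_iff.mp x.2, mul_assoc])
              exact hcube d _ (F.D_cube hd) (by rw [conj_pow, F.D_cube hd]; group) e' (hDcomm d hd)
          obtain ⟨q, hq, hqx⟩ := F.mem_centralizer_D.mp hc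
          rw [hMmem, ← hqx, ← map_mul]
          rcases (inC_iff q).mp hq with h | h
          · exact Or.inl (F.phi_mem_D.mpr h)
          · exact Or.inr (F.phi_mem_D.mpr h)
      · rintro _ ⟨d, hd, rfl⟩
        rw [Subgroup.mem_centralizer_iff]
        rintro _ ⟨e, he, rfl⟩
        rw [← map_mul, ← map_mul]
        congr 1
        apply Subtype.ext
        obtain ⟨q, hq, hqd⟩ := F.mem_D.mp (show (d : G) ∈ F.D from hd)
        have := F.mem_centralizer_D.mpr ⟨q, (inC_iff q).mpr (Or.inl hq), hqd⟩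
        exact Subgroup.mem_centralizer_iff.mp this _ he
    · intro a ha ha1 b hb
      rw [hS] at ha ⊢
      obtain ⟨d, hd, rfl⟩ := ha
      induction b using QuotientGroup.induction_on with
      | _ x =>
        refine hconjD' x ?_
        obtain ⟨q, hq, hqd⟩ := F.mem_D.mp (show (d : G) ∈ F.D from hd)
        have hq1 : q ≠ 1 := by
          intro h
          apply ha1
          rw [show d = 1 from Subtype.ext (by rw [← hqd, h, map_one]; rfl), map_one]
        have h1 := Subgroup.mem_centralizer_singleton_iff.mp hb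
        rw [show mk d = ((d : H) : H ⧸ U) from rfl, ← QuotientGroup.mk_mul, ← QuotientGroup.mk_mul] at h1
        refine F.cent2_le_normalizer hq hq1 (Subgroup.mem_centralizer_singleton_iff.mp x.2) ?_
        rw [hqd]
        rcases (hmk _ _).mp h1 with e | e
        · exact e.symm
        · exfalso
          have e' : (x : G)⁻¹ * d * (x : G) = d * F.φ qu := by
            rw [mul_assoc, inv_mul_eq_iff_eq_mul]
            exact e.trans (mul_assoc _ _ _)
          have h3 : ((x : G)⁻¹ * d * (x : G)) ^ 3 = 1 := by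
            have := conj_pow (i := 3) (a := (x : G)⁻¹) (b := (d : G))
            rw [inv_inv] at this
            rw [this, F.D_cube (show (d : G) ∈ F.D from hd)]; group
          exact hcube (d : G) _ (F.D_cube (show (d : G) ∈ F.D from hd)) h3 e' (hDcomm _ hd)
  -- the automizer
  let ND := Subgroup.normalizer (F.D : Set G)
  let NM := Subgroup.normalizer (M : Set (H ⧸ U))
  have hNH : ND ≤ H := fun x hx => Subgroup.mem_centralizer_singleton_iff.mpr (F.normalizer_comm_u hx)
  haveI hMn : (M.subgroupOf NM).Normal := Subgroup.normal_in_normalizer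
  let θ : ND →* NM ⧸ M.subgroupOf NM := (QuotientGroup.mk' _).comp
    ((mk.comp (Subgroup.inclusion hNH)).codRestrict NM (fun x => hconjD' _ x.2))
  have hθs : Function.Surjective θ := by
    intro q
    induction q using QuotientGroup.induction_on with
    | _ y =>
      obtain ⟨y, hy⟩ := y
      induction y using QuotientGroup.induction_on with
      | _ x => exact ⟨⟨x, hconjD x hy⟩, rfl⟩
  have hθker : θ.ker = (Subgroup.centralizer (F.D : Set G)).subgroupOf ND := by
    ext x
    rw [MonoidHom.mem_ker]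
    show (QuotientGroup.mk' (M.subgroupOf NM)) _ = 1 ↔ _
    rw [QuotientGroup.mk'_apply, QuotientGroup.eq_one_iff, Subgroup.mem_subgroupOf, Subgroup.mem_subgroupOf]
    show ((Subgroup.inclusion hNH x : H) : H ⧸ U) ∈ M ↔ _
    rw [hMmem, F.mem_centralizer_D]
    constructor
    · rintro (h | h) <;> obtain ⟨q, hq, hqe⟩ := F.mem_D.mp h
      · exact ⟨q, (inC_iff q).mpr (Or.inl hq), hqe⟩
      · refine ⟨q * qu, (inC_iff _).mpr (Or.inr ?_), ?_⟩
        · rwa [mul_assoc, qr_facts.2.2.2.2.2.2.2.2.2.2.2.2, mul_one]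
        · rw [map_mul, hqe]
          show (x : G) * F.φ qu * F.φ qu = x
          rw [mul_assoc, F.u_sq, mul_one]
    · rintro ⟨q, hq, hqe⟩
      rcases (inC_iff q).mp hq with h | h
      · exact Or.inl (F.mem_D.mpr ⟨q, h, hqe⟩)
      · exact Or.inr (F.mem_D.mpr ⟨q * qu, h, by rw [map_mul, hqe]; rfl⟩)
  have eN : NM ⧸ M.subgroupOf NM ≃* DihedralGroup 4 :=
    ((QuotientGroup.quotientMulEquivOfEq hθker.symm).trans
      (QuotientGroup.quotientKerEquivOfSurjective θ hθs)).symm.trans eNC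
  rcases hyp.sym_six_of_dihedral eN with hn | he
  · left
    intro x hx
    have hx' : x ∈ H := Subgroup.mem_centralizer_singleton_iff.mpr hx
    refine hconjD ⟨x, hx'⟩ ?_
    have hn' : M.Normal := hn
    rw [Subgroup.normalizer_eq_top]
    exact Subgroup.mem_top _
  · obtain ⟨e⟩ := he
    refine Or.inr ⟨⟨e.toMonoidHom.comp mk, e.surjective.comp (QuotientGroup.mk'_surjective U), fun x => ?_⟩⟩
    show e (mk x) = 1 ↔ _
    rw [map_eq_one_iff e e.injective]
    exact (QuotientGroup.eq_one_iff x).trans (hUmem x)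

end Frame

/-! Consequences of the projection onto `S₆`. -/

namespace Proj

variable {F : Frame G} (P : Proj F)

theorem lifts {x y : ↥(Subgroup.centralizer ({F.φ qu} : Set G))} (h : P.p x = P.p y) :
    (y : G) = x ∨ (y : G) = x * F.φ qu := by
  have := (P.ker (x⁻¹ * y)).mp (by rw [map_mul, map_inv, h, inv_mul_cancel])
  rw [Subgroup.coe_mul, Subgroup.coe_inv, inv_mul_eq_one, inv_mul_eq_iff_eq_mul] at this
  rcases this with e | e
  · exact Or.inl e.symm
  · exact Or.inr e

theorem p_u (hm : F.φ qu ∈ Subgroup.centralizer ({F.φ qu} : Set G)) : P.p ⟨F.φ qu, hm⟩ = 1 :=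
  (P.ker _).mpr (Or.inr rfl)

theorem sq {x : ↥(Subgroup.centralizer ({F.φ qu} : Set G))} (hx : (x : G) * x = 1) : P.p x * P.p x = 1 := by
  rw [← map_mul, show x * x = 1 from Subtype.ext hx, map_one]

/-- An involution centralizing an element of order three maps to an odd permutation. -/
theorem sign_of_comm {x d : ↥(Subgroup.centralizer ({F.φ qu} : Set G))} (hx : (x : G) * x = 1)
    (hx1 : (x : G) ≠ 1) (hxu : (x : G) ≠ F.φ qu) (hd : (d : G) ^ 3 = 1) (hd1 : (d : G) ≠ 1)
    (hc : (x : G) * d = d * x) : Equiv.Perm.sign (P.p x) = -1 := by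
  refine (Int.units_eq_one_or _).resolve_left fun hs => ?_
  have h1 := SixModel.cent_three_odd (P.p x) (P.sq hx)
    (fun e => ((P.ker x).mp e).elim hx1 hxu) hs (P.p d) (by rw [← map_mul, ← map_mul]; exact congrArg _ (Subtype.ext hc))
    (by rw [← map_mul, ← map_mul, show d * (d * d) = 1 from Subtype.ext (by
      show (d : G) * (d * d) = 1
      rw [← mul_assoc, ← pow_two, ← pow_succ, hd]), map_one])
  rcases (P.ker d).mp h1 with e | e
  · exact hd1 e
  · rw [e, pow_succ, pow_two, F.u_sq, one_mul] at hd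
    exact F.u_ne_one hd

theorem conj_lift {x y : ↥(Subgroup.centralizer ({F.φ qu} : Set G))} {h : Equiv.Perm (Fin 6)}
    (e : h * P.p x * h⁻¹ = P.p y) : ∃ c : G, c * F.φ qu * c⁻¹ = F.φ qu ∧
      ((y : G) = c * x * c⁻¹ ∨ (y : G) = c * (x * F.φ qu) * c⁻¹) := by
  obtain ⟨t, rfl⟩ := P.surj h
  rw [← map_inv, ← map_mul, ← map_mul] at e
  have hu : (t : G) * F.φ qu = F.φ qu * t := Subgroup.mem_centralizer_singleton_iff.mp t.2
  refine ⟨t, by rw [hu, mul_inv_cancel_right], ?_⟩
  rcases P.lifts e with h' | h'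
  · exact Or.inl h'
  · refine Or.inr (h'.trans ?_)
    show (t : G) * x * (t : G)⁻¹ * F.φ qu = _
    rw [show (t : G) * (x * F.φ qu) * (t : G)⁻¹ = t * x * (t : G)⁻¹ * ((t : G) * F.φ qu) * (t : G)⁻¹ by group, hu]
    group

end Proj

/-- Two nonconjugate odd involutions cover all odd involutions. -/
theorem odd_class_two {a a' b : Equiv.Perm (Fin 6)} (ha : a * a = 1) (ha' : a' * a' = 1) (hb : b * b = 1)
    (sa : Equiv.Perm.sign a = -1) (sa' : Equiv.Perm.sign a' = -1) (sb : Equiv.Perm.sign b = -1)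
    (h : ¬ IsConj a a') : IsConj a b ∨ IsConj a' b := by
  have cls : ∀ c, c * c = 1 → Equiv.Perm.sign c = -1 → IsConj SixModel.a1 c ∨ IsConj SixModel.a3 c := by
    intro c hc sc
    obtain ⟨t, e | e⟩ := SixModel.odd_invol c hc sc
    · exact Or.inl ((isConj_iff.mpr ⟨t, e⟩).symm)
    · exact Or.inr ((isConj_iff.mpr ⟨t, e⟩).symm)
  rcases cls a ha sa with h1 | h1 <;> rcases cls a' ha' sa' with h2 | h2 <;> rcases cls b hb sb with h3 | h3
  all_goals first
    | exact absurd (h1.symm.trans h2) h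
    | exact Or.inl (h1.symm.trans h3)
    | exact Or.inr (h2.symm.trans h3)

theorem card_odd_class {a : Equiv.Perm (Fin 6)} (ha : a * a = 1) (sa : Equiv.Perm.sign a = -1) :
    Nat.card {b // IsConj a b} = 15 := by
  obtain ⟨t, e⟩ := SixModel.odd_invol a ha sa
  have key : ∀ r : Equiv.Perm (Fin 6), Fintype.card {x : Equiv.Perm (Fin 6) // x * r = r * x} = 48 →
      IsConj a r → Nat.card {b // IsConj a b} = 15 := by
    intro r hr hc
    have h1 := CfsgLib.Invol.card_conjugates_mul r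
    have h2 : Nat.card ↥(Subgroup.centralizer ({r} : Set (Equiv.Perm (Fin 6)))) = 48 := by
      rw [← hr, ← Nat.card_eq_fintype_card]
      exact Nat.card_congr (Equiv.subtypeEquivRight fun x => Subgroup.mem_centralizer_singleton_iff)
    rw [h2, Nat.card_perm, Nat.card_fin, show Nat.factorial 6 = 720 by decide] at h1
    rw [Nat.card_congr (Equiv.subtypeEquivRight fun b => ⟨fun h => hc.symm.trans h, fun h => hc.trans h⟩)]
    omega
  rcases e with e | e
  · exact key _ SixModel.count_a1 (isConj_iff.mpr ⟨t, e⟩)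
  · exact key _ SixModel.count_a3 (isConj_iff.mpr ⟨t, e⟩)

namespace Proj

variable {F : Frame G} (P : Proj F)

include P in
theorem g_sign (hm : F.g ∈ Subgroup.centralizer ({F.φ qu} : Set G)) :
    Equiv.Perm.sign (P.p ⟨F.g, hm⟩) = -1 := by
  have hd : F.φ qd ∈ Subgroup.centralizer ({F.φ qu} : Set G) :=
    F.D_le_cent_u (F.phi_mem_D.mpr qd_facts.2.2.1)
  refine P.sign_of_comm (d := ⟨_, hd⟩) F.g_sq (fun e => F.g_not_range 1 (by rw [map_one]; exact e.symm))
    (fun e => F.g_not_range qu e.symm) (by rw [← map_pow, d0_ne.2.2.2.1, map_one])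
    (fun e => d0_ne.1 (F.inj (e.trans (map_one F.φ).symm))) F.g_comm_d

/-- An odd lift that is conjugate to `u`, with nonconjugate partner. -/
theorem class_facts {a : ↥(Subgroup.centralizer ({F.φ qu} : Set G))} (ha : IsConj (F.φ qu) (a : G))
    (hau : ¬ IsConj (F.φ qu) ((a : G) * F.φ qu)) (hsa : Equiv.Perm.sign (P.p a) = -1)
    {x : ↥(Subgroup.centralizer ({F.φ qu} : Set G))} (hx : IsConj (F.φ qu) (x : G))
    (hsx : Equiv.Perm.sign (P.p x) = -1) : IsConj (P.p a) (P.p x) := by
  have hgH : F.g ∈ Subgroup.centralizer ({F.φ qu} : Set G) :=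
    Subgroup.mem_centralizer_singleton_iff.mpr F.g_comm_u
  have hinv : ∀ y : G, IsConj (F.φ qu) y → y * y = 1 := by
    intro y hy
    obtain ⟨c, rfl⟩ := isConj_iff.mp hy
    rw [show c * F.φ qu * c⁻¹ * (c * F.φ qu * c⁻¹) = c * (F.φ qu * F.φ qu) * c⁻¹ by group, F.u_sq]; group
  have hno : ∀ y : ↥(Subgroup.centralizer ({F.φ qu} : Set G)), IsConj (F.φ qu) (y : G) →
      ¬ IsConj (P.p ⟨F.g, hgH⟩) (P.p y) := by
    intro y hy h
    obtain ⟨t, e⟩ := isConj_iff.mp h
    obtain ⟨c, -, e' | e'⟩ := P.conj_lift e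
    · exact F.not_isConj_g (hy.trans (isConj_iff.mpr ⟨c, e'.symm⟩).symm)
    · exact F.not_isConj_gu (hy.trans (isConj_iff.mpr ⟨c, e'.symm⟩).symm)
  exact (odd_class_two (P.sq (hinv _ ha)) (P.sq F.g_sq) (P.sq (hinv _ hx)) hsa (P.g_sign hgH) hsx
    (fun h => hno a ha h.symm)).resolve_right (hno x hx)

/-- An odd number of conjugates of `u` in `C(u)` map to odd permutations. -/
theorem exists_hom {a : ↥(Subgroup.centralizer ({F.φ qu} : Set G))} (ha : IsConj (F.φ qu) (a : G))
    (hau : ¬ IsConj (F.φ qu) ((a : G) * F.φ qu)) (hsa : Equiv.Perm.sign (P.p a) = -1) :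
    ∃ f : G →* ℤˣ, f (F.φ qu) = -1 := by
  refine exists_hom_neg F.u_sq _ rfl (Equiv.Perm.sign.comp P.p) ?_
  have haa : (a : G) * a = 1 := by
    obtain ⟨c, e⟩ := isConj_iff.mp ha
    rw [← e, show c * F.φ qu * c⁻¹ * (c * F.φ qu * c⁻¹) = c * (F.φ qu * F.φ qu) * c⁻¹ by group, F.u_sq]; group
  have hcard : Nat.card {x : ↥(Subgroup.centralizer ({F.φ qu} : Set G)) //
      IsConj (F.φ qu) (x : G) ∧ (Equiv.Perm.sign.comp P.p) x = -1} = 15 := by
    rw [← card_odd_class (P.sq haa) hsa]
    refine Nat.card_congr (Equiv.ofBijective (fun x => ⟨P.p x.1, P.class_facts ha hau hsa x.2.1 x.2.2⟩) ⟨?_, ?_⟩)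
    · rintro ⟨x, hx, sx⟩ ⟨y, hy, sy⟩ e
      apply Subtype.ext
      have e' : P.p x = P.p y := congrArg Subtype.val e
      rcases P.lifts e' with h' | h'
      · exact Subtype.ext h'.symm
      · exfalso
        obtain ⟨t, ht⟩ := isConj_iff.mp (P.class_facts ha hau hsa hx sx)
        obtain ⟨c, hc, h1 | h1⟩ := P.conj_lift ht
        · refine hau (hy.trans ?_)
          refine (isConj_iff.mpr ⟨c, ?_⟩).symm
          rw [h', h1, show c * ((a : G) * F.φ qu) * c⁻¹ = c * a * c⁻¹ * (c * F.φ qu * c⁻¹) by group, hc]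
        · exact hau (hx.trans (isConj_iff.mpr ⟨c, h1.symm⟩).symm)
    · rintro ⟨b, hb⟩
      obtain ⟨t, rfl⟩ := isConj_iff.mp hb
      obtain ⟨h, rfl⟩ := P.surj t
      refine ⟨⟨h * a * h⁻¹, ha.trans (isConj_iff.mpr ⟨h, rfl⟩), ?_⟩, Subtype.ext (by simp)⟩
      show Equiv.Perm.sign (P.p (h * a * h⁻¹)) = -1
      simp [hsa, mul_comm]
  rw [hcard]
  decide

end Proj

end CfsgLib.SymEightLocal
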