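import Cfsg.Agent.Lib.SymEightLocal.Refute

/-!
The twisted case with `C(u) = N(D)`: conjugates of `r` and the separation of the involution classes.
-/

set_option autoImplicit false
set_option linter.style.haveILetI false

namespace CfsgLib.SymEightLocal

universe u

variable {G : Type u} [Group G] [Finite G]

/-- The hypotheses of the twisted case. -/
structure Twisted (F : Frame G) : Prop where
  tw : F.g * F.φ qr * F.g⁻¹ = F.φ qe
  cu : ∀ x : G, x * F.φ qu = F.φ qu * x → x ∈ Subgroup.normalizer (F.D : Set G)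

namespace Twisted

variable {F : Frame G} (T : Twisted F)
include T

theorem g_e : F.g * F.φ qe * F.g⁻¹ = F.φ qr := by rw [← T.tw, F.g_conj]

theorem g_r' : F.g * F.φ qr' * F.g⁻¹ = F.φ (qr * qu) := F.g_r'_of_twist T.tw

theorem g_c : F.g * F.φ qc * F.g⁻¹ = F.φ qc := by
  rw [show F.φ qc = F.φ qr * F.φ qe from map_mul _ _ _,
    show F.g * (F.φ qr * F.φ qe) * F.g⁻¹ = (F.g * F.φ qr * F.g⁻¹) * (F.g * F.φ qe * F.g⁻¹) by group,
    T.tw, T.g_e, ← map_mul, ← map_mul, qc_facts.1]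

theorem r_isConj_e : IsConj (F.φ qr) (F.φ qe) := isConj_iff.mpr ⟨F.g, T.tw⟩

theorem not_u_r : ¬ IsConj (F.φ qu) (F.φ qr) := F.not_isConj_r T.tw

/-- A Sylow 3-subgroup of `C(r)` has order three. -/
theorem sylow_cent_r (P : Sylow 3 ↥(Subgroup.centralizer ({F.φ qr} : Set G))) :
    Nat.card (P : Subgroup ↥(Subgroup.centralizer ({F.φ qr} : Set G))) = 3 := by
  haveI : Fact (Nat.Prime 3) := ⟨Nat.prime_three⟩
  let C := Subgroup.centralizer ({F.φ qr} : Set G)
  have h3 : 3 ∣ Nat.card C := by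
    have hm : F.φ qz' ∈ C := Subgroup.mem_centralizer_singleton_iff.mpr (by
      rw [← map_mul, ← qs_facts.2.2.2.2.2.2.2.2.2.1, map_mul])
    have := Subgroup.orderOf_dvd_natCard C hm
    rwa [orderOf_eq_prime (p := 3) (by rw [← map_pow, d0_ne.2.2.2.2.2.1, map_one])
      (fun e => d0_ne.2.2.1 (F.inj (e.trans (map_one F.φ).symm)))] at this
  obtain ⟨n, hn⟩ := IsPGroup.iff_card.mp P.2
  have hdvd : 3 ^ n ∣ Nat.card G := by
    rw [← hn]
    exact (Subgroup.card_subgroup_dvd_card _).trans (Subgroup.card_subgroup_dvd_card C)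
  have hn2 : n ≤ 2 := by
    by_contra hlt
    exact F.three ((pow_dvd_pow 3 (show 3 ≤ n by omega)).trans hdvd)
  have hn1 : 1 ≤ n := by
    by_contra hlt
    have hn0 : n = 0 := by omega
    rw [hn0, pow_zero] at hn
    have h := P.not_dvd_index
    apply h
    have := Subgroup.card_mul_index (P : Subgroup C)
    rw [hn, one_mul] at this
    rwa [this]
  rcases Nat.lt_or_ge n 2 with h | h
  · rw [hn, show n = 1 by omega, pow_one]
  · exfalso
    have h9 : Nat.card ((P : Subgroup C).map C.subtype) = 9 := by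
      rw [Subgroup.card_map_of_injective C.subtype_injective, hn, show n = 2 by omega]; norm_num
    obtain ⟨S, hS⟩ := (P.2.map C.subtype).exists_le_sylow
    have hSeq := Subgroup.eq_of_le_of_card_ge hS (by rw [h9, F.card_sylow_three S])
    have hDp : IsPGroup 3 ↥F.D := IsPGroup.of_card (n := 2) (by rw [F.card_D]; norm_num)
    obtain ⟨S', hS'⟩ := hDp.exists_le_sylow
    have hS'eq := Subgroup.eq_of_le_of_card_ge hS' (by rw [F.card_D, F.card_sylow_three S'])
    obtain ⟨h', hh⟩ := MulAction.exists_smul_eq G S' S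
    have hcen : h'⁻¹ * F.φ qr * h' ∈ Subgroup.centralizer (F.D : Set G) := by
      rw [Subgroup.mem_centralizer_iff]
      intro d hd
      have hm : h' * d * h'⁻¹ ∈ (S : Subgroup G) := by
        rw [← hh]
        exact ⟨d, hS'eq ▸ hd, rfl⟩
      rw [← hSeq] at hm
      obtain ⟨c, -, hc⟩ := hm
      have := Subgroup.mem_centralizer_singleton_iff.mp c.2
      calc d * (h'⁻¹ * F.φ qr * h') = h'⁻¹ * ((h' * d * h'⁻¹) * F.φ qr) * h' := by group
        _ = h'⁻¹ * (F.φ qr * (h' * d * h'⁻¹)) * h' := by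
          rw [show h' * d * h'⁻¹ = (c : G) from hc.symm, this]
        _ = _ := by group
    obtain ⟨q, hq, hqe⟩ := F.mem_centralizer_D.mp hcen
    have hq2 : q * q = 1 := F.inj (by
      rw [map_mul, hqe, map_one, show h'⁻¹ * F.φ qr * h' * (h'⁻¹ * F.φ qr * h') = h'⁻¹ * (F.φ qr * F.φ qr) * h' by group,
        ← map_mul, qr_facts.2.2.2.2.2.2.2.2.2.2.1, map_one]
      group)
    rcases inN_inC_unique q hq hq2 with e | e
    · rw [e, map_one] at hqe
      have : F.φ qr = 1 := by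
        calc F.φ qr = h' * (h'⁻¹ * F.φ qr * h') * h'⁻¹ := by group
          _ = 1 := by rw [← hqe]; group
      exact qs_facts.2.2.2.2.2.2.2.2.2.2.2.2.2.2.2.1 (F.inj (this.trans (map_one F.φ).symm))
    · refine T.not_u_r (isConj_iff.mpr ⟨h', ?_⟩)
      rw [← e, hqe]; group

/-- Conjugates of `r` centralize no conjugate of the diagonal element. -/
theorem not_diag_cent_r {k d : G} (hk : IsConj (F.φ qr) k) (hd : IsConj (F.φ qd) d) :
    k * d ≠ d * k := by
  haveI : Fact (Nat.Prime 3) := ⟨Nat.prime_three⟩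
  intro hkd
  obtain ⟨h, rfl⟩ := isConj_iff.mp hk
  let C := Subgroup.centralizer ({F.φ qr} : Set G)
  obtain ⟨e, he⟩ := isConj_iff.mp hd
  have hd3 : d ^ 3 = 1 := by
    rw [← he, conj_pow, ← map_pow, d0_ne.2.2.2.1, map_one]; group
  have hd1 : d ≠ 1 := fun h1 => d0_ne.1 (F.inj (by rw [← he, conj_eq_one_iff] at h1; rw [h1, map_one]))
  let d' : C := ⟨h⁻¹ * d * h, Subgroup.mem_centralizer_singleton_iff.mpr (by
    calc h⁻¹ * d * h * F.φ qr = h⁻¹ * (d * (h * F.φ qr * h⁻¹)) * h := by group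
      _ = _ := by rw [← hkd]; group)⟩
  let z : C := ⟨F.φ qz', Subgroup.mem_centralizer_singleton_iff.mpr (by
    rw [← map_mul, ← qs_facts.2.2.2.2.2.2.2.2.2.1, map_mul])⟩
  have hz3 : z ^ 3 = 1 := Subtype.ext (show F.φ qz' ^ 3 = 1 by rw [← map_pow, d0_ne.2.2.2.2.2.1, map_one])
  have hz1 : z ≠ 1 := fun e => d0_ne.2.2.1 (F.inj ((congrArg Subtype.val e).trans (map_one F.φ).symm))
  have hd'3 : d' ^ 3 = 1 := Subtype.ext (show (h⁻¹ * d * h) ^ 3 = 1 by
    have := conj_pow (i := 3) (a := h⁻¹) (b := d)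
    rw [inv_inv] at this
    rw [this, hd3]; group)
  have hd'1 : d' ≠ 1 := by
    intro e'
    apply hd1
    have e'' : h⁻¹ * d * h = 1 := congrArg Subtype.val e'
    calc d = h * (h⁻¹ * d * h) * h⁻¹ := by group
      _ = 1 := by rw [e'']; group
  have hpz : ∀ a : C, a ^ 3 = 1 → a ≠ 1 → ∃ P : Sylow 3 C, (P : Subgroup C) = Subgroup.zpowers a := by
    intro a ha ha1
    have ho : orderOf a = 3 := orderOf_eq_prime ha ha1
    obtain ⟨P, hP⟩ := (IsPGroup.of_card (p := 3) (G := Subgroup.zpowers a) (n := 1)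
      (by rw [Nat.card_zpowers, ho, pow_one])).exists_le_sylow
    exact ⟨P, (Subgroup.eq_of_le_of_card_ge hP (by rw [Nat.card_zpowers, ho, T.sylow_cent_r P])).symm⟩
  obtain ⟨P, hP⟩ := hpz z hz3 hz1
  obtain ⟨P', hP'⟩ := hpz d' hd'3 hd'1
  obtain ⟨c, hc⟩ := MulAction.exists_smul_eq C P' P
  have hm : c * d' * c⁻¹ ∈ Subgroup.zpowers z := by
    rw [← hP, ← hc]
    exact ⟨d', hP' ▸ Subgroup.mem_zpowers d', rfl⟩
  have hzc : Nat.card ↥(Subgroup.centralizer ({F.φ qz'} : Set G)) = 360 := by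
    rw [← F.g_z, CfsgLib.Invol.card_centralizer_of_isConj (isConj_iff.mpr ⟨F.g, rfl⟩ :
      IsConj (F.φ qz) (F.g * F.φ qz * F.g⁻¹)), F.card_cent_z]
  have key : ∀ a : G, IsConj d a → Nat.card ↥(Subgroup.centralizer ({a} : Set G)) = 36 := fun a ha => by
    rw [CfsgLib.Invol.card_centralizer_of_isConj (hd.trans ha), F.card_cent_d]
  have hconj : IsConj d ((c * d' * c⁻¹ : C) : G) := by
    refine isConj_iff.mpr ⟨(c : G) * h⁻¹, ?_⟩
    show (c : G) * h⁻¹ * d * ((c : G) * h⁻¹)⁻¹ = (c : G) * (h⁻¹ * d * h) * (c : G)⁻¹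
    group
  have h36 := key _ hconj
  have hin : ((c * d' * c⁻¹ : C) : G) = F.φ qz' ∨ ((c * d' * c⁻¹ : C) : G) = F.φ qz'⁻¹ := by
    obtain ⟨n, hn⟩ := Submonoid.mem_powers_iff _ _ |>.mp
      ((isOfFinOrder_of_finite z).mem_powers_iff_mem_zpowers.mpr hm)
    rw [← Nat.mod_add_div n 3, pow_add, pow_mul, hz3, one_pow, mul_one] at hn
    have := Nat.mod_lt n (show 3 > 0 by norm_num)
    interval_cases h' : n % 3
    · rw [pow_zero, eq_comm, conj_eq_one_iff] at hn
      exact absurd hn hd'1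
    · rw [pow_one] at hn
      exact Or.inl (by rw [← hn])
    · refine Or.inr ?_
      rw [← hn, map_inv]
      exact eq_inv_of_mul_eq_one_right (by
        show F.φ qz' * F.φ qz' ^ 2 = 1
        rw [← pow_succ', ← map_pow, d0_ne.2.2.2.2.2.1, map_one])
  rcases hin with e' | e'
  · rw [e', hzc] at h36; omega
  · have hc2 : IsConj (F.φ qz') (F.φ qz'⁻¹) := isConj_iff.mpr ⟨F.φ qr', by
      rw [← map_inv, ← map_mul, ← map_mul, qr_facts.2.2.1]⟩
    rw [e', CfsgLib.Invol.card_centralizer_of_isConj hc2, hzc] at h36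
    omega

theorem diag_commute (j : Bool) :
    ¬ IsConj (F.φ qr) (F.g * (if j then F.φ qu else 1)) := by
  intro h
  refine T.not_diag_cent_r h (IsConj.refl _) ?_
  cases j
  · simpa using F.g_comm_d
  · have hc : F.φ qu * F.φ qd = F.φ qd * F.φ qu := by rw [← map_mul, ← map_mul, qd_commutes.1]
    simp only [if_true]
    rw [mul_assoc, hc, ← mul_assoc, F.g_comm_d, mul_assoc]

/-- An involution of `N(D)` moving `z` centralizes a conjugate of the diagonal element. -/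
theorem swap_diag {q : Q35} (hq : InN q) (h2 : (F.g * F.φ q) * (F.g * F.φ q) = 1) :
    ∃ d, IsConj (F.φ qd) d ∧ (F.g * F.φ q) * d = d * (F.g * F.φ q) := by
  set t := F.g * F.φ q with ht
  have htt : ∀ a, t * (t * a * t⁻¹) * t⁻¹ = a := fun a => by
    rw [inv_eq_of_mul_eq_one_right h2, show t * (t * a * t) * t = t * t * a * (t * t) by group, h2]
    group
  have key : ∀ p : Q35, t * F.φ qz * t⁻¹ = F.φ p → qz * p = p * qz →
      t * F.φ (qz * p) = F.φ (qz * p) * t := by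
    intro p hp hc
    rw [← mul_inv_eq_iff_eq_mul]
    calc t * F.φ (qz * p) * t⁻¹ = (t * F.φ qz * t⁻¹) * (t * F.φ p * t⁻¹) := by rw [map_mul]; group
      _ = F.φ p * F.φ qz := by rw [hp, ← hp, htt]
      _ = _ := by rw [← map_mul, hc]
  have himg : ∀ p, q * qz * q⁻¹ = p → t * F.φ qz * t⁻¹ = F.g * F.φ p * F.g⁻¹ := fun p hp => by
    rw [← hp, map_mul, map_mul, map_inv, ht]; group
  rcases inN_conj_qz q hq with ⟨e, e'⟩ | ⟨e, e'⟩
  · refine ⟨F.φ qd, IsConj.refl _, ?_⟩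
    have := key qz' (by rw [himg _ e, F.g_z]) (by rw [qr_facts.2.2.2.2.1, qr_facts.2.2.2.2.2.1])
    rwa [e'] at this
  · refine ⟨F.φ (qr' * qd * qr'⁻¹), isConj_iff.mpr ⟨F.φ qr', by rw [← map_inv, ← map_mul, ← map_mul]⟩, ?_⟩
    have := key qz'⁻¹ (by rw [himg _ e, map_inv, ← conj_inv, F.g_z, map_inv]) (by decide +kernel)
    rwa [e'] at this

/-- The involution `u` is not the product of two commuting conjugates of `r`. -/
theorem no_split {k : G} (hk : IsConj (F.φ qr) k) (hku : IsConj (F.φ qr) (k * F.φ qu))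
    (hc : k * F.φ qu = F.φ qu * k) : False := by
  obtain ⟨q, hq, e | e⟩ := F.mem_normalizer_D.mp (T.cu k hc)
  · have h2 : q * q = 1 := by
      obtain ⟨c, hc'⟩ := isConj_iff.mp hk
      apply F.inj
      rw [map_mul, map_one, ← e, ← hc', show c * F.φ qr * c⁻¹ * (c * F.φ qr * c⁻¹) = c * (F.φ qr * F.φ qr) * c⁻¹ by group,
        ← map_mul, qr_facts.2.2.2.2.2.2.2.2.2.2.1, map_one]
      group
    have hX : ∀ p h : Q35, h * qu * h⁻¹ = p ∨ h * (qr * qu) * h⁻¹ = p → IsConj (F.φ qu) (F.φ p) := by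
      intro p h hh
      rcases hh with rfl | rfl
      · exact isConj_iff.mpr ⟨F.φ h, by rw [← map_inv, ← map_mul, ← map_mul]⟩
      · exact (F.u_isConj_ru T.tw).trans (isConj_iff.mpr ⟨F.φ h, by rw [← map_inv, ← map_mul, ← map_mul]⟩)
    rcases inN_invol q hq h2 with h1 | h1 | ⟨h, h1⟩ | ⟨h, h1⟩
    · rw [e, h1, map_one] at hk
      obtain ⟨c, hc'⟩ := isConj_iff.mp hk
      exact qs_facts.2.2.2.2.2.2.2.2.2.2.2.2.2.2.2.1 (F.inj ((conj_eq_one_iff.mp hc').trans (map_one F.φ).symm))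
    · rw [e, h1] at hk
      exact T.not_u_r hk.symm
    · exact T.not_u_r ((hX q h h1).trans (e ▸ hk).symm)
    · refine T.not_u_r ((hX _ h h1).trans ?_)
      rw [map_mul, ← e]
      exact hku.symm
  · obtain ⟨d, hd, hcd⟩ := T.swap_diag hq (by
      rw [← e]
      obtain ⟨c, hc'⟩ := isConj_iff.mp hk
      rw [← hc', show c * F.φ qr * c⁻¹ * (c * F.φ qr * c⁻¹) = c * (F.φ qr * F.φ qr) * c⁻¹ by group,
        ← map_mul, qr_facts.2.2.2.2.2.2.2.2.2.2.1, map_one]
      group)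
    exact T.not_diag_cent_r hk hd (e ▸ hcd)

theorem not_u_c : ¬ IsConj (F.φ qu) (F.φ qc) := by
  intro h
  obtain ⟨c, hc⟩ := isConj_iff.mp h
  have hu : F.φ qu = c⁻¹ * F.φ qc * c := by rw [← hc]; group
  refine T.no_split (k := c⁻¹ * F.φ qr * c) (isConj_iff.mpr ⟨c⁻¹, by group⟩)
    (T.r_isConj_e.trans (isConj_iff.mpr ⟨c⁻¹, ?_⟩)) ?_
  · rw [hu, show c⁻¹ * F.φ qr * c * (c⁻¹ * F.φ qc * c) = c⁻¹ * (F.φ qr * F.φ qc) * c by group, ← map_mul,
      qc_facts.2.1]
    group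
  · have hrc : F.φ qr * F.φ qc = F.φ qc * F.φ qr := by
      rw [← map_mul, ← map_mul]
      exact congrArg F.φ (show qr * qc = qc * qr by decide +kernel)
    rw [hu, show c⁻¹ * F.φ qr * c * (c⁻¹ * F.φ qc * c) = c⁻¹ * (F.φ qr * F.φ qc) * c by group, hrc]
    group

end Twisted

end CfsgLib.SymEightLocal
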